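import Cfsg.Agent.Lib.A8S.ModB

/-!
# BAS: the frame (plans/A8S.md)
-/

set_option autoImplicit false
set_option linter.unusedSectionVars false
set_option Elab.async false

namespace CfsgLib.A8S

open Subgroup Cfsg CfsgLib.Tech CfsgLib.W2 CfsgLib.Classical

universe u

variable {G : Type u} [Group G] [Finite G] {ι : A8 →* G} {t : G} {K : Subgroup G}

omit [Finite G] in
theorem El.comm {X : Subgroup G} (h : El X) {a b : G} (ha : a ∈ X) (hb : b ∈ X) : a * b = b * a := by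
  have e : ∀ c ∈ X, c⁻¹ = c := fun c hc => inv_eq_of_mul_eq_one_right (h c hc)
  rw [← e _ (mul_mem ha hb), mul_inv_rev, e a ha, e b hb]

omit [Finite G] in
theorem El.pg {X : Subgroup G} (h : El X) : IsPGroup 2 X := fun g => ⟨1, Subtype.ext (by rw [pow_one, pow_two]; exact h g g.2)⟩

omit [Finite G] in
theorem El.cj {X : Subgroup G} (h : El X) (g : G) : El (cj g X) := fun a ha => by
  have := h _ (mem_cj.1 ha)
  rw [show a * a = g * (g⁻¹ * a * g * (g⁻¹ * a * g)) * g⁻¹ by group, this, mul_one, mul_inv_cancel]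

section
omit [Finite G]
variable {g h : G} {p q : S8}

theorem Ac.mul (h1 : Ac ι g p) (h2 : Ac ι h q) : Ac ι (g * h) (p * q) := fun a => by
  rw [cA_mul, ← h1, ← h2]; group

theorem Ac.inv (h1 : Ac ι g p) : Ac ι g⁻¹ p⁻¹ := fun a => by
  have := h1 (cA p⁻¹ a)
  rw [← cA_mul, mul_inv_cancel, cA_one] at this
  rw [← this]; group

theorem Ac.pow (h1 : Ac ι g p) (n : ℕ) : Ac ι (g ^ n) (p ^ n) := by
  induction n with
  | zero => exact fun a => by rw [pow_zero, pow_zero, cA_one, one_mul, inv_one, mul_one]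
  | succ n ih => rw [pow_succ, pow_succ]; exact ih.mul h1

theorem ac_i (a : A8) : Ac ι (ι a) a := fun b => by
  rw [cA_coe, map_mul, map_mul, map_inv]

theorem ac_one_iff : Ac ι g 1 ↔ CL ι g := forall_congr' fun a => by
  rw [cA_one, mul_inv_eq_iff_eq_mul]

theorem CL_iff : CL ι g ↔ g ∈ centralizer (ι.range : Set G) :=  ⟨fun h => by rintro _ ⟨a, rfl⟩; exact (h a).symm, fun h a => (h _ ⟨a, rfl⟩).symm⟩

theorem Ac.unique (hi : Function.Injective ι) (h1 : Ac ι g p) (h2 : Ac ι g q) : p = q :=  cA_inj fun a => hi ((h1 a).symm.trans (h2 a))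

theorem Ac.cl (h1 : Ac ι g p) (h2 : Ac ι h p) : CL ι (h⁻¹ * g) :=  ac_one_iff.1 (by have := h2.inv.mul h1; rwa [inv_mul_cancel] at this)

theorem flip_app (a : A8) : flip ι a = ι (cA τ a) := rfl

theorem cA_ττ (a : A8) : cA τ (cA τ a) = a := by rw [← cA_mul, τ_sq, cA_one]

theorem flip_τ (a : A8) : flip ι (cA τ a) = ι a := by rw [flip_app, cA_ττ]

theorem Ac.flip (h1 : Ac ι g p) : Ac (flip ι) g (τ * p * τ) := fun a => by
  rw [flip_app, flip_app, h1, cA_mul, cA_mul, cA_ττ]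

theorem flip_x (i j : Fin 4) : flip ι (x i j) = ι (x j.rev i.rev) := congrArg ι (τ_x i j)

theorem flip_flip : flip (flip ι) = ι := MonoidHom.ext fun a => flip_τ a

theorem flip_range : (flip ι).range = ι.range :=  le_antisymm (by rintro _ ⟨a, rfl⟩; exact ⟨_, rfl⟩) (by rintro _ ⟨a, rfl⟩; exact ⟨_, flip_τ a⟩)

theorem img_flip : img (flip ι) E1 = img ι E3 ∧ img (flip ι) W8 = img ι W8 := by
  have w : ∀ a : A8, (a : S8) ∈ W8 → (cA τ a : S8) ∈ W8 := fun a ha =>
    mul_mem (mul_mem τ_W ha) (inv_mem τ_W)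
  refine ⟨le_antisymm ?_ ?_, le_antisymm ?_ ?_⟩ <;> rintro _ ⟨a, ha, rfl⟩
  exacts [⟨cA τ a, τ_E3.2 ha, rfl⟩, ⟨cA τ a, τ_E1.2 ha, flip_τ a⟩, ⟨cA τ a, w a ha, rfl⟩,
    ⟨cA τ a, w a ha, flip_τ a⟩]

theorem CL_flip : CL (flip ι) g ↔ CL ι g := by
  rw [CL_iff, CL_iff, flip_range]

theorem CO_flip : CO (flip ι) t g ↔ CO ι t g := by
  simp only [CO, Od, CL_flip]

theorem CL.eq_one (hi : Function.Injective ι) {a : A8} (h1 : CL ι (ι a)) : a = 1 :=  Subtype.ext (cA_inj fun b => hi (by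
    rw [← ac_i, h1, mul_inv_cancel_right]
    exact congrArg ι (cA_one b).symm))

theorem card_img (hi : Function.Injective ι) (X : Subgroup S8) :
    Nat.card (img ι X) = Nat.card (X.subgroupOf (PG.alt 8)) :=  card_map_of_injective hi

end

theorem Ac.norm {g : G} {p : S8} (h1 : Ac ι g p) : g ∈ normalizer (ι.range : Set G) :=  mem_normalizer_of_forall (by rintro _ ⟨a, rfl⟩; exact ⟨_, (h1 a).symm⟩)

theorem ac_of_norm (hi : Function.Injective ι) {g : G} (hg : g ∈ normalizer (ι.range : Set G)) :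
    ∃ p, Ac ι g p := by
  let e := MonoidHom.ofInjective hi
  obtain ⟨p, hp⟩ := aut_A8 (e.trans ((ι.range.normalizerMonoidHom ⟨g, hg⟩).trans e.symm))
  refine ⟨p, fun a => ?_⟩
  rw [← hp, MulEquiv.trans_apply, MulEquiv.trans_apply, MonoidHom.apply_ofInjective_symm]
  rfl

theorem perf_range : ι.range ≤ ⁅ι.range, ι.range⁆ := by
  rw [MonoidHom.range_eq_map, ← map_commutator]
  exact map_mono perf_A8

theorem syl_U (hi : Function.Injective ι) : IsSylowIn 2 (img ι W8) ι.range :=  ⟨map_le_range _ _, syl_U8.pgroup.map ι, by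
    rw [img, MonoidHom.range_eq_map, relIndex_map_map_of_injective _ _ hi]
    exact syl_U8.not_dvd⟩

/-- a 2-group normalising `L` and containing `U` acts through `W8` -/
theorem ac_W (hi : Function.Injective ι) {T : Subgroup G} (hT : IsPGroup 2 T) (hU : img ι W8 ≤ T)
    {w : G} (hw : w ∈ T) {p : S8} (hp : Ac ι w p) : p ∈ W8 := by
  have e : img ι W8 = T ⊓ ι.range := ((syl_U hi).eq_of_le (hT.to_le inf_le_left)
    (le_inf hU (syl_U hi).le) inf_le_right).symm
  refine mem_W8_of fun a ha => ?_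
  obtain ⟨b, hb, e'⟩ : ι (cA p a) ∈ img ι W8 := by
    rw [e]
    exact mem_inf.2 ⟨hp a ▸ T.mul_mem (T.mul_mem hw (hU (i_mem_img ha))) (T.inv_mem hw), _, rfl⟩
  exact hi e' ▸ hb

end CfsgLib.A8S
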