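import Cfsg.Agent.Lib.A8S.BasA

/-!
# BAS (second part): the frame `Fr0` (plans/A8S.md)
-/

set_option autoImplicit false
set_option linter.unusedSectionVars false
set_option Elab.async false

namespace CfsgLib.A8S

open Subgroup Cfsg CfsgLib.Tech CfsgLib.W2 CfsgLib.Classical

universe u

variable {G : Type u} [Group G] [Finite G] {ι : A8 →* G} {t : G} {K : Subgroup G}

omit [Finite G] in
/-- elements of `⟨s⟩ A` for an involution `s` normalising `A` -/
theorem bb_mem {A : Subgroup G} {s g : G} (hs : s * s = 1) (hn : s ∈ normalizer (A : Set G)) :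
    g ∈ zpowers s ⊔ A ↔ g ∈ A ∨ s * g ∈ A := by
  refine ⟨fun h => ?_, fun h => h.elim mem_sup_right fun h => ?_⟩
  · refine (Gold.R2.mem_sup_zpowers hs hn (sup_comm (zpowers s) A ▸ inv_mem h)).imp
      (fun h => by simpa using inv_mem h) fun h => ?_
    have := inv_mem h
    rwa [mul_inv_rev, inv_inv, inv_eq_of_mul_eq_one_right hs] at this
  · rw [← one_mul g, ← hs, mul_assoc]
    exact mul_mem (mem_sup_left (mem_zpowers s)) (mem_sup_right h)

omit [Finite G] in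
theorem bb_card {A : Subgroup G} {s : G} (hs : s * s = 1) (hn : s ∈ normalizer (A : Set G))
    (hA : s ∉ A) : Nat.card (zpowers s ⊔ A : Subgroup G) = 2 * Nat.card A := by
  have h1 : s ≠ 1 := fun e => hA (e ▸ A.one_mem)
  rw [Core.card_sup_of_le_normalizer_of_disjoint (zpowers_le.2 hn), Nat.card_zpowers,
    Invol.orderOf_eq_two h1 hs]
  refine eq_bot_iff.2 fun g hg => ?_
  rcases Gold.MainAux.mem_zpowers_invol hs hg.1 with e | e
  · exact e
  · exact absurd (e ▸ hg.2) hA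

theorem bb_norm {a : G} {p : S8} (ha : Ac ι a p) {X : Subgroup S8} (hX : p ∈ X) :
    a ∈ normalizer (img ι X : Set G) :=
  mem_normalizer_of_forall (by
    rintro _ ⟨b, hb, rfl⟩
    exact ⟨cA p b, mul_mem (mul_mem hX hb) (inv_mem hX), (ha b).symm⟩)

omit [Finite G] in
theorem bb_out (hi : Function.Injective ι) {a : G} (ha : Ac ι a τ) (b : A8) : ι b ≠ a := fun e =>
  τ_odd (ha.unique hi (e ▸ ac_i b) ▸ b.2)

namespace Fr0

variable (F : Fr0 ι t)
include F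

theorem flip : Fr0 (flip ι) t :=
  ⟨fun _ _ h => by simpa only [cH_apply, cA_ττ] using congrArg (cA τ) (F.inj h), F.t2, F.t1, CL_flip.2 F.tC,
    fun g hg => (F.aut g hg).elim fun _ h => ⟨_, h.flip⟩, by rw [flip_range]; exact F.cyc⟩

theorem exists_π : ∃ π : Cx t →* S8, ∀ g : Cx t, Ac ι g (π g) := by
  choose f hf using fun g : Cx t => F.aut g (mem_Cx.1 g.2)
  exact ⟨MonoidHom.mk' f fun a b => (hf (a * b)).unique F.inj ((hf a).mul (hf b)), hf⟩

theorem i_ne_t (a : A8) : ι a ≠ t := fun e =>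
  F.t1 (by rw [← e, CL.eq_one (a := a) F.inj (e ▸ F.tC), map_one])

theorem ti_ne_one (a : A8) : t * ι a ≠ 1 := fun e =>
  F.i_ne_t a (mul_left_cancel (e.trans F.t2.symm))

/-- an involution of `C(L) ∩ C(t)` is `t` -/
theorem eq_t {c : G} (h1 : CL ι c) (h2 : c * t = t * c) (h3 : c * c = 1) : c = 1 ∨ c = t := by
  refine or_iff_not_imp_left.2 fun c1 => ?_
  have two : ∀ g : G, g * g = 1 → IsPGroup 2 (zpowers g) := fun g hg =>
    El.pg fun x hx => by rcases Gold.MainAux.mem_zpowers_invol hg hx with rfl | rfl <;> simp [hg]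
  exact Transfer.eq_of_orderOf_eq_two_of_isCyclic
    (F.cyc (zpowers c ⊔ zpowers t) (sup_le (zpowers_le.2 (CL_iff.1 h1)) (zpowers_le.2 (CL_iff.1 F.tC)))
      (Invol.isPGroup_zpowers_sup (two c h3) (two t F.t2) h2))
    (mem_sup_left (mem_zpowers c)) (mem_sup_right (mem_zpowers t)) (Invol.orderOf_eq_two c1 h3)
    (Invol.orderOf_eq_two F.t1 F.t2)

/-- an involution of `C(t)` inducing an even permutation -/
theorem inv_even {s : G} (h1 : s * t = t * s) (h2 : s * s = 1) {a : A8} (h3 : Ac ι s a) :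
    s = ι a ∨ s = t * ι a := by
  have a2 : a * a = 1 := Subtype.ext ((h3.mul h3).unique F.inj (h2 ▸ ac_one_iff.2 fun b => by simp))
  have i2 : ι a * ι a = 1 := by rw [← map_mul, a2, map_one]
  have sa : s * ι a = ι a * s := by
    have := h3 a
    rwa [cA_coe, mul_inv_cancel_right, mul_inv_eq_iff_eq_mul] at this
  have hc := h3.cl (ac_i a)
  rw [inv_eq_of_mul_eq_one_right i2] at hc
  refine (F.eq_t hc (by rw [mul_assoc, h1, ← mul_assoc, ← F.tC, mul_assoc]) (by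
    rw [mul_assoc, ← mul_assoc s, sa, mul_assoc, h2, mul_one, i2])).imp (fun e => ?_) fun e => ?_
  · rw [← one_mul s, ← i2, mul_assoc, e, mul_one]
  · rw [F.tC, ← e, ← mul_assoc, i2, one_mul]

theorem mem_sT {X : Subgroup S8} {g : G} :
    g ∈ sT ι t X ↔ ∃ a : A8, (a : S8) ∈ X ∧ (g = ι a ∨ g = t * ι a) := by
  rw [sT, bb_mem F.t2 (bb_norm (ac_one_iff.2 F.tC) X.one_mem)]
  constructor
  · rintro (⟨a, ha, e⟩ | ⟨a, ha, e⟩)
    · exact ⟨a, ha, .inl e.symm⟩
    · exact ⟨a, ha, .inr (by rw [e, ← mul_assoc, F.t2, one_mul])⟩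
  · rintro ⟨a, ha, rfl | rfl⟩
    · exact .inl (i_mem_img ha)
    · exact .inr (by rw [← mul_assoc, F.t2, one_mul]; exact i_mem_img ha)

theorem card_sT (X : Subgroup S8) :
    Nat.card (sT ι t X) = 2 * Nat.card (X.subgroupOf (PG.alt 8)) := by
  rw [sT, bb_card F.t2 (bb_norm (ac_one_iff.2 F.tC) X.one_mem) fun ⟨a, _, e⟩ => F.i_ne_t a e,
    card_img F.inj]

theorem el_sT {X : Subgroup S8} (hX : El X) : El (sT ι t X) := by
  intro g hg
  obtain ⟨a, ha, h⟩ := F.mem_sT.1 hg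
  have i2 : ι a * ι a = 1 := by rw [← map_mul, show a * a = 1 from Subtype.ext (hX _ ha), map_one]
  rcases h with rfl | rfl
  · exact i2
  · rw [mul_assoc, ← mul_assoc (ι a), ← F.tC, mul_assoc, i2, mul_one, F.t2]

theorem bb_tn {a : G} (ha : Out ι t a) (X : Subgroup S8) :
    t ∈ normalizer ((zpowers a ⊔ img ι X : Subgroup G) : Set G) :=
  centralizer_le_normalizer _ fun _ hg => mem_Cx.1 ((sup_le (zpowers_le.2 (mem_Cx.2 ha.ct))
    (by rintro _ ⟨b, -, rfl⟩; exact mem_Cx.2 (F.tC b).symm) : _ ≤ Cx t) hg)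

theorem mem_sO {a : G} (ha : Out ι t a) {X : Subgroup S8} (hX : τ ∈ X) {g : G} :
    g ∈ sO ι t a X ↔ ∃ b : A8, (b : S8) ∈ X ∧
      (g = ι b ∨ g = t * ι b ∨ g = a * ι b ∨ g = t * (a * ι b)) := by
  have e1 : ∀ {s u v : G}, s * s = 1 → (u = s * v ↔ v = s * u) := fun {s u v} hs =>
    ⟨fun e => by rw [e, ← mul_assoc, hs, one_mul], fun e => by rw [e, ← mul_assoc, hs, one_mul]⟩
  rw [sO, bb_mem F.t2 (F.bb_tn ha X), bb_mem ha.sq (bb_norm ha.ac hX), bb_mem ha.sq (bb_norm ha.ac hX)]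
  constructor
  · rintro ((⟨b, hb, e⟩ | ⟨b, hb, e⟩) | ⟨b, hb, e⟩ | ⟨b, hb, e⟩) <;> refine ⟨b, hb, ?_⟩
    exacts [.inl e.symm, .inr (.inr (.inl ((e1 ha.sq).1 e))), .inr (.inl ((e1 F.t2).1 e)),
      .inr (.inr (.inr ((e1 F.t2).1 ((e1 ha.sq).1 e).symm)))]
  · rintro ⟨b, hb, e | e | e | e⟩
    exacts [.inl (.inl ⟨b, hb, e.symm⟩), .inr (.inl ⟨b, hb, (e1 F.t2).1 e⟩),
      .inl (.inr ⟨b, hb, (e1 ha.sq).1 e⟩), .inr (.inr ⟨b, hb, (e1 ha.sq).1 ((e1 F.t2).1 e).symm⟩)]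

theorem card_sO {a : G} (ha : Out ι t a) {X : Subgroup S8} (hX : τ ∈ X) :
    Nat.card (sO ι t a X) = 4 * Nat.card (X.subgroupOf (PG.alt 8)) := by
  rw [sO, bb_card F.t2 (F.bb_tn ha X), bb_card ha.sq (bb_norm ha.ac hX)
    fun ⟨b, _, e⟩ => bb_out F.inj ha.ac b e, card_img F.inj, ← mul_assoc]
  · rfl
  rw [bb_mem ha.sq (bb_norm ha.ac hX)]
  rintro (⟨b, -, e⟩ | ⟨b, -, e⟩)
  · exact F.i_ne_t b e
  · exact bb_out F.inj (by simpa using ha.ac.mul (ac_one_iff.2 F.tC)) b e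

theorem el_sO {a : G} (ha : Out ι t a) {X : Subgroup S8} (hX : τ ∈ X) (h : El X) :
    El (sO ι t a X) := by
  intro g hg
  obtain ⟨b, hb, e⟩ := (F.mem_sO ha hX).1 hg
  have i2 : ι b * ι b = 1 := by rw [← map_mul, show b * b = 1 from Subtype.ext (h _ hb), map_one]
  have ab : a * ι b = ι b * a := by
    have := ha.ac b
    rwa [show cA τ b = b from Subtype.ext (by rw [cA_val, h.comm hX hb, mul_inv_cancel_right]),
      mul_inv_eq_iff_eq_mul] at this
  have c : ∀ u v : G, Commute u v → u * u = 1 → v * v = 1 → u * v * (u * v) = 1 := fun u v h1 h2 h3 => by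
    rw [mul_assoc, ← mul_assoc v, ← h1.eq, mul_assoc, h3, mul_one, h2]
  rcases e with rfl | rfl | rfl | rfl
  exacts [i2, c _ _ (F.tC b) F.t2 i2, c _ _ ab ha.sq i2,
    c _ _ (Commute.mul_right ha.ct.symm (F.tC b)) F.t2 (c _ _ ab ha.sq i2)]

theorem out_t {a : G} (ha : Out ι t a) : Out ι t (t * a) :=
  ⟨by rw [mul_assoc, ha.ct], by
    rw [mul_assoc, ← mul_assoc a, ha.ct, mul_assoc, ha.sq, mul_one, F.t2],
    by simpa using (ac_one_iff.2 F.tC).mul ha.ac⟩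

/-- the involutions of `C(t)` up to conjugacy in `L` -/
theorem inv_cls {s : G} (h1 : s * t = t * s) (h2 : s * s = 1) : ∃ l : A8,
    (∃ b : A8, (b = 1 ∨ b = z ∨ b = y) ∧ (ι l * s * (ι l)⁻¹ = ι b ∨ ι l * s * (ι l)⁻¹ = t * ι b)) ∨
      ∃ a, Out ι t a ∧ (ι l * s * (ι l)⁻¹ = a ∨ ι l * s * (ι l)⁻¹ = a * ι ys) := by
  obtain ⟨p, hp⟩ := F.aut s h1
  obtain ⟨l, hl⟩ := A8S.inv_cls ((hp.mul hp).unique F.inj (h2 ▸ ac_one_iff.2 fun b => by simp))
  have hq : Ac ι (ι l * s * (ι l)⁻¹) (l * p * l⁻¹) := ((ac_i l).mul hp).mul (ac_i l).inv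
  set u := ι l * s * (ι l)⁻¹ with hu
  have ut : u * t = t * u :=
    (((Commute.mul_left (F.tC l).symm h1).mul_left (Commute.inv_left (F.tC l).symm))).eq
  have u2 : u * u = 1 := by
    rw [show u * u = ι l * (s * s) * (ι l)⁻¹ by rw [hu]; group, h2, mul_one, mul_inv_cancel]
  refine ⟨l, ?_⟩
  rcases hl with e | e | e | e | e <;> rw [e] at hq
  · exact .inl ⟨1, .inl rfl, F.inv_even ut u2 hq⟩
  · exact .inl ⟨z, .inr (.inl rfl), F.inv_even ut u2 hq⟩
  · exact .inl ⟨y, .inr (.inr rfl), F.inv_even ut u2 hq⟩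
  · exact .inr ⟨u, ⟨ut, u2, hq⟩, .inl rfl⟩
  · have y2 : ι ys * ι ys = 1 := by rw [← map_mul, show ys * ys = 1 by decide +kernel, map_one]
    have uy : u * ι ys = ι ys * u := by
      have := hq ys
      rwa [show cA (τ * ys) ys = ys by decide +kernel, mul_inv_eq_iff_eq_mul] at this
    refine .inr ⟨u * ι ys, ⟨(Commute.mul_left ut (F.tC ys).symm).eq, by
      rw [mul_assoc u, ← mul_assoc (ι ys), ← uy, mul_assoc u, y2, mul_one, u2], ?_⟩,
      .inr (by rw [mul_assoc u, y2, mul_one])⟩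
    have := hq.mul (ac_i ys)
    rwa [show τ * ys * ys = τ by decide +kernel] at this

/-- conjugation of outer elements -/
theorem conj_out {a : G} (ha : Out ι t a) {b b' l : A8} (h : l * (τ * b) * l⁻¹ = τ * b') :
    ι l * (a * ι b) * (ι l)⁻¹ = a * ι b' := by
  have e : l * cA τ (b * l⁻¹) = cA τ b' := Subtype.ext (by
    rw [cA_val, ← h]
    simp only [coe_mul, cA_val, coe_inv, mul_assoc])
  have h1 := ha.ac (b * l⁻¹)
  have h2 := ha.ac b'
  rw [mul_inv_eq_iff_eq_mul] at h1 h2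
  rw [h2, ← e, map_mul, mul_assoc _ _ a, ← h1, map_mul, map_inv]
  simp only [mul_assoc]

theorem le_K (g : SLE.Glob K t) : ι.range ≤ K := g.pf_le perf_range

theorem ne_K (g : SLE.Glob K t) : ¬ K ≤ normalizer (ι.range : Set G) := by
  intro h
  have := g.simple
  rcases ((normal_subgroupOf_iff_le_normalizer (F.le_K g)).2 h).eq_bot_or_eq_top with e | e
  · have := (subgroupOf_eq_bot.1 e).eq_bot_of_le (F.le_K g)
    exact x_ne 0 3 (by decide) (F.inj (by rw [map_one]; exact mem_bot.1 (this ▸ ⟨_, rfl⟩)))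
  · exact F.t1 (mem_bot.1 (g.cen ▸ centralizer_le (subgroupOf_eq_top.1 e) (CL_iff.1 F.tC)))

end Fr0

end CfsgLib.A8S
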