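import Cfsg.Agent.Lib.W2.PermCode
import Cfsg.Agent.Lib.W2.Tools
import Cfsg.Agent.Lib.SLE.NG
import Cfsg.Agent.Lib.SLE.Red
import Cfsg.Agent.Lib.Classical.SmallIso

/-!
# Standard component `A₈ = L₄(2)` with cyclic centraliser: definitions (plans/A8S.md)
-/

set_option autoImplicit false
set_option linter.unusedSectionVars false

namespace CfsgLib.A8S

open Subgroup Cfsg CfsgLib.Tech CfsgLib.W2 CfsgLib.Classical

noncomputable section

abbrev S8 : Type := PG 8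
abbrev A8 : Type := AG 8

/-- conjugation of an even permutation by an arbitrary one -/
def cA (p : S8) (a : A8) : A8 :=
  ⟨p * a * p⁻¹, (inferInstance : (PG.alt 8).Normal).conj_mem _ a.2 p⟩

theorem cA_val (p : S8) (a : A8) : (cA p a : S8) = p * a * p⁻¹ := rfl

/-- `cA p` as a homomorphism -/
def cH (p : S8) : A8 →* A8 where
  toFun := cA p
  map_one' := Subtype.ext (by simp [cA_val])
  map_mul' a b := Subtype.ext (by simp [cA_val, mul_assoc])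

theorem cH_apply (p : S8) (a : A8) : cH p a = cA p a := rfl

theorem cA_coe (b a : A8) : cA b a = b * a * b⁻¹ := rfl

theorem cA_mul (p q : S8) (a : A8) : cA (p * q) a = cA p (cA q a) :=
  Subtype.ext (by simp [cA_val, mul_assoc])

theorem cA_one (a : A8) : cA 1 a = a := Subtype.ext (by simp [cA_val])

/-- the root elements `x i j` of `L₄(2)` (`x i i = 1`) -/
def x (i j : Fin 4) : A8 := AG.al
  (![![[0, 1, 2, 3, 4, 5, 6, 7], [4, 5, 6, 7, 0, 1, 2, 3], [2, 3, 0, 1, 6, 7, 4, 5], [1, 0, 3, 2, 5, 4, 7, 6]],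
    ![[7, 4, 6, 5, 1, 3, 2, 0], [0, 1, 2, 3, 4, 5, 6, 7], [1, 0, 3, 2, 7, 6, 5, 4], [3, 2, 1, 0, 6, 7, 4, 5]],
    ![[3, 6, 4, 0, 2, 7, 1, 5], [1, 0, 7, 6, 5, 4, 3, 2], [0, 1, 2, 3, 4, 5, 6, 7], [5, 4, 6, 7, 1, 0, 2, 3]],
    ![[1, 0, 5, 6, 7, 2, 3, 4], [6, 3, 4, 1, 2, 7, 0, 5], [4, 7, 6, 5, 0, 3, 2, 1], [0, 1, 2, 3, 4, 5, 6, 7]]]
    i j)

/-- `(01)(23)(45)(67)` -/
abbrev z : A8 := x 0 3
/-- `(01)(23)` -/
def y : A8 := AG.al [1, 0, 3, 2, 4, 5, 6, 7]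
/-- `(01)(45)` -/
def y2 : A8 := AG.al [1, 0, 2, 3, 5, 4, 6, 7]
/-- `(01)(67)` -/
def y3 : A8 := AG.al [1, 0, 2, 3, 4, 5, 7, 6]
/-- `(46)(57)` -/
def y4 : A8 := AG.al [0, 1, 2, 3, 6, 7, 4, 5]
/-- `(23)(45)`; `τ * ys = (01)(23)(45)` -/
def ys : A8 := AG.al [0, 1, 3, 2, 5, 4, 6, 7]
/-- the transposition `(01)`, the graph automorphism `x i j ↦ x (rev j) (rev i)` -/
def τ : S8 := PG.pl [1, 0, 2, 3, 4, 5, 6, 7]
/-- an element with `nn i j * z * (nn i j)⁻¹ = x i j` (`i ≠ j`) -/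
def nn (i j : Fin 4) : A8 := AG.al
  (![![[0, 1, 2, 3, 4, 5, 6, 7], [2, 6, 0, 4, 3, 7, 1, 5], [7, 5, 6, 4, 3, 1, 2, 0], [0, 1, 2, 3, 4, 5, 6, 7]],
    ![[2, 6, 1, 4, 3, 5, 0, 7], [0, 1, 2, 3, 4, 5, 6, 7], [0, 1, 7, 4, 3, 2, 5, 6], [5, 7, 6, 4, 3, 0, 2, 1]],
    ![[7, 5, 2, 4, 3, 0, 6, 1], [0, 1, 5, 4, 3, 6, 7, 2], [0, 1, 2, 3, 4, 5, 6, 7], [2, 6, 7, 3, 4, 1, 5, 0]],
    ![[1, 0, 7, 4, 3, 6, 5, 2], [7, 5, 1, 3, 4, 2, 0, 6], [6, 2, 0, 4, 3, 5, 1, 7], [0, 1, 2, 3, 4, 5, 6, 7]]]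
    i j)

/-- the centraliser in `S₈` of a list of elements -/
def cen (l : List S8) : Subgroup S8 := centralizer {a | a ∈ l}

theorem mem_cen {l : List S8} {p : S8} : p ∈ cen l ↔ ∀ a ∈ l, a * p = p * a := Iff.rfl

instance (l : List S8) (p : S8) : Decidable (p ∈ cen l) :=
  inferInstanceAs (Decidable (∀ a ∈ l, a * p = p * a))

/-- `⟨x01, x02, x03⟩`, self-centralising of order 8 -/
def E1 : Subgroup S8 := cen [x 0 1, x 0 2, x 0 3]
/-- `⟨x03, x13, x23⟩`, self-centralising of order 8 -/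
def E3 : Subgroup S8 := cen [x 0 3, x 1 3, x 2 3]
/-- `⟨x02, x03, x12, x13⟩ = V₄ × V₄`, order 16 -/
def E8 : Subgroup S8 := cen [x 0 2, x 0 3, x 1 2, x 1 3]
/-- `⟨(01), (23), (45), (67)⟩`, order 16 -/
def F8 : Subgroup S8 := cen [y, y2, y3]
/-- `⟨(01), (23)⟩ × V₄`, order 16 -/
def M8 : Subgroup S8 := cen [τ, y, y * z, y4]

instance (p : S8) : Decidable (p ∈ E1) := inferInstanceAs (Decidable (p ∈ cen _))
instance (p : S8) : Decidable (p ∈ E3) := inferInstanceAs (Decidable (p ∈ cen _))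
instance (p : S8) : Decidable (p ∈ E8) := inferInstanceAs (Decidable (p ∈ cen _))
instance (p : S8) : Decidable (p ∈ F8) := inferInstanceAs (Decidable (p ∈ cen _))
instance (p : S8) : Decidable (p ∈ M8) := inferInstanceAs (Decidable (p ∈ cen _))

theorem z_sq : (z : S8) * z = 1 := by decide +kernel

/-- the Sylow 2-subgroup `D₈ ≀ 2` of `S₈` -/
def W8 : Subgroup S8 where
  carrier := {p | (z : S8) * p = p * z ∧ (p * y = y * p ∨ p * y = y * p * z)}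
  one_mem' := by simp
  mul_mem' := by
    rintro a b ⟨h1, h2⟩ ⟨h3, h4⟩
    refine ⟨by rw [← mul_assoc, h1, mul_assoc, h3, mul_assoc], ?_⟩
    rcases h2 with h2 | h2 <;> rcases h4 with h4 | h4
    · exact .inl (by rw [mul_assoc, h4, ← mul_assoc, h2, mul_assoc])
    · exact .inr (by rw [mul_assoc, h4, ← mul_assoc, ← mul_assoc, h2]; simp only [mul_assoc])
    · exact .inr (by rw [mul_assoc, h4, ← mul_assoc, h2, mul_assoc _ _ b, h3]; simp only [mul_assoc])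
    · exact .inl (by
        rw [mul_assoc, h4, ← mul_assoc, ← mul_assoc, h2, mul_assoc _ _ b, h3, ← mul_assoc,
          mul_assoc _ (z : S8), z_sq, mul_one, mul_assoc])
  inv_mem' := by
    rintro a ⟨h1, h2⟩
    have h3 : (z : S8) * a⁻¹ = a⁻¹ * z := by
      rw [mul_inv_eq_iff_eq_mul, mul_assoc, h1, inv_mul_cancel_left]
    refine ⟨h3, h2.imp (fun h => ?_) fun h => ?_⟩
    · rw [eq_mul_inv_iff_mul_eq, mul_assoc, ← h, inv_mul_cancel_left]
    · have : (y : S8) * a = a * y * z := by rw [h, mul_assoc _ (z : S8), z_sq, mul_one]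
      rw [mul_assoc, ← h3, ← mul_assoc, eq_mul_inv_iff_mul_eq, mul_assoc, this, ← mul_assoc,
        ← mul_assoc, inv_mul_cancel, one_mul]

theorem mem_W8 {p : S8} : p ∈ W8 ↔ (z : S8) * p = p * z ∧ (p * y = y * p ∨ p * y = y * p * z) :=
  Iff.rfl

instance (p : S8) : Decidable (p ∈ W8) :=
  inferInstanceAs (Decidable ((z : S8) * p = p * z ∧ (p * y = y * p ∨ p * y = y * p * z)))

variable {G : Type*} [Group G]

/-- the image of the even part of `X` -/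
def img (ι : A8 →* G) (X : Subgroup S8) : Subgroup G := (X.subgroupOf (PG.alt 8)).map ι

theorem mem_img {ι : A8 →* G} {X : Subgroup S8} {g : G} :
    g ∈ img ι X ↔ ∃ a : A8, (a : S8) ∈ X ∧ ι a = g := Iff.rfl

theorem i_mem_img {ι : A8 →* G} {X : Subgroup S8} {a : A8} (h : (a : S8) ∈ X) : ι a ∈ img ι X :=
  ⟨a, h, rfl⟩

/-- `g` acts on `L = ι A₈` as the permutation `p` -/
def Ac (ι : A8 →* G) (g : G) (p : S8) : Prop := ∀ a, g * ι a * g⁻¹ = ι (cA p a)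

/-- `g` centralises `L` -/
def CL (ι : A8 →* G) (g : G) : Prop := ∀ a, g * ι a = ι a * g

/-- `g` is a 2-element -/
abbrev Two (g : G) : Prop := IsPGroup 2 (zpowers g)

/-- `X` is elementary abelian -/
def El (X : Subgroup G) : Prop := ∀ a ∈ X, a * a = 1

/-- a standard `A₈` with cyclic Sylow 2-subgroups of the centraliser -/
structure Fr0 (ι : A8 →* G) (t : G) : Prop where
  inj : Function.Injective ι
  t2 : t * t = 1
  t1 : t ≠ 1
  tC : CL ι t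
  aut : ∀ g, g * t = t * g → ∃ p, Ac ι g p
  cyc : ∀ P ≤ centralizer (ι.range : Set G), IsPGroup 2 P → IsCyclic P

/-- `⟨t⟩` is Sylow in `C(L)` -/
structure Fr (ι : A8 →* G) (t : G) : Prop extends Fr0 ι t where
  two : ∀ c, CL ι c → c * t = t * c → Two c → c = 1 ∨ c = t

/-- the elements of odd order of `C(L) ∩ C(t)` -/
def Od (ι : A8 →* G) (t o : G) : Prop := CL ι o ∧ o * t = t * o ∧ Odd (orderOf o)

/-- `g` centralises `O(C(t))` -/
def CO (ι : A8 →* G) (t g : G) : Prop := ∀ o, Od ι t o → g * o = o * g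

/-- an involution of `C(t)` inducing the transposition `τ` -/
structure Out (ι : A8 →* G) (t a : G) : Prop where
  ct : a * t = t * a
  sq : a * a = 1
  ac : Ac ι a τ

/-- `⟨t⟩ × ι X` -/
def sT (ι : A8 →* G) (t : G) (X : Subgroup S8) : Subgroup G := zpowers t ⊔ img ι X
/-- `⟨t, a⟩ ι X` -/
def sO (ι : A8 →* G) (t a : G) (X : Subgroup S8) : Subgroup G := zpowers t ⊔ (zpowers a ⊔ img ι X)

/-- the graph twist of `ι` -/
def flip (ι : A8 →* G) : A8 →* G := ι.comp (cH τ)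

/-- `N(⟨t⟩ E₁)` moves `t` -/
def Mv (ι : A8 →* G) (t : G) : Prop :=
  ∃ n ∈ normalizer (sT ι t E1 : Set G), n * t * n⁻¹ ≠ t

/-- an involution of `O₂(N(⟨t⟩ E₁))` moving `t` to `t a` -/
structure Vx (ι : A8 →* G) (t : G) (a : A8) (v : G) : Prop where
  sq : v * v = 1
  ce : ∀ e : A8, (e : S8) ∈ E1 → v * ι e = ι e * v
  co : CO ι t v
  mv : v * t * v⁻¹ = t * ι a

/-- all `Vx a` are non-empty -/
def Ex (ι : A8 →* G) (t : G) : Prop := ∀ a : A8, (a : S8) ∈ E1 → a ≠ 1 → ∃ v, Vx ι t a v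

/-- elementary type -/
def TyE (ι : A8 →* G) (t : G) : Prop :=
  ∀ (a b : A8) (v w : G), (a : S8) ∈ E1 → (b : S8) ∈ E1 → a ≠ 1 → b ≠ 1 → a ≠ b →
    Vx ι t a v → Vx ι t b w → Vx ι t (a * b) (v * w)

/-- type `4³` -/
def TyC (ι : A8 →* G) (t : G) : Prop :=
  ∀ (a b : A8) (v w : G), (a : S8) ∈ E1 → (b : S8) ∈ E1 → a ≠ 1 → b ≠ 1 → a ≠ b →
    Vx ι t a v → Vx ι t b w → Vx ι t (a * b) (v * w * t)

/-- a hat of the transvection `a`: an involution centralising `C_L(a)` and moving `t` to `t a` -/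
structure Kp (ι : A8 →* G) (t : G) (a : A8) (k : G) : Prop where
  sq : k * k = 1
  ce : ∀ c : A8, c * a = a * c → k * ι c = ι c * k
  mv : k * t * k⁻¹ = t * ι a

/-- hats of all root elements, with coordinate ring `𝔽₂[ω]/(ω² + ω + c)` -/
structure Hats (ι : A8 →* G) (t : G) (k : Fin 4 → Fin 4 → G) (c : ℕ) : Prop where
  kp : ∀ i j, i ≠ j → Kp ι t (x i j) (k i j)
  co : ∀ i j, i ≠ j → CO ι t (k i j)
  eqv : ∀ i j, i ≠ j → k i j = ι (nn i j) * k 0 3 * (ι (nn i j))⁻¹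
  com : ∀ i j i' j', i ≠ j → i' ≠ j' → i ≠ j' → j ≠ i' → k i j * k i' j' = k i' j' * k i j
  kx : ∀ i j l, i ≠ j → j ≠ l → i ≠ l → k i j * ι (x j l) * k i j * ι (x j l) = k i l
  xk : ∀ i j l, i ≠ j → j ≠ l → i ≠ l → ι (x i j) * k j l * ι (x i j) * k j l = k i l
  kk : ∀ i j l, i ≠ j → j ≠ l → i ≠ l → k i j * k j l * k i j * k j l = k i l * ι (x i l) ^ c

/-- the group generated by `L` and the hats -/
def G0 (ι : A8 →* G) (k : Fin 4 → Fin 4 → G) : Subgroup G :=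
  ι.range ⊔ closure {g | ∃ i j, i ≠ j ∧ g = k i j}

abbrev Γ : Type := Matrix.SpecialLinearGroup (Fin 4) GF4

/-- transvections -/
def tv (i j : Fin 4) (u : GF4) : Γ :=
  if h : i ≠ j then Matrix.SpecialLinearGroup.transvection h u else 1

/-- the field automorphism -/
def σΓ : Γ →* Γ := Matrix.SpecialLinearGroup.map (starRingEnd GF4)

/-- upper unitriangular matrices -/
def UΓ : Subgroup Γ := closure {m | ∃ i j u, i < j ∧ m = tv i j u}

/-- `γ` is the graph automorphism -/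
def IsGr (γ : Γ →* Γ) : Prop := ∀ i j u, γ (tv i j u) = tv j.rev i.rev u

/-- the field case -/
structure Fld (ι : A8 →* G) (t : G) (φ : Γ →* G) : Prop where
  inj : Function.Injective φ
  one : ∀ i j, i ≠ j → φ (tv i j 1) = ι (x i j)
  fld : ∀ m, t * φ m * t⁻¹ = φ (σΓ m)
  cn : Cx t ≤ normalizer (φ.range : Set G)
  gr : ∀ γ, IsGr γ → ∀ a, a * t = t * a → Ac ι a τ →
    (∀ m, a * φ m * a⁻¹ = φ (γ m)) ∨ ∀ m, a * t * φ m * (a * t)⁻¹ = φ (γ m)

/-- the product case -/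
structure Prd (ι : A8 →* G) (t : G) (ι₁ ι₂ : A8 →* G) : Prop where
  inj : Function.Injective ι₁
  dia : ∀ a, ι a = ι₁ a * ι₂ a
  com : ∀ a b, ι₁ a * ι₂ b = ι₂ b * ι₁ a
  swp : ∀ a, t * ι₁ a * t⁻¹ = ι₂ a
  unq : ∀ a n : A8, n * z * n⁻¹ = a → ∀ w, Kp ι t a w → w = ι₁ a ∨ w = ι₂ a

end

end CfsgLib.A8S
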