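import Cfsg.Agent.Lib.A8S.ModB

/-!
# E16: elementary abelian subgroups of order 16 of `S₈` (plans/A8S.md)
-/

set_option autoImplicit false
set_option linter.unusedSectionVars false
set_option Elab.async false

namespace CfsgLib.A8S

open Subgroup Cfsg CfsgLib.Tech CfsgLib.W2 CfsgLib.Classical

theorem El.e16_comm {G : Type*} [Group G] {X : Subgroup G} (hX : El X) {a b : G} (ha : a ∈ X)
    (hb : b ∈ X) : a * b = b * a := by
  rw [← inv_eq_of_mul_eq_one_right (hX _ (mul_mem ha hb)), mul_inv_rev,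
    inv_eq_of_mul_eq_one_right (hX a ha), inv_eq_of_mul_eq_one_right (hX b hb)]

theorem El.e16_cj {G : Type*} [Group G] {X : Subgroup G} (hX : El X) (g : G) : El (cj g X) :=
  fun a ha => by
    have h := hX _ (mem_cj.1 ha)
    calc a * a = g * (g⁻¹ * a * g * (g⁻¹ * a * g)) * g⁻¹ := by group
      _ = 1 := by rw [h]; group

/-- the codes of the solutions of `p² = 1` in `W8` -/
def e16L : List ℕ :=
  [247132686368, 213846689824, 247100180512, 213814183968, 176334932000, 143016429600, 247132654624,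
    213846658080, 247100148768, 213814152224, 176334900256, 143016397856, 247132686337, 213846689793,
    247100180481, 213814183937, 176334931969, 143016429569, 247132654593, 213846658049, 247100148737,
    213814152193, 176334900225, 143016397825, 247132618850, 213846622306, 247100112994, 213814116450,
    176334864482, 143016362082, 247132587075, 213846590531, 247100081219, 213814084675, 176334832707,
    143016330307, 105260488868, 71974460580, 105227982981, 71941954693, 34462666982, 34430129382,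
    1176670407, 1144132807]

theorem e16L_all (p : S8) (hW : p ∈ W8) (h : p * p = 1) : p.1 ∈ e16L := by
  have h1 := PG.forall_of_allP (n := 8) (p := fun a => !(Nat.beq (pcm 8 a a) 247132686368) ||
    decide ((PG.pe a : S8) ∈ W8 → a ∈ e16L)) (by decide +kernel) p
  have h2 : pcm 8 p.1 p.1 = 247132686368 :=
    (congrArg Subtype.val h).trans (by decide +kernel : (1 : S8).1 = 247132686368)
  simp only [h2, Nat.beq_refl, Bool.not_true, Bool.false_or, decide_eq_true_eq, PG.pe_val] at h1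
  exact h1 hW

/-- the search -/
noncomputable def e16chk : List (ℕ → Bool) → List ℕ → Bool
  | [], L => Nat.blt L.length 16
  | t :: ts, L => Nat.blt L.length 16 || L.all fun a =>
      t a || e16chk ts (L.filter fun b => Nat.beq (pcm 8 a b) (pcm 8 b a))

theorem e16_len {X : Subgroup S8} {L : List ℕ} (h : ∀ p ∈ X, p.1 ∈ L) : Nat.card X ≤ L.length := by
  refine le_trans ?_ (List.toFinset_card_le L)
  rw [← Nat.card_eq_finsetCard]
  exact Nat.card_le_card_of_injective (fun p : X => (⟨p.1.1, List.mem_toFinset.2 (h _ p.2)⟩ : L.toFinset))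
    fun p q e => Subtype.ext (Subtype.ext (congrArg (fun r : L.toFinset => r.1) e))

theorem e16chk_sound {X : Subgroup S8} (hX : El X) (hc : 16 ≤ Nat.card X) :
    ∀ (ts : List (ℕ → Bool)) (L : List ℕ), e16chk ts L = true → (∀ p ∈ X, p.1 ∈ L) →
      ∃ t ∈ ts, ∀ p ∈ X, t p.1 = true
  | [], L, h, hL => absurd (hc.trans (e16_len hL)) (not_le.2 (Nat.blt_eq.mp h))
  | t :: ts, L, h, hL => by
    change (Nat.blt L.length 16 || L.all fun a =>
      t a || e16chk ts (L.filter fun b => Nat.beq (pcm 8 a b) (pcm 8 b a))) = true at h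
    rw [Bool.or_eq_true, Nat.blt_eq, List.all_eq_true] at h
    by_cases c : ∀ p ∈ X, t p.1 = true
    · exact ⟨t, List.mem_cons_self, c⟩
    push Not at c
    obtain ⟨a, ha, ta⟩ := c
    have h1 := (h.resolve_left (not_lt.2 (hc.trans (e16_len hL)))) _ (hL a ha)
    rw [Bool.or_eq_true] at h1
    obtain ⟨s, hs, h2⟩ := e16chk_sound hX hc ts _ (h1.resolve_left ta) fun p hp =>
      List.mem_filter.2 ⟨hL p hp, Nat.beq_eq.mpr (congrArg Subtype.val (hX.e16_comm ha hp))⟩
    exact ⟨s, List.mem_cons_of_mem _ hs, h2⟩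

theorem e16chk_ok : e16chk [fun a => decide ((PG.pe a : S8) ∈ E8), fun a => decide ((PG.pe a : S8) ∈ F8),
    fun a => decide ((PG.pe a : S8) ∈ M8),
    fun a => decide ((x 0 1 : S8)⁻¹ * PG.pe a * (x 0 1 : S8) ∈ M8)] e16L = true := by decide +kernel

theorem e16_W {X : Subgroup S8} (hX : El X) (hW : X ≤ W8) (hc : 16 ≤ Nat.card X) :
    X = E8 ∨ X = F8 ∨ X = M8 ∨ X = cj (x 0 1 : S8) M8 := by
  obtain ⟨t, ht, h⟩ := e16chk_sound hX hc _ _ e16chk_ok fun p hp => e16L_all p (hW hp) (hX p hp)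
  have key : ∀ Y : Subgroup S8, Nat.card Y = 16 → X ≤ Y → X = Y := fun Y h1 h2 =>
    eq_of_le_of_card_ge h2 (h1 ▸ hc)
  simp only [List.mem_cons, List.not_mem_nil, or_false] at ht
  rcases ht with rfl | rfl | rfl | rfl <;> simp only [decide_eq_true_eq, PG.pe_val] at h
  · exact .inl (key _ el_E8.2.1 h)
  · exact .inr (.inl (key _ el_F8.2.1 h))
  · exact .inr (.inr (.inl (key _ el_M8.2.1 h)))
  · exact .inr (.inr (.inr (key _ ((card_cj _ _).trans el_M8.2.1) fun p hp => mem_cj.2 (h p hp))))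

theorem e16 {X : Subgroup S8} (hX : El X) (hc : 16 ≤ Nat.card X) :
    ∃ l : A8, cj (l : S8) X = E8 ∨ cj (l : S8) X = F8 ∨ cj (l : S8) X = M8 := by
  have pX : IsPGroup 2 X := fun a => ⟨1, Subtype.ext (by
    rw [pow_one, pow_two]; exact hX _ a.2)⟩
  obtain ⟨l, hl⟩ : ∃ l : A8, cj (l : S8) X ≤ W8 := by
    obtain ⟨g, -, hg⟩ := syl_W8.exists_cj_le pX le_top
    by_cases c : g ∈ PG.alt 8
    · exact ⟨⟨g, c⟩, hg⟩
    · refine ⟨⟨τ * g, mul_odd τ_odd c⟩, ?_⟩
      rw [cj_mul, ← cj_eq_of_mem τ_W]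
      exact cj_mono _ hg
  rcases e16_W (hX.e16_cj l) hl (by rwa [card_cj]) with h | h | h | h
  · exact ⟨l, .inl h⟩
  · exact ⟨l, .inr (.inl h)⟩
  · exact ⟨l, .inr (.inr h)⟩
  · refine ⟨(x 0 1)⁻¹ * l, .inr (.inr ?_)⟩
    rw [coe_mul, cj_mul, h, coe_inv, cj_inv_cj]

theorem e16_card {X : Subgroup S8} (hX : El X) : Nat.card X ≤ 16 := by
  by_contra! c
  obtain ⟨l, h⟩ := e16 hX c.le
  rw [← card_cj (l : S8)] at c
  rcases h with h | h | h <;> rw [h] at c
  · exact c.ne' el_E8.2.1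
  · exact c.ne' el_F8.2.1
  · exact c.ne' el_M8.2.1

theorem e16_gens : (∀ a ∈ [(x 0 2 : S8), x 0 3, x 1 2, x 1 3], a ∈ E8) ∧
    (∀ a ∈ [(y : S8), y2, y3], a ∈ F8) ∧ ∀ a ∈ [τ, y, y * z, y4], a ∈ M8 := by decide +kernel

theorem e16_cen {X : Subgroup S8} (hX : El X) (hc : 16 ≤ Nat.card X) {p : S8}
    (hp : ∀ a ∈ X, p * a = a * p) : p ∈ X := by
  obtain ⟨l, h⟩ := e16 hX hc
  have h1 : ∀ a ∈ cj (l : S8) X, a * (l * p * (l : S8)⁻¹) = l * p * (l : S8)⁻¹ * a := fun a ha =>
    calc a * (l * p * (l : S8)⁻¹) = l * ((l : S8)⁻¹ * a * l * p) * (l : S8)⁻¹ := by group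
      _ = _ := by rw [← hp _ (mem_cj.1 ha)]; group
  refine (conj_mem_cj (g := (l : S8))).1 ?_
  rcases h with h | h | h <;> rw [h] at h1 ⊢
  · exact mem_cen.2 fun a ha => h1 a (e16_gens.1 a ha)
  · exact mem_cen.2 fun a ha => h1 a (e16_gens.2.1 a ha)
  · exact mem_cen.2 fun a ha => h1 a (e16_gens.2.2 a ha)

end CfsgLib.A8S
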