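import Cfsg.Agent.Lib.A8S.ModCA

/-!
# MODC: normalisers, second half (plans/A8S.md)
-/

set_option autoImplicit false
set_option linter.unusedSectionVars false
set_option Elab.async false
set_option synthInstance.maxSize 4000

namespace CfsgLib.A8S

open Subgroup Cfsg CfsgLib.Tech CfsgLib.W2 CfsgLib.Classical

namespace ModCB

theorem per {H : Type*} [Group H] [DecidableEq H] {p : H} {T : List H} {n m : ℕ} (hn : T.length ≤ n)
    (hm : ∀ d ≤ n, 0 < d → d ∣ m) (h : ∀ a ∈ T, p * a * p⁻¹ ∈ T) {a : H} (ha : a ∈ T) : Commute (p ^ m) a := by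
  have k : ∀ i : ℕ, p ^ i * a * (p ^ i)⁻¹ ∈ T := fun i => by
    induction i with
    | zero => simpa using ha
    | succ i ih =>
      have := h _ ih
      rwa [show p * (p ^ i * a * (p ^ i)⁻¹) * p⁻¹ = p ^ (i + 1) * a * (p ^ (i + 1))⁻¹ by rw [pow_succ']; group] at this
  have key : ∀ i j : ℕ, i < j → j ≤ n → p ^ i * a * (p ^ i)⁻¹ = p ^ j * a * (p ^ j)⁻¹ → Commute (p ^ m) a := by
    intro i j hij hj e
    obtain ⟨d, rfl⟩ := Nat.exists_eq_add_of_lt hij
    obtain ⟨c, rfl⟩ := hm (d + 1) (by omega) (by omega)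
    rw [pow_mul]
    refine Commute.pow_left ?_ c
    rw [add_assoc, pow_add, mul_inv_rev, ← mul_assoc, mul_left_inj, mul_assoc, mul_assoc, mul_right_inj] at e
    exact mul_inv_eq_iff_eq_mul.1 (by rw [mul_assoc]; exact e.symm)
  obtain ⟨i, hi, j, hj, hij, e⟩ := Finset.exists_ne_map_eq_of_card_lt_of_maps_to (s := Finset.range (n + 1))
    (t := T.toFinset) (by rw [Finset.card_range]; exact Nat.lt_succ_of_le ((List.toFinset_card_le T).trans hn))
    (f := fun i => p ^ i * a * (p ^ i)⁻¹) (fun i _ => by simpa using k i)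
  rw [Finset.mem_range] at hi hj
  rcases lt_or_gt_of_ne hij with h' | h'
  exacts [key i j h' (by omega) e, key j i h' (by omega) e.symm]

/-- the number of moved points -/
noncomputable def mv (e : S8) : ℕ := (Finset.univ.filter fun i : Fin 8 => Mathieu.app e.1 i ≠ i).card

theorem mv_E (σ : Equiv.Perm (Fin 8)) : mv (PG.E 8 σ) = σ.support.card := by
  unfold mv
  congr 1
  ext i
  simp [CG.eqv_val, app_pc, Fin.val_inj]

theorem mv_conj (p a : S8) : mv (p * a * p⁻¹) = mv a := by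
  obtain ⟨p, rfl⟩ := (PG.E 8).surjective p
  obtain ⟨a, rfl⟩ := (PG.E 8).surjective a
  rw [← map_inv, ← map_mul, ← map_mul, mv_E, mv_E, Equiv.Perm.card_support_conj]

noncomputable def V1 : List S8 := [y, PG.pl [2, 3, 0, 1, 4, 5, 6, 7], PG.pl [3, 2, 1, 0, 4, 5, 6, 7]]
noncomputable def V2 : List S8 := [y4, PG.pl [0, 1, 2, 3, 5, 4, 7, 6], PG.pl [0, 1, 2, 3, 7, 6, 5, 4]]
noncomputable def T4 : List S8 := [τ, τ * y, τ * y2, τ * y3]
noncomputable def T2 : List S8 := [τ, τ * y]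
noncomputable def T5 : List S8 := [y, y * z, y4, y * z * y4]

theorem d12 : ∀ d ≤ 4, 0 < d → d ∣ 12 := by decide
theorem d6 : ∀ d ≤ 3, 0 < d → d ∣ 6 := by decide

theorem expE {p : S8} (hp : ∀ a ∈ E8, p * a * p⁻¹ ∈ E8) : ∀ a ∈ E8, Commute (p ^ 12) a := by
  have k1 : ∀ a ∈ E8, (mv a = 4 → a ∈ V1 ++ V2) ∧ ∃ u ∈ 1 :: V1, ∃ v ∈ 1 :: V2, a = u * v := fun a ha => by
    obtain ⟨i, hi, j, hj, k, hk, l, hl, rfl⟩ := E8_cases ha
    clear ha
    revert i j k l
    decide +kernel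
  have k2 : ∀ a ∈ V1 ++ V2, a ∈ E8 ∧ mv a = 4 := by decide +kernel
  have k3 : ∀ u ∈ V1 ++ V2, ∀ v ∈ V1 ++ V2, ∀ w ∈ V1 ++ V2, mv (v * w) = mv (u * v) →
      (u ∈ V1 → w ∈ V1) ∧ (u ∈ V2 → w ∈ V2) := by decide +kernel
  have k4 : ∀ a ∈ V1 ++ V2, p * a * p⁻¹ ∈ V1 ++ V2 := fun a ha =>
    (k1 _ (hp a (k2 a ha).1)).1 ((mv_conj p a).trans (k2 a ha).2)
  have k5 : ∀ a ∈ V1 ++ V2, (a ∈ V1 → p ^ 2 * a * (p ^ 2)⁻¹ ∈ V1) ∧ (a ∈ V2 → p ^ 2 * a * (p ^ 2)⁻¹ ∈ V2) :=
    fun a ha => by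
    have := k3 a ha _ (k4 a ha) _ (k4 _ (k4 a ha)) (by rw [conj_mul, mv_conj])
    rwa [show p * (p * a * p⁻¹) * p⁻¹ = p ^ 2 * a * (p ^ 2)⁻¹ by rw [sq]; group] at this
  have c1 : ∀ a ∈ 1 :: V1, Commute (p ^ 12) a := fun a ha => by
    rcases List.mem_cons.1 ha with rfl | ha
    · exact Commute.one_right _
    · have := per (n := 3) le_rfl d6 (fun a ha => (k5 a (List.mem_append_left _ ha)).1 ha) ha
      rwa [← pow_mul] at this
  have c2 : ∀ a ∈ 1 :: V2, Commute (p ^ 12) a := fun a ha => by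
    rcases List.mem_cons.1 ha with rfl | ha
    · exact Commute.one_right _
    · have := per (n := 3) le_rfl d6 (fun a ha => (k5 a (List.mem_append_right _ ha)).2 ha) ha
      rwa [← pow_mul] at this
  intro a ha
  obtain ⟨u, hu, v, hv, rfl⟩ := (k1 a ha).2
  exact (c1 u hu).mul_right (c2 v hv)

theorem expF {p : S8} (hp : ∀ a ∈ F8, p * a * p⁻¹ ∈ F8) : ∀ a ∈ F8, Commute (p ^ 12) a := by
  have k1 : ∀ a ∈ F8, mv a = 2 → a ∈ T4 := fun a ha => by
    obtain ⟨i, hi, j, hj, k, hk, l, hl, rfl⟩ := F8_cases ha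
    clear ha
    revert i j k l
    decide +kernel
  have k2 : ∀ a ∈ T4, a ∈ F8 ∧ mv a = 2 := by decide +kernel
  have c : ∀ a ∈ T4, Commute (p ^ 12) a := fun a ha => per (n := 4) le_rfl d12
    (fun a ha => k1 _ (hp a (k2 a ha).1) ((mv_conj p a).trans (k2 a ha).2)) ha
  have c0 := c τ (by simp [T4])
  have c' : ∀ b : S8, τ * b ∈ T4 → Commute (p ^ 12) b := fun b hb => by
    simpa using c0.inv_right.mul_right (c _ hb)
  intro a ha
  obtain ⟨i, -, j, -, k, -, l, -, rfl⟩ := F8_cases ha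
  simp only [Subgroup.coe_mul, SubgroupClass.coe_pow]
  exact (c0.pow_right i).mul_right ((((c' y (by simp [T4])).pow_right j).mul_right
    ((c' y2 (by simp [T4])).pow_right k)).mul_right ((c' y3 (by simp [T4])).pow_right l))

theorem expM {p : S8} (hp : ∀ a ∈ M8, p * a * p⁻¹ ∈ M8) : ∀ a ∈ M8, Commute (p ^ 12) a := by
  have k1 : ∀ a ∈ M8, (mv a = 2 → a ∈ T2) ∧ (mv a = 4 → a ∈ T5) := fun a ha => by
    obtain ⟨i, hi, j, hj, k, hk, l, hl, rfl⟩ := M8_cases ha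
    clear ha
    revert i j k l
    decide +kernel
  have k2 : ∀ a ∈ T2, a ∈ M8 ∧ mv a = 2 := by decide +kernel
  have k3 : ∀ a ∈ T5, a ∈ M8 ∧ mv a = 4 := by decide +kernel
  have c : ∀ a ∈ T2, Commute (p ^ 12) a := fun a ha => per (n := 4) (by simp [T2]) d12
    (fun a ha => (k1 _ (hp a (k2 a ha).1)).1 ((mv_conj p a).trans (k2 a ha).2)) ha
  have c' : ∀ a ∈ T5, Commute (p ^ 12) a := fun a ha => per (n := 4) le_rfl d12
    (fun a ha => (k1 _ (hp a (k3 a ha).1)).2 ((mv_conj p a).trans (k3 a ha).2)) ha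
  intro a ha
  obtain ⟨i, -, j, -, k, -, l, -, rfl⟩ := M8_cases ha
  simp only [Subgroup.coe_mul, SubgroupClass.coe_pow]
  exact ((c τ (by simp [T2])).pow_right i).mul_right ((((c' y (by simp [T5])).pow_right j).mul_right
    ((c' _ (by simp [T5])).pow_right k)).mul_right ((c' y4 (by simp [T5])).pow_right l))

theorem odd_perm {Y : Subgroup (Equiv.Perm (Fin 8))} (hY : Odd (Nat.card Y))
    (h : ∀ i : Fin 8, ∃ g ∈ normalizer (Y : Set (Equiv.Perm (Fin 8))), g 0 = i) : Y = ⊥ := by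
  let H := normalizer (Y : Set (Equiv.Perm (Fin 8)))
  have : MulAction.IsPretransitive H (Fin 8) := ⟨fun i j => by
    obtain ⟨g, hg, e⟩ := h i
    obtain ⟨g', hg', e'⟩ := h j
    exact ⟨⟨g', hg'⟩ * ⟨g, hg⟩⁻¹, by
      show g' (g⁻¹ i) = j
      rw [← e, ← e']; simp⟩⟩
  refine eq_bot_iff.2 fun σ hσ => mem_bot.2 (Equiv.ext fun i => ?_)
  have hb := (MulAction.IsBlock.orbit_of_normal (G := H) (N := Y.subgroupOf H) i).ncard_dvd_card
    (MulAction.nonempty_orbit i)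
  have hd : (MulAction.orbit (Y.subgroupOf H) i).ncard ∣ Nat.card Y := by
    rw [← MulAction.index_stabilizer, ← Nat.card_congr (subgroupOfEquivOfLe (le_normalizer (H := Y))).toEquiv]
    exact index_dvd_card _
  have h1 : (MulAction.orbit (Y.subgroupOf H) i).ncard = 1 := by
    rw [Nat.card_eq_fintype_card, Fintype.card_fin] at hb
    exact Nat.eq_one_of_dvd_coprimes ((Nat.coprime_two_left.2 hY).pow_left 3) hb hd
  obtain ⟨j, hj⟩ := Set.ncard_eq_one.1 h1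
  have a1 : σ i ∈ MulAction.orbit (Y.subgroupOf H) i := ⟨⟨⟨σ, le_normalizer hσ⟩, hσ⟩, rfl⟩
  have a2 := MulAction.mem_orbit_self (M := Y.subgroupOf H) i
  rw [hj] at a1 a2
  exact a1.trans a2.symm

theorem gen_par' {P : A8 → Prop} (hx : ∀ i j : Fin 4, i ≠ j → j ≠ 0 → P (x i j)) {S : Subgroup A8}
    (h1 : ∀ m, P m → m ∈ S) (h3 : ∀ m, P (cA τ m) → m ∈ S) : S = ⊤ := by
  have a : ∀ i j : Fin 4, i ≠ j → j ≠ 0 → x i j ∈ S := fun i j h h' => h1 _ (hx i j h h')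
  have b : ∀ i : Fin 4, i ≠ 0 → i ≠ 3 → x i 0 ∈ S := fun i h h' => h3 _ (by
    rw [τ_x]
    exact hx _ _ (by revert i; decide) (by revert i; decide))
  refine gen_x fun i j h => ?_
  by_cases hj : j = 0
  · subst hj
    by_cases hi : i = 3
    · subst hi
      have c := a 3 1 (by decide) (by decide)
      have d := b 1 (by decide) (by decide)
      rw [← x_cm 3 1 0 (by decide) (by decide) (by decide)]
      exact S.mul_mem (S.mul_mem (S.mul_mem c d) c) d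
    · exact b i h hi
  · exact a i j h hj

end ModCB

open ModCB

/-- the normalisers of the elementary abelian groups of order 16 act with exponent dividing 12 -/
theorem exp_norm {X : Subgroup S8} (hX : X = E8 ∨ X = F8 ∨ X = M8) {p : S8}
    (hp : ∀ a ∈ X, p * a * p⁻¹ ∈ X) : ∀ a ∈ X, p ^ 12 * a = a * p ^ 12 := by
  rcases hX with rfl | rfl | rfl
  exacts [expE hp, expF hp, expM hp]

/-- `E1` and `E3` normalise no subgroup of odd order -/
theorem odd_norm {X : Subgroup S8} (hX : X = E1 ∨ X = E3) {Y : Subgroup S8} (hY : Odd (Nat.card Y))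
    (h : X ≤ normalizer (Y : Set S8)) : Y = ⊥ := by
  have k : ∀ i : Fin 8, ∃ e ∈ X, Mathieu.app e.1 (0 : Fin 8) = i := by
    have k1 : ∀ i : Fin 8, ∃ a < 2, ∃ b < 2, ∃ c < 2, ((x 0 1 ^ a * x 0 2 ^ b * x 0 3 ^ c : A8) : S8) ∈ E1 ∧
        Mathieu.app ((x 0 1 ^ a * x 0 2 ^ b * x 0 3 ^ c : A8) : S8).1 (0 : Fin 8) = i := by decide +kernel
    have k3 : ∀ i : Fin 8, ∃ a < 2, ∃ b < 2, ∃ c < 2, ((x 0 3 ^ a * x 1 3 ^ b * x 2 3 ^ c : A8) : S8) ∈ E3 ∧
        Mathieu.app ((x 0 3 ^ a * x 1 3 ^ b * x 2 3 ^ c : A8) : S8).1 (0 : Fin 8) = i := by decide +kernel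
    intro i
    rcases hX with rfl | rfl
    · obtain ⟨a, -, b, -, c, -, e⟩ := k1 i
      exact ⟨_, e⟩
    · obtain ⟨a, -, b, -, c, -, e⟩ := k3 i
      exact ⟨_, e⟩
  have hi : Function.Injective (PG.E 8).toMonoidHom := (PG.E 8).injective
  have hs : Function.Surjective (PG.E 8).toMonoidHom := (PG.E 8).surjective
  have := odd_perm (Y := Y.comap (PG.E 8).toMonoidHom)
    (by rwa [← card_map_of_injective hi, map_comap_eq_self_of_surjective hs]) fun i => by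
      obtain ⟨e, he, e0⟩ := k i
      obtain ⟨σ, rfl⟩ := (PG.E 8).surjective e
      refine ⟨σ, mem_normalizer_iff.2 fun a => ?_, Fin.ext ((app_pc σ 0).symm.trans e0)⟩
      rw [mem_comap, mem_comap, map_mul, map_mul, map_inv]
      exact mem_normalizer_iff.1 (h he) _
  rw [← map_comap_eq_self_of_surjective hs Y, this, Subgroup.map_bot]

/-- the parabolic subgroups `N(E1)`, `N(E3)` generate -/
theorem gen_par {S : Subgroup A8} (h1 : ∀ m, NE m → m ∈ S) (h3 : ∀ m, NE (cA τ m) → m ∈ S) : S = ⊤ :=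
  gen_par' NE_x h1 h3

end CfsgLib.A8S
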