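import Cfsg.Agent.Lib.A8S.Bas
import Cfsg.Agent.Lib.A8S.E16
import Cfsg.Agent.Lib.A8S.ModC

/-!
# TRN: elementary abelian subgroups of `C(t)` (plans/A8S.md)
-/

set_option autoImplicit false
set_option linter.unusedSectionVars false
set_option Elab.async false

namespace CfsgLib.A8S

open Subgroup Cfsg CfsgLib.Tech CfsgLib.W2 CfsgLib.Classical

universe u

variable {G : Type u} [Group G] [Finite G] {ι : A8 →* G} {t : G} {K : Subgroup G}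

theorem Fr0.trn_im (F : Fr0 ι t) {X : Subgroup G} (hX : El X) (h : X ≤ Cx t) :
    ∃ Y : Subgroup S8, El Y ∧ (∀ p, p ∈ Y ↔ ∃ g ∈ X, Ac ι g p) ∧ Nat.card X ≤ 2 * Nat.card Y := by
  classical
  obtain ⟨π, hπ⟩ := F.exists_π
  refine ⟨(π.comp (inclusion h)).range, ?_, fun p => ⟨?_, fun ⟨g, hg, e⟩ => ⟨⟨g, hg⟩, (hπ _).unique F.inj e⟩⟩, ?_⟩
  · rintro _ ⟨g, rfl⟩
    rw [← map_mul, show g * g = 1 from Subtype.ext (hX _ g.2), map_one]
  · rintro ⟨g, rfl⟩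
    exact ⟨g, g.2, hπ (inclusion h g)⟩
  · have k : ∀ g : (π.comp (inclusion h)).ker, g.1.1 = 1 ∨ g.1.1 = t := fun g =>
      F.eq_t (ac_one_iff.1 ((show π (inclusion h g.1) = 1 from g.2) ▸ hπ (inclusion h g.1))) (mem_Cx.1 (h g.1.2))
        (hX _ g.1.2)
    rw [card_eq_card_quotient_mul_card_subgroup (π.comp (inclusion h)).ker,
      Nat.card_congr (QuotientGroup.quotientKerEquivRange _).toEquiv, mul_comm]
    refine Nat.mul_le_mul_right _ ((Nat.card_le_card_of_injective (fun g => decide (g.1.1 = 1)) fun a b e => ?_).trans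
      (by simp))
    refine Subtype.ext (Subtype.ext ?_)
    have e' : a.1.1 = 1 ↔ b.1.1 = 1 := by simpa using e
    rcases k a with h1 | h1 <;> rcases k b with h2 | h2
    exacts [h1.trans h2.symm, h1.trans (e'.1 h1).symm, (e'.2 h2).trans h2.symm, h1.trans h2.symm]

theorem Fr0.trn_main (F : Fr0 ι t) {X : Subgroup G} (hX : El X) (hc : Nat.card X = 32) {s : G}
    (hs : IsConj t s) (h : s ∈ X) : ∃ g E, (E = E8 ∨ E = F8 ∨ E = M8) ∧ g * s * g⁻¹ = t ∧ cj g X ≤ Cx t ∧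
      ∀ p, p ∈ E ↔ ∃ w ∈ cj g X, Ac ι w p := by
  obtain ⟨c, rfl⟩ := isConj_iff.1 hs
  have k : ∀ g, g * (c * t * c⁻¹) * g⁻¹ = t → cj g X ≤ Cx t := fun g e a ha =>
    mem_Cx.2 ((hX.cj g).comm ha (e ▸ cj_le_iff.1 le_rfl _ h))
  obtain ⟨Y, h1, h2, h3⟩ := F.trn_im (hX.cj c⁻¹) (k c⁻¹ (by group))
  rw [card_cj, hc] at h3
  obtain ⟨l, hl⟩ := e16 h1 (by omega)
  have e : ι l * c⁻¹ * (c * t * c⁻¹) * (ι l * c⁻¹)⁻¹ = t := by
    rw [show ι l * c⁻¹ * (c * t * c⁻¹) * (ι l * c⁻¹)⁻¹ = ι l * t * (ι l)⁻¹ by group, ← F.tC, mul_inv_cancel_right]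
  refine ⟨ι l * c⁻¹, cj (l : S8) Y, hl, e, k _ e, fun p => ?_⟩
  rw [mem_cj, h2, cj_mul]
  refine ⟨fun ⟨g, hg, e⟩ => ⟨_, cj_le_iff.1 le_rfl _ hg, ?_⟩, fun ⟨w, hw, e⟩ =>
    ⟨_, mem_cj.1 hw, ((ac_i l).inv.mul e).mul (ac_i l)⟩⟩
  have := ((ac_i (ι := ι) l).mul e).mul (ac_i l).inv
  rwa [show (l : S8) * ((l : S8)⁻¹ * p * l) * (l : S8)⁻¹ = p by group] at this

theorem Fr0.trn_out (F : Fr0 ι t) {X : Subgroup G} (hX : El X) (hc : Nat.card X = 32) (h : X ≤ Cx t) {E : Subgroup S8}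
    (hE : ∀ p, p ∈ E ↔ ∃ w ∈ X, Ac ι w p) (h1 : τ ∈ E) (h2 : Nat.card (E.subgroupOf (PG.alt 8)) = 8) :
    ∃ a, Out ι t a ∧ X = sO ι t a E := by
  obtain ⟨a, ha, e⟩ := (hE τ).1 h1
  have o : Out ι t a := ⟨mem_Cx.1 (h ha), hX a ha, e⟩
  refine ⟨a, o, eq_of_le_of_card_ge (fun w hw => (F.mem_sO o h1).2 ?_) (by rw [F.card_sO o h1, h2, hc])⟩
  obtain ⟨p, hp⟩ := F.aut w (mem_Cx.1 (h hw))
  have hpE := (hE p).2 ⟨w, hw, hp⟩
  by_cases k : p ∈ PG.alt 8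
  · exact ⟨⟨p, k⟩, hpE, (F.inv_even (mem_Cx.1 (h hw)) (hX w hw) (a := ⟨p, k⟩) hp).imp_right Or.inl⟩
  · have k2 := F.inv_even (mem_Cx.1 (h (mul_mem ha hw))) (hX _ (mul_mem ha hw)) (a := ⟨τ * p, mul_odd τ_odd k⟩)
      (e.mul hp)
    have k3 : w = a * (a * w) := by rw [← mul_assoc, o.sq, one_mul]
    refine ⟨⟨τ * p, mul_odd τ_odd k⟩, mul_mem h1 hpE, Or.inr (Or.inr (k2.imp (fun m => ?_) fun m => ?_))⟩
    · rw [k3, m]
    · rw [k3, m, ← mul_assoc, o.ct, mul_assoc]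

/-- 4-elements centralising an `E₃₂` of `C(t)` -/
theorem Fr0.sq_of (F : Fr0 ι t) {X : Subgroup G} (hX : El X) (hc : 32 ≤ Nat.card X) (h : X ≤ Cx t)
    {r : G} (h1 : r * t = t * r) (h2 : ∀ a ∈ X, r * a = a * r) (h4 : r * r * (r * r) = 1) :
    r * r = 1 ∨ r * r = t := by
  obtain ⟨Y, h3, h5, h6⟩ := F.trn_im hX h
  obtain ⟨p, hp⟩ := F.aut r h1
  have k : p ∈ Y := e16_cen h3 (by omega) fun q hq => by
    obtain ⟨g, hg, e⟩ := (h5 q).1 hq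
    exact (hp.mul e).unique F.inj (h2 g hg ▸ e.mul hp)
  exact F.eq_t (ac_one_iff.1 (h3 p k ▸ hp.mul hp)) (by rw [mul_assoc, h1, ← mul_assoc, h1, mul_assoc]) h4

/-- `C(t)` has 2-rank at most 5 -/
theorem Fr0.no64 (F : Fr0 ι t) {X : Subgroup G} (hX : El X) (hc : 64 ≤ Nat.card X) {s : G}
    (hs : IsConj t s) (h : X ≤ Cx s) : False := by
  obtain ⟨c, rfl⟩ := isConj_iff.1 hs
  obtain ⟨Y, h1, -, h3⟩ := F.trn_im (hX.cj c⁻¹) (cj_le_iff.2 fun a ha => mem_Cx'.2 (by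
    have := mem_Cx'.1 (h ha)
    calc _ = c⁻¹ * (a * (c * t * c⁻¹) * a⁻¹) * c := by group
      _ = t := by rw [this]; group))
  have := e16_card h1
  rw [card_cj] at h3
  omega

/-- transport of an `E₃₂` -/
theorem Fr0.trans (F : Fr0 ι t) {X : Subgroup G} (hX : El X) (hc : Nat.card X = 32) {s : G}
    (hs : IsConj t s) (h : s ∈ X) : ∃ g, g * s * g⁻¹ = t ∧ (cj g X = sT ι t E8 ∨
      ∃ a, Out ι t a ∧ (cj g X = sO ι t a F8 ∨ cj g X = sO ι t a M8)) := by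
  obtain ⟨g, E, h1, h2, h3, h4⟩ := F.trn_main hX hc hs h
  have hc' : Nat.card (cj g X) = 32 := by rw [card_cj, hc]
  refine ⟨g, h2, ?_⟩
  rcases h1 with rfl | rfl | rfl
  · refine Or.inl (eq_of_le_of_card_ge (fun w hw => F.mem_sT.2 ?_) (by rw [F.card_sT, card_even.2.2.1, hc']))
    obtain ⟨p, hp⟩ := F.aut w (mem_Cx.1 (h3 hw))
    have k := (h4 p).2 ⟨w, hw, hp⟩
    exact ⟨⟨p, el_E8.2.2.1 k⟩, k, F.inv_even (mem_Cx.1 (h3 hw)) (hX.cj g w hw) (a := ⟨p, el_E8.2.2.1 k⟩) hp⟩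
  · exact Or.inr ((F.trn_out (hX.cj g) hc' h3 h4 el_F8.2.2.1 card_even.2.2.2.1).imp fun _ e => ⟨e.1, Or.inl e.2⟩)
  · exact Or.inr ((F.trn_out (hX.cj g) hc' h3 h4 el_M8.2.2.1 card_even.2.2.2.2.1).imp fun _ e => ⟨e.1, Or.inr e.2⟩)

/-- no element of order 5 acts on an `E₃₂` fixing a conjugate of `t` -/
theorem Fr0.no5 (F : Fr0 ι t) {X : Subgroup G} (hX : El X) (hc : Nat.card X = 32) {s : G}
    (hs : IsConj t s) (h : s ∈ X) {f : G} (hf : ∀ a ∈ X, f * a * f⁻¹ ∈ X) (hfs : f * s = s * f) :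
    ∀ a ∈ X, f ^ 24 * a = a * f ^ 24 := by
  obtain ⟨g, E, h1, h2, h3, h4⟩ := F.trn_main hX hc hs h
  have n1 : ∀ n : ℕ, ∀ w ∈ cj g X, (g * f * g⁻¹) ^ n * w * ((g * f * g⁻¹) ^ n)⁻¹ ∈ cj g X := fun n => by
    induction n with
    | zero => simp
    | succ n ih =>
      intro w hw
      have := cj_le_iff.1 (le_refl (cj g X)) _ (hf _ (mem_cj.1 (ih w hw)))
      rw [pow_succ']
      generalize (g * f * g⁻¹) ^ n = y at this ⊢
      convert this using 1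
      group
  have c1 : g * f * g⁻¹ * t = t * (g * f * g⁻¹) := by rw [← h2, conj_mul, conj_mul, hfs]
  obtain ⟨p, hp⟩ := F.aut _ c1
  have k := exp_norm h1 (p := p) fun q hq => by
    obtain ⟨w, hw, e⟩ := (h4 q).1 hq
    exact (h4 _).2 ⟨_, by simpa using n1 1 w hw, (hp.mul e).mul hp.inv⟩
  have c2 : (g * f * g⁻¹) ^ 12 * t = t * (g * f * g⁻¹) ^ 12 := ((show Commute _ t from c1).pow_left 12).eq
  have h12 := hp.pow 12
  have n2 := n1 12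
  have e24 : f ^ 24 = g⁻¹ * ((g * f * g⁻¹) ^ 12 * (g * f * g⁻¹) ^ 12) * g := by rw [← pow_add, conj_pow]; group
  generalize (g * f * g⁻¹) ^ 12 = v at c2 h12 n2 e24
  intro a ha
  have hw := cj_le_iff.1 (le_refl (cj g X)) a ha
  obtain ⟨q, hq⟩ := F.aut _ (mem_Cx.1 (h3 hw))
  have m := mul_mem (n2 _ hw) (inv_mem hw)
  have e := ((h12.mul hq).mul h12.inv).mul hq.inv
  rw [k q ((h4 q).2 ⟨_, hw, hq⟩), mul_inv_cancel_right, mul_inv_cancel] at e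
  have e2 : v * v * (g * a * g⁻¹) = g * a * g⁻¹ * (v * v) := by
    generalize g * a * g⁻¹ = w at hw m e
    rcases F.eq_t (ac_one_iff.1 e) (mem_Cx.1 (h3 m)) (hX.cj g _ m) with e3 | e3
    · rw [mul_inv_eq_one, mul_inv_eq_iff_eq_mul] at e3
      rw [mul_assoc, e3, ← mul_assoc, e3, mul_assoc]
    · rw [mul_inv_eq_iff_eq_mul, mul_inv_eq_iff_eq_mul] at e3
      rw [mul_assoc, e3, ← mul_assoc, ← mul_assoc, c2, mul_assoc t, e3, ← mul_assoc, ← mul_assoc, F.t2, one_mul,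
        mul_assoc]
  rw [e24]
  calc _ = g⁻¹ * (v * v * (g * a * g⁻¹)) * g := by group
    _ = _ := by rw [e2]; group

/-- a subgroup of `C(t)` isomorphic to `A₈` is `L` -/
theorem Fr0.range_eq (F : Fr0 ι t) {δ : A8 →* G} (hδ : Function.Injective δ) (h : δ.range ≤ Cx t) :
    δ.range = ι.range := by
  have ex : ∀ i l : Fin 4, i ≠ l → ∃ j, i ≠ j ∧ j ≠ l := by decide
  have sq : ∀ i j l, i ≠ j → j ≠ l → i ≠ l → δ (x i l) = δ (x i j) * δ (x j l) * (δ (x i j) * δ (x j l)) :=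
    fun i j l h1 h2 h3 => by rw [← x_cm i j l h1 h2 h3]; simp only [map_mul, mul_assoc]
  have ct : ∀ a, δ a * t = t * δ a := fun a => mem_Cx.1 (h ⟨a, rfl⟩)
  have k1 : ∀ i l, i ≠ l → ∃ b, δ (x i l) = ι b ∨ δ (x i l) = t * ι b := fun i l h1 => by
    obtain ⟨j, h2, h3⟩ := ex i l h1
    obtain ⟨p, hp⟩ := F.aut _ (ct (x i j * x j l))
    have e : p * p ∈ PG.alt 8 := (em _).elim (fun m => mul_mem m m) fun m => mul_odd m m
    refine ⟨⟨p * p, e⟩, F.inv_even (ct _) (by rw [← map_mul, x_sq, map_one]) ?_⟩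
    rw [sq i j l h2 h3 h1, ← map_mul]
    exact hp.mul hp
  have k2 : ∀ b b' : A8, ∀ u v : G, u = ι b ∨ u = t * ι b → v = ι b' ∨ v = t * ι b' →
      u * v * (u * v) = ι (b * b' * (b * b')) := fun b b' u v hu hv => by
    have e : ∀ c, t * ι c * (t * ι c) = ι (c * c) := fun c => by
      rw [mul_assoc, ← mul_assoc (ι c), ← F.tC, ← mul_assoc, ← mul_assoc, F.t2, one_mul, map_mul]
    rcases hu with rfl | rfl <;> rcases hv with rfl | rfl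
    · simp only [map_mul]
    · rw [← mul_assoc (ι b), ← F.tC, mul_assoc t, ← map_mul, e]
    · rw [mul_assoc t, ← map_mul, e]
    · have : t * ι b * (t * ι b') = ι b * ι b' := by
        rw [mul_assoc, ← mul_assoc (ι b), ← F.tC, ← mul_assoc, ← mul_assoc, F.t2, one_mul]
      rw [this]
      simp only [map_mul]
  have k3 : ι.range.comap δ = ⊤ := gen_x fun i l h1 => by
    obtain ⟨j, h2, h3⟩ := ex i l h1
    obtain ⟨b, hb⟩ := k1 i j h2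
    obtain ⟨b', hb'⟩ := k1 j l h3
    exact ⟨_, ((sq i j l h2 h3 h1).trans (k2 b b' _ _ hb hb')).symm⟩
  refine eq_of_le_of_card_ge (by rintro _ ⟨a, rfl⟩; exact mem_comap.1 (k3 ▸ mem_top a)) ?_
  rw [← Nat.card_congr (MonoidHom.ofInjective hδ).toEquiv, ← Nat.card_congr (MonoidHom.ofInjective F.inj).toEquiv]

end CfsgLib.A8S
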