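import Cfsg.Agent.Lib.A8S.MatF
import Cfsg.Agent.Lib.A8S.Trn
import Cfsg.Agent.Lib.UFP.NU

/-!
# FLDA: fusion in the field case (plans/A8S.md)
-/

set_option autoImplicit false
set_option linter.unusedSectionVars false
set_option Elab.async false

namespace CfsgLib.A8S

open Subgroup Cfsg CfsgLib.Tech CfsgLib.W2 CfsgLib.Classical

universe u

variable {G : Type u} [Group G] [Finite G] {ι : A8 →* G} {t : G} {K : Subgroup G}

theorem flda_tv_inj {u v : GF4} (h : tv 0 1 u = tv 0 1 v) : u = v := by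
  have h01 : (0 : Fin 4) ≠ 1 := by decide
  simp only [tv, dif_pos h01] at h
  have := congrArg (fun m : Γ => (m : Matrix (Fin 4) (Fin 4) GF4) 0 1) h
  simpa [Matrix.SpecialLinearGroup.transvection_coe] using this

theorem flda_star : star (⟨0, 1⟩ : GF4) ≠ ⟨0, 1⟩ := by
  intro h
  have := congrArg QuadraticAlgebra.re h
  simp at this

omit [Finite G] in
/-- adjoining a commuting involution -/
def fldaAdj (X : Subgroup G) (b : G) (h1 : b * b = 1) (h2 : ∀ a ∈ X, b * a = a * b) : Subgroup G where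
  carrier := {g | b * g ∈ X ∨ g ∈ X}
  one_mem' := .inr X.one_mem
  mul_mem' := by
    rintro g h (hg | hg) (hh | hh)
    · refine .inr ?_
      have e : g * h = (b * g) * (b * h) := by
        have e1 : b * (b * g) = b * g * b := h2 _ hg
        rw [← mul_assoc (b * g) b h, ← e1, ← mul_assoc b b g, h1, one_mul]
      rw [e]; exact mul_mem hg hh
    · exact .inl (by rw [← mul_assoc]; exact mul_mem hg hh)
    · exact .inl (by rw [← mul_assoc, h2 g hg, mul_assoc]; exact mul_mem hg hh)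
    · exact .inr (mul_mem hg hh)
  inv_mem' := by
    rintro g (hg | hg)
    · refine .inl ?_
      have hb : b⁻¹ = b := inv_eq_of_mul_eq_one_right h1
      have e1 : b * (b * g)⁻¹ = (b * g)⁻¹ * b := h2 _ (inv_mem hg)
      have e : b * g⁻¹ = (b * g)⁻¹ := by
        rw [mul_inv_rev, hb, mul_assoc g⁻¹ b b, h1, mul_one] at e1
        rw [mul_inv_rev, hb]
        calc b * g⁻¹ = b * g⁻¹ * (b * b) := by rw [h1, mul_one]
          _ = (b * (g⁻¹ * b)) * b := by simp only [mul_assoc]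
          _ = g⁻¹ * b := by rw [e1]
      rw [e]; exact inv_mem hg
    · exact .inr (inv_mem hg)

omit [Finite G] in
theorem flda_el_map {φ : Γ →* G} {X : Subgroup Γ} (hX : El X) : El (X.map φ) := by
  rintro _ ⟨m, hm, rfl⟩
  rw [← map_mul, hX m hm, map_one]

omit [Finite G] in
theorem flda_sq {s : G} (t2 : t * t = 1) (h : IsConj t s) : s * s = 1 := by
  obtain ⟨c, rfl⟩ := isConj_iff.1 h
  rw [show c * t * c⁻¹ * (c * t * c⁻¹) = c * (t * t) * c⁻¹ by group, t2, mul_one, mul_inv_cancel]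

namespace Fld

variable {φ : Γ →* G} (d : Fld ι t φ) (F : Fr ι t)
include d F

theorem L_le : ι.range ≤ φ.range := by
  have h : φ.range.comap ι = ⊤ := gen_x fun i j hij => ⟨tv i j 1, d.one i j hij⟩
  rintro _ ⟨a, rfl⟩
  have : a ∈ φ.range.comap ι := h ▸ mem_top a
  exact this

theorem U_le : img ι W8 ≤ UΓ.map φ := by
  rintro _ ⟨a, ha, rfl⟩
  have k : ∀ i j : Fin 4, i < j → x i j ∈ (UΓ.map φ).comap ι := fun i j hij =>
    ⟨tv i j 1, tv_mem hij 1, d.one i j hij.ne⟩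
  exact gen_U (S := (UΓ.map φ).comap ι) (k 0 1 (by decide)) (k 1 2 (by decide)) (k 2 3 (by decide)) ha

theorem fix {m : Γ} (h : φ m * t = t * φ m) : φ m ∈ ι.range := by
  have h1 : σΓ m = m := d.inj (by rw [← d.fld, ← h, mul_inv_cancel_right])
  have h2 : closure {g | ∃ i j, i ≠ j ∧ g = tv i j 1} ≤ ι.range.comap φ := by
    rw [closure_le]
    rintro _ ⟨i, j, hij, rfl⟩
    exact ⟨x i j, (d.one i j hij).symm⟩
  exact h2 (fix_σ h1)

theorem t_not : t ∉ φ.range := by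
  rintro ⟨m, hm⟩
  obtain ⟨a, ha⟩ := d.fix F (m := m) (by rw [hm])
  exact F.toFr0.i_ne_t a (ha.trans hm)

theorem dec {g : G} (hg : g ∈ φ.range ⊔ Cx t) : ∃ m c, c * t = t * c ∧ g = φ m * c := by
  have h : g ∈ ((φ.range ⊔ Cx t : Subgroup G) : Set G) := hg
  rw [coe_mul_of_right_le_normalizer_left _ _ d.cn] at h
  obtain ⟨_, ⟨m, rfl⟩, c, hc, rfl⟩ := h
  exact ⟨m, c, mem_Cx.1 hc, rfl⟩

theorem c_fd {u : Γ} (hu : u ∈ UΓ) (h : φ u * t * (φ u * t) = 1) :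
    ∃ v ∈ UΓ, φ u * t = φ v * t * (φ v)⁻¹ := by
  have h1 : u * σΓ u = 1 := d.inj (by
    rw [map_mul, ← d.fld, map_one, ← h, inv_eq_of_mul_eq_one_right F.t2]
    simp only [mul_assoc])
  obtain ⟨v, hv, e⟩ := h90 hu h1
  refine ⟨v, hv, ?_⟩
  rw [e, map_mul, map_inv, ← d.fld]
  group

theorem flda_syl : IsSylowIn 2 (UΓ.map φ) φ.range := by
  refine ⟨map_le_range _ _, syl_UΓ.pgroup.map φ, ?_⟩
  rw [MonoidHom.range_eq_map, relIndex_map_map_of_injective _ _ d.inj]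
  exact syl_UΓ.not_dvd

theorem flda_sT {w : G} (hw : w ∈ sT ι t W8) : ∃ u ∈ UΓ, w = φ u ∨ w = φ u * t := by
  obtain ⟨b, hb, h⟩ := F.toFr0.mem_sT.1 hw
  obtain ⟨u, hu, e⟩ := d.U_le F (i_mem_img (ι := ι) hb)
  refine ⟨u, hu, h.imp (fun h => h.trans e.symm) fun h => ?_⟩
  rw [h, e, F.tC b]

/-- structure of a 2-subgroup of `G₁ C(t)` containing `Û ⟨t⟩` -/
theorem S_cases {S : Subgroup G} (hS : IsPGroup 2 S) (h1 : S ≤ φ.range ⊔ Cx t) (h2 : UΓ.map φ ≤ S)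
    (h3 : t ∈ S) : (∀ w ∈ S, ∃ u ∈ UΓ, w = φ u ∨ w = φ u * t) ∨
      ∃ γ a, IsGr γ ∧ a ∈ S ∧ Out ι t a ∧ (∀ m, a * φ m * a⁻¹ = φ (γ m)) ∧
        ∀ w ∈ S, ∃ u ∈ UΓ, w = φ u ∨ w = φ u * t ∨ w = φ u * a ∨ w = φ u * (a * t) := by
  have hU : S ⊓ φ.range = UΓ.map φ :=
    (d.flda_syl F).eq_of_le (hS.to_le inf_le_left) (le_inf h2 (map_le_range _ _)) inf_le_right
  have hdec : ∀ w ∈ S, ∃ v ∈ UΓ, ∃ w' ∈ S ⊓ Cx t, w = φ v * w' := by
    intro w hw
    obtain ⟨m, c, hc, e⟩ := d.dec F (h1 hw)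
    have k1 : w * t * w⁻¹ * t⁻¹ ∈ S ⊓ φ.range := by
      refine ⟨S.mul_mem (S.mul_mem (S.mul_mem hw h3) (S.inv_mem hw)) (S.inv_mem h3), m * σΓ m⁻¹, ?_⟩
      rw [map_mul, ← d.fld, map_inv, e, mul_assoc (φ m) c t, hc]
      group
    rw [hU] at k1
    obtain ⟨u, hu, eu⟩ := k1
    have k2 : φ u * t = w * t * w⁻¹ := by rw [eu]; group
    obtain ⟨v, hv, ev⟩ := d.c_fd F hu (by
      rw [k2]; exact flda_sq F.t2 (isConj_iff.2 ⟨w, rfl⟩))
    refine ⟨v, hv, (φ v)⁻¹ * w, ⟨S.mul_mem (S.inv_mem (h2 ⟨v, hv, rfl⟩)) hw, mem_Cx'.2 ?_⟩, by group⟩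
    rw [show (φ v)⁻¹ * w * t * ((φ v)⁻¹ * w)⁻¹ = (φ v)⁻¹ * (w * t * w⁻¹) * φ v by group, ← k2, ev]
    group
  have hT : sT ι t W8 ≤ S ⊓ Cx t := by
    refine sup_le (zpowers_le.2 ⟨h3, mem_Cx.2 rfl⟩) (le_inf ((d.U_le F).trans h2) ?_)
    rintro _ ⟨a, -, rfl⟩
    exact mem_Cx.2 (F.tC a).symm
  have ht : t ∈ sT ι t W8 := mem_sup_left (mem_zpowers t)
  rcases F.T_cases (hS.to_le inf_le_left) inf_le_right hT with h | ⟨a, ha, hac, hw⟩
  · refine .inl fun w hw => ?_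
    obtain ⟨v, hv, w', hw', rfl⟩ := hdec w hw
    rw [h] at hw'
    obtain ⟨u, hu, e⟩ := d.flda_sT F hw'
    refine ⟨v * u, mul_mem hv hu, e.imp (fun e => ?_) fun e => ?_⟩
    · rw [e, map_mul]
    · rw [e, map_mul, mul_assoc]
  · obtain ⟨γ, hγ⟩ := exists_gr
    have key : ∀ a ∈ S ⊓ Cx t, Ac ι a τ → (∀ w ∈ S ⊓ Cx t, w ∈ sT ι t W8 ∨ a * w ∈ sT ι t W8) →
        (∀ m, a * φ m * a⁻¹ = φ (γ m)) → a ∈ S ∧ Out ι t a ∧ (∀ m, a * φ m * a⁻¹ = φ (γ m)) ∧
          ∀ w ∈ S, ∃ u ∈ UΓ, w = φ u ∨ w = φ u * t ∨ w = φ u * a ∨ w = φ u * (a * t) := by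
      intro a ha hac hw hg
      have hat : a * t = t * a := mem_Cx.1 ha.2
      have a2 : a * a = 1 := by
        have c1 : CL ι (a * a) := ac_one_iff.1 (τ_sq ▸ hac.mul hac)
        rcases F.two (a * a) c1 (mem_Cx.1 (mul_mem ha.2 ha.2))
          (isPGroup_zpowers_of_mem hS (mul_mem ha.1 ha.1)) with h | h
        · exact h
        · exfalso
          have k := d.fld (tv 0 1 ⟨0, 1⟩)
          rw [← h, show a * a * φ (tv 0 1 ⟨0, 1⟩) * (a * a)⁻¹ =
            a * (a * φ (tv 0 1 ⟨0, 1⟩) * a⁻¹) * a⁻¹ by group, hg, hg, hγ, hγ, σ_tv] at k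
          exact flda_star (flda_tv_inj (d.inj k)).symm
      refine ⟨ha.1, ⟨hat, a2, hac⟩, hg, fun w hw0 => ?_⟩
      obtain ⟨v, hv, w', hw', rfl⟩ := hdec w hw0
      rcases hw w' hw' with h | h
      · obtain ⟨u, hu, e⟩ := d.flda_sT F h
        refine ⟨v * u, mul_mem hv hu, e.imp (fun e => ?_) fun e => .inl ?_⟩
        · rw [e, map_mul]
        · rw [e, map_mul, mul_assoc]
      · obtain ⟨u, hu, e⟩ := d.flda_sT F h
        have e0 : w' = a * (a * w') := by rw [← mul_assoc, a2, one_mul]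
        refine ⟨v * γ u, mul_mem hv (hγ.mem hu), .inr (.inr (e.imp (fun e => ?_) fun e => ?_))⟩
        · rw [e0, e, map_mul, ← hg]; group
        · rw [e0, e, map_mul, ← hg]; group
    have hat : a * t = t * a := mem_Cx.1 ha.2
    rcases d.gr γ hγ a hat hac with hg | hg
    · exact .inr ⟨γ, a, hγ, key a ha hac hw hg⟩
    · refine .inr ⟨γ, a * t, hγ, key (a * t) (mul_mem ha (hT ht)) ?_ (fun w h => ?_) hg⟩
      · have := hac.mul (ac_one_iff.2 F.tC)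
        rwa [mul_one] at this
      · refine (hw w h).imp_right fun h => ?_
        rw [hat, mul_assoc]
        exact mul_mem ht h

theorem n_in {u : Γ} (hu : u ∈ UΓ) : ¬ IsConj t (φ u) := by
  intro h
  have h1 : u * u = 1 := d.inj (by rw [map_mul, map_one]; exact flda_sq F.t2 h)
  obtain ⟨X, hX, hc, hm⟩ := in64 hu h1
  refine F.toFr0.no64 (flda_el_map (φ := φ) hX) (by rwa [card_map_of_injective d.inj]) h ?_
  rintro _ ⟨m, hm', rfl⟩
  rw [mem_Cx, ← map_mul, ← map_mul, hm m hm']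

theorem n_gr {γ : Γ →* Γ} (hγ : IsGr γ) {a : G} (h : ∀ m, a * φ m * a⁻¹ = φ (γ m)) (ha : a * a = 1)
    {u : Γ} (hu : u ∈ UΓ) : ¬ IsConj t (φ u * a) := by
  intro hc
  have h1 : u * γ u = 1 := d.inj (by
    rw [map_mul, ← h, map_one, ← flda_sq F.t2 hc, inv_eq_of_mul_eq_one_right ha]
    simp only [mul_assoc])
  obtain ⟨X, hX, hc', hm⟩ := gr64 hγ hu h1
  refine F.toFr0.no64 (flda_el_map (φ := φ) hX) (by rwa [card_map_of_injective d.inj]) hc ?_
  rintro _ ⟨m, hm', rfl⟩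
  rw [Cx_comm, mem_Cx']
  conv_rhs => rw [← hm m hm', map_mul, map_mul, map_inv, ← h]
  group

theorem n_gf {γ : Γ →* Γ} (hγ : IsGr γ) {a : G} (h : ∀ m, a * φ m * a⁻¹ = φ (γ m)) (ha : Out ι t a)
    {u : Γ} (hu : u ∈ UΓ) : ¬ IsConj t (φ u * (a * t)) := by
  intro hc
  have hb : ∀ m, a * t * φ m * (a * t)⁻¹ = φ (γ (σΓ m)) := fun m => by
    rw [← h, ← d.fld]; group
  have b2 : a * t * (a * t) = 1 := by
    rw [mul_assoc, ← mul_assoc t a t, ← ha.ct, mul_assoc a t t, F.t2, mul_one, ha.sq]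
  generalize a * t = b at hc hb b2
  have h1 : u * γ (σΓ u) = 1 := d.inj (by
    rw [map_mul, ← hb, map_one, ← flda_sq F.t2 hc, inv_eq_of_mul_eq_one_right b2]
    simp only [mul_assoc])
  obtain ⟨v, hv, e⟩ := h90g hγ hu h1
  have hcb : IsConj t b := by
    refine hc.trans (isConj_iff.2 ⟨(φ v)⁻¹, ?_⟩)
    rw [e, map_mul, map_inv, ← hb]
    group
  have hbn : b ∉ φ.range := by
    intro hb'
    obtain ⟨g, -, u', hu', e'⟩ := (d.flda_syl F).exists_conj_mem hb'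
      (isPGroup_zpowers_of_pow (k := 1) (by rw [pow_one, pow_two, b2]))
    exact d.n_in F hu' (hcb.trans (isConj_iff.2 ⟨g, e'.symm⟩))
  obtain ⟨X, f, hX, hc16, hfx, hf, hn, m, hm, hne⟩ := five hγ
  have hcom : ∀ m, γ (σΓ m) = m → b * φ m = φ m * b := fun m hm => by
    have := hb m
    rw [hm] at this
    rw [← mul_inv_eq_iff_eq_mul, this]
  have h2 : ∀ a ∈ X.map φ, b * a = a * b := by
    rintro _ ⟨m, hm, rfl⟩
    exact hcom m (hfx m hm)
  have hle : X.map φ ≤ fldaAdj (X.map φ) b b2 h2 := fun g hg => .inr hg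
  have hbm : b ∈ fldaAdj (X.map φ) b b2 h2 := .inl (by rw [b2]; exact one_mem _)
  have hel : El (fldaAdj (X.map φ) b b2 h2) := by
    rintro g (hg | hg)
    · have e1 := flda_el_map (φ := φ) hX _ hg
      have e2 : b * (b * g) = b * g * b := h2 _ hg
      rw [← mul_assoc (b * g) b g, ← e2, ← mul_assoc b b g, b2, one_mul] at e1
      exact e1
    · exact flda_el_map (φ := φ) hX _ hg
  have hcard : Nat.card (fldaAdj (X.map φ) b b2 h2) = 32 := by
    rw [← card_mul_relIndex' hle, card_map_of_injective d.inj, hc16,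
      relIndex_eq_two_iff_exists_notMem_and'.2
        ⟨b, hbm, fun hb' => hbn (map_le_range _ _ hb'), fun g hg => hg⟩]
  have hfb : φ f * b = b * φ f := (hcom f hf).symm
  have hX' : ∀ a ∈ X.map φ, φ f * a * (φ f)⁻¹ ∈ X.map φ := by
    rintro _ ⟨m, hm, rfl⟩
    exact ⟨f * m * f⁻¹, hn m hm, by rw [map_mul, map_mul, map_inv]⟩
  have k := F.toFr0.no5 hel hcard hcb hbm (f := φ f) (by
    rintro g (hg | hg)
    · refine .inl ?_
      have := hX' _ hg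
      rwa [← mul_assoc, hfb, mul_assoc b, mul_assoc b] at this
    · exact .inr (hX' _ hg)) hfb (φ m) (hle ⟨m, hm, rfl⟩)
  exact hne (d.inj (by rw [map_mul, map_mul, map_pow, k]))

theorem uu : UFP.U (φ.range ⊔ Cx t) t := by
  have ht : t ∈ φ.range ⊔ Cx t := mem_sup_right (mem_Cx.2 rfl)
  refine ⟨F.t2, ht, fun g hg => ?_⟩
  have tp : IsPGroup 2 (zpowers t) :=
    isPGroup_zpowers_of_pow (k := 1) (by rw [pow_one, pow_two, F.t2])
  have hQ : IsPGroup 2 (UΓ.map φ ⊔ zpowers t : Subgroup G) := by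
    refine (d.flda_syl F).pgroup.to_sup_of_normal_left' tp (zpowers_le.2 (mem_normalizer_of_forall ?_))
    rintro _ ⟨u, hu, rfl⟩
    exact ⟨σΓ u, σ_mem hu, (d.fld u).symm⟩
  obtain ⟨S, hS, hQS⟩ := exists_isSylowIn_ge hQ
    (sup_le ((map_le_range _ _).trans le_sup_left) (zpowers_le.2 ht))
  have hc : IsConj t (g * t * g⁻¹) := isConj_iff.2 ⟨g, rfl⟩
  obtain ⟨h, hh, hw⟩ := hS.exists_conj_mem hg
    (isPGroup_zpowers_of_pow (k := 1) (by rw [pow_one, pow_two, flda_sq F.t2 hc]))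
  have hc' : IsConj t (h * (g * t * g⁻¹) * h⁻¹) := hc.trans (isConj_iff.2 ⟨h, rfl⟩)
  have fin : ∀ u ∈ UΓ, h * (g * t * g⁻¹) * h⁻¹ = φ u * t → g ∈ φ.range ⊔ Cx t := by
    intro u hu e
    obtain ⟨v, -, ev⟩ := d.c_fd F hu (by rw [← e]; exact flda_sq F.t2 hc')
    have k : (φ v)⁻¹ * h * g ∈ Cx t := by
      rw [mem_Cx', show (φ v)⁻¹ * h * g * t * ((φ v)⁻¹ * h * g)⁻¹ =
        (φ v)⁻¹ * (h * (g * t * g⁻¹) * h⁻¹) * φ v by group, e, ev]
      group
    rw [show g = h⁻¹ * (φ v * ((φ v)⁻¹ * h * g)) by group]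
    exact mul_mem (inv_mem hh) (mul_mem (mem_sup_left ⟨v, rfl⟩) (mem_sup_right k))
  rcases d.S_cases F hS.pgroup hS.le (le_sup_left.trans hQS) (hQS (mem_sup_right (mem_zpowers t))) with
    H | ⟨γ, a, hγ, -, ha, hga, H⟩
  · obtain ⟨u, hu, e | e⟩ := H _ hw
    · exact absurd (e ▸ hc') (d.n_in F hu)
    · exact fin u hu e
  · obtain ⟨u, hu, e | e | e | e⟩ := H _ hw
    · exact absurd (e ▸ hc') (d.n_in F hu)
    · exact fin u hu e
    · exact absurd (e ▸ hc') (d.n_gr F hγ hga ha.sq hu)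
    · exact absurd (e ▸ hc') (d.n_gf F hγ hga ha hu)

end Fld

end CfsgLib.A8S
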