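import Cfsg.Agent.Lib.A8S.FldA
import Cfsg.Agent.S1769
import Cfsg.Agent.Lib.Transfer.Thompson

/-!
# FLDB: the case `L₄(4)` (plans/A8S.md)
-/

set_option autoImplicit false
set_option linter.unusedSectionVars false
set_option Elab.async false

namespace CfsgLib.A8S

open Subgroup Cfsg CfsgLib.Tech CfsgLib.W2 CfsgLib.Classical

universe u

variable {G : Type u} [Group G] [Finite G] {ι : A8 →* G} {t : G} {K : Subgroup G}

/-- `g = φ m * c` with `c ∈ C(t)` acting as `p` -/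
def fb_par (ι : A8 →* G) (t : G) (φ : Γ →* G) (g : G) (p : S8) : Prop :=
  ∃ m c, c * t = t * c ∧ Ac ι c p ∧ g = φ m * c

open scoped _root_.Classical in
/-- the parity -/
noncomputable def fb_f (ι : A8 →* G) (t : G) (φ : Γ →* G) (g : G) : ℤˣ :=
  if ∃ p ∈ PG.alt 8, fb_par ι t φ g p then 1 else -1

namespace Fld

variable {φ : Γ →* G} (d : Fld ι t φ) (F : Fr ι t) (g : SLE.Glob K t)
include d F

theorem fb_S : ∃ S, IsSylowIn 2 S ⊤ ∧ S ≤ φ.range ⊔ Cx t ∧ UΓ.map φ ≤ S ∧ t ∈ S := by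
  have := Fact.mk Nat.prime_two
  obtain ⟨S, hS, le⟩ := exists_isSylowIn_ge (IsPGroup.to_sup_of_normal_left' (syl_UΓ.pgroup.map φ)
    (isPGroup_zpowers_of_pow (x := t) (k := 1) (by rw [pow_one, pow_two, F.t2]))
    (zpowers_le.2 (mem_normalizer_of_forall (by
      rintro _ ⟨u, hu, rfl⟩
      exact ⟨_, σ_mem hu, (d.fld u).symm⟩)))) le_top
  have tS := le (mem_sup_right (mem_zpowers t))
  exact ⟨S, hS, (d.uu F).le_of_pgroup hS.pgroup tS, le_sup_left.trans le, tS⟩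

theorem fb_uniq {w : G} {p q : S8} (hp : fb_par ι t φ w p) (hq : fb_par ι t φ w q) :
    p ∈ PG.alt 8 ↔ q ∈ PG.alt 8 := by
  obtain ⟨m, c, c1, c2, rfl⟩ := hp
  obtain ⟨m', c', c1', c2', e⟩ := hq
  have k : φ (m'⁻¹ * m) = c' * c⁻¹ := by
    rw [map_mul, map_inv, inv_mul_eq_iff_eq_mul, ← mul_assoc, ← e, mul_inv_cancel_right]
  obtain ⟨b, hb⟩ := d.fix F (m := m'⁻¹ * m)
    (k ▸ mem_Cx.1 (mul_mem (mem_Cx.2 c1') (inv_mem (mem_Cx.2 c1))))
  have k2 : (b : S8) = q * p⁻¹ := (ac_i b).unique F.inj (by rw [hb, k]; exact c2'.mul c2.inv)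
  rw [eq_mul_inv_iff_mul_eq] at k2
  rw [← k2, mul_mem_cancel_left b.2]

theorem fb_val {w : G} {p : S8} (hp : fb_par ι t φ w p) :
    fb_f ι t φ w = if p ∈ PG.alt 8 then 1 else -1 := by
  unfold fb_f
  split_ifs with h1 h2 h2
  · rfl
  · obtain ⟨_, h3, h4⟩ := h1
    exact absurd ((d.fb_uniq F h4 hp).1 h3) h2
  · exact absurd ⟨p, h2, hp⟩ h1
  · rfl

theorem fb_ex {w : G} (hw : w ∈ φ.range ⊔ Cx t) : ∃ p, fb_par ι t φ w p := by
  obtain ⟨m, c, c1, e⟩ := d.dec F hw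
  obtain ⟨p, hp⟩ := F.aut c c1
  exact ⟨p, m, c, c1, hp, e⟩

theorem fb_mul {v w : G} {p q : S8} (hp : fb_par ι t φ v p) (hq : fb_par ι t φ w q) :
    fb_par ι t φ (v * w) (p * q) := by
  obtain ⟨m, c, c1, c2, rfl⟩ := hp
  obtain ⟨m', c', c1', c2', rfl⟩ := hq
  obtain ⟨n, hn⟩ := conj_mem_of_mem_normalizer (d.cn (mem_Cx.2 c1)) (⟨m', rfl⟩ : φ m' ∈ φ.range)
  exact ⟨m * n, c * c', mem_Cx.1 (mul_mem (mem_Cx.2 c1) (mem_Cx.2 c1')), c2.mul c2',
    by rw [map_mul, hn]; group⟩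

include g

theorem fb_th {S : Subgroup G} (hS : IsSylowIn 2 S ⊤) (tS : t ∈ S) {a : G} {γ : Γ →* Γ} (aa : a * a = 1)
    (ta : a * t = t * a) (h : ∀ m, a * φ m * a⁻¹ = φ (γ m)) (hγ : ∀ u ∈ UΓ, γ u ∈ UΓ)
    (c : ∀ w ∈ S, ∃ u ∈ UΓ, w = φ u ∨ w = φ u * t ∨ w = φ u * a ∨ w = φ u * (a * t))
    (n : ∀ u ∈ UΓ, ¬ IsConj t (φ u * a)) : t ∉ K := by
  have m : ∀ {w}, w ∈ UΓ.map φ ⊔ zpowers a → ¬ IsConj t w := fun {w} hw => by
    obtain ⟨b, hb, _, ⟨u, hu, rfl⟩, rfl⟩ := (Sect.mem_sup_of_norm (A := zpowers a) (B := UΓ.map φ) (by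
      rintro b hb _ ⟨u, hu, rfl⟩
      rcases (Sect.mem_zpowers_two aa).1 hb with rfl | rfl
      exacts [⟨u, hu, by simp⟩, ⟨_, hγ u hu, (h u).symm⟩])).1 (sup_comm _ (zpowers a) ▸ hw)
    rcases (Sect.mem_zpowers_two aa).1 hb with rfl | rfl
    exacts [by rw [one_mul]; exact d.n_in F hu, by
      rw [mul_inv_eq_iff_eq_mul.1 (h u)]; exact n _ (hγ u hu)]
  rcases Transfer.thompson_transfer (H := S) (Q := UΓ.map φ ⊔ zpowers a) (u := t)
    (by simpa using hS.not_dvd) (relIndex_eq_two_iff_exists_notMem_and.2 ⟨t, tS, fun k => m k (IsConj.refl t),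
      fun w hw => by
        obtain ⟨u, hu, e⟩ := c w hw
        have m1 : φ u ∈ UΓ.map φ ⊔ zpowers a := mem_sup_left ⟨u, hu, rfl⟩
        have m2 := mul_mem m1 (mem_sup_right (mem_zpowers a))
        rcases e with rfl | rfl | rfl | rfl
        exacts [.inr m1, .inl (by rwa [mul_assoc, F.t2, mul_one]), .inr m2,
          .inl (by rwa [mul_assoc, mul_assoc, F.t2, mul_one])]⟩)
    (orderOf_eq_prime (by rw [pow_two, F.t2]) F.t1) with ⟨M, hM, hi, k⟩ | ⟨k, hk⟩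
  · refine g.not_mem fun k' => k (Subgroup.Normal.quotient_commutative_iff_commutator_le.1 ?_ k')
    have := Fact.mk Nat.prime_two
    exact (isCyclic_of_prime_card (α := G ⧸ M) hi).isMulCommutative
  · exact absurd (isConj_iff.2 ⟨k, rfl⟩) (m hk)

theorem not_mem : t ∉ K := by
  obtain ⟨S, hS, h1, h2, h3⟩ := d.fb_S F
  rcases d.S_cases F hS.pgroup h1 h2 h3 with c | ⟨γ, a, hγ, -, ha, e, c⟩
  · exact d.fb_th F g hS h3 (a := 1) (γ := MonoidHom.id _) (by simp) (by simp) (by simp) (by simp)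
      (fun w hw => (c w hw).imp fun u k => ⟨k.1, k.2.imp_right .inl⟩) fun u hu => by
        rw [mul_one]; exact d.n_in F hu
  · exact d.fb_th F g hS h3 ha.sq ha.ct e (fun u => hγ.mem) c fun u => d.n_gr F hγ e ha.sq

/-- no element of `C(t)` induces a graph automorphism -/
theorem no_out {a : G} (ha : Out ι t a) : False := by
  have key : ∀ k ∈ K, k * t = t * k → Ac ι k τ → False := fun k hk c e => by
    have := (d.uu F).eq_one_of_inv (g.index (d.not_mem F g)) (d.not_mem F g) g.perf (fb_f ι t φ)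
      (fun v _ hv w _ hw => by
        obtain ⟨p, hp⟩ := d.fb_ex F hv
        obtain ⟨q, hq⟩ := d.fb_ex F hw
        rw [d.fb_val F hp, d.fb_val F hq, d.fb_val F (d.fb_mul F hp hq)]
        by_cases h1 : p ∈ PG.alt 8
        · rw [if_pos h1, one_mul]
          exact if_congr (mul_mem_cancel_left h1) rfl rfl
        by_cases h2 : q ∈ PG.alt 8
        · rw [if_pos h2, mul_one]
          exact if_congr (mul_mem_cancel_right h2) rfl rfl
        · rw [if_neg h1, if_neg h2, if_pos (mul_odd h1 h2)]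
          simp)
      (fun v _ hv => by
        obtain ⟨p, m, c, c1, c2, rfl⟩ := d.fb_ex F hv
        rw [Int.units_inv_eq_self, d.fb_val F ⟨m, c, c1, c2, rfl⟩, d.fb_val F ⟨σΓ m, c, c1, c2, by
          rw [← d.fld, ← conj_mul, ← c1, mul_inv_cancel_right]⟩]) hk c.symm
    rw [d.fb_val F ⟨1, k, c, e, by simp⟩, if_neg τ_odd] at this
    exact absurd this (by decide)
  rcases g.gen a with k | k
  · exact key a k ha.ct ha.ac
  · exact key _ (ha.ct ▸ k) (F.toFr0.out_t ha).ct (F.toFr0.out_t ha).ac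

theorem fb_le : φ.range ≤ K := g.pf_le (by
  rw [MonoidHom.range_eq_map, ← map_commutator]
  exact map_mono perf_Γ)

theorem syl_K : IsSylowIn 2 (UΓ.map φ) K := by
  have := Fact.mk Nat.prime_two
  have := g.nrm
  obtain ⟨S, hS, h1, h2, h3⟩ := d.fb_S F
  rcases d.S_cases F hS.pgroup h1 h2 h3 with c | ⟨γ, a, -, -, ha, -⟩
  swap
  · exact (d.no_out F g ha).elim
  have k := hS.inf_of_le_normalizer (N := K) le_normalizer_of_normal
  rw [top_inf_eq] at k
  convert k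
  refine le_antisymm (le_inf h2 ((map_le_range _ _).trans (d.fb_le F g))) fun w hw => ?_
  obtain ⟨u, hu, rfl | rfl⟩ := c w hw.1
  · exact ⟨u, hu, rfl⟩
  · exact absurd ((mul_mem_cancel_left (d.fb_le F g ⟨u, rfl⟩)).1 hw.2) (d.not_mem F g)

theorem main : t ∉ K ∧ Nonempty (K ≃* Matrix.ProjectiveSpecialLinearGroup (Fin 4) GF4) := by
  have := Fact.mk Nat.prime_two
  have := g.simple
  have k := d.syl_K F g
  refine ⟨d.not_mem F g, Cfsg.Agent.S1769.result (fun r => ?_) 2 le_rfl card_GF4 4 (by omega) k.toSylow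
    (syl_UΓ.toSylowTop.mapSurjective (QuotientGroup.mk'_surjective _))
    ⟨((subgroupOfEquivOfLe k.le).trans (UΓ.equivMapOfInjective φ d.inj).symm).trans
      (UΓ.equivMapOfInjective _ ((MonoidHom.ker_eq_bot_iff _).1 ((QuotientGroup.ker_mk' _).trans center_Γ)))⟩⟩
  obtain ⟨X, hX, c, -⟩ := in64 (one_mem UΓ) (mul_one 1)
  let ψ : Γ →* K := φ.codRestrict K fun m => d.fb_le F g ⟨m, rfl⟩
  have e : El (X.map ψ) := by
    rintro _ ⟨m, hm, rfl⟩
    rw [← map_mul, hX m hm, map_one]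
  have := r (X.map ψ) (le_centralizer_iff_isMulCommutative.1 fun a ha b hb => e.comm hb ha)
    fun a ha => by rw [pow_two, e a ha]
  rw [card_map_of_injective fun a b h => d.inj (congrArg Subtype.val h)] at this
  omega

end Fld

end CfsgLib.A8S
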