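import Cfsg.Agent.Lib.A8S.PP
import Cfsg.Agent.Lib.A8S.HS0

/-!
# HS1: the action of `L₃(2)` on `4³` (plans/A8S.md)
-/

set_option autoImplicit false
set_option linter.unusedSectionVars false
set_option Elab.async false
set_option synthInstance.maxSize 100000
set_option synthInstance.maxHeartbeats 200000

namespace CfsgLib.A8S

open Subgroup Cfsg CfsgLib.Tech CfsgLib.W2 CfsgLib.Classical

universe u

variable {G : Type u} [Group G] [Finite G] {ι : A8 →* G} {t : G} {K : Subgroup G}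

namespace HS1

open TG SylT

/-! ### matrices over `ℤ/4` -/

abbrev V : Type := ZMod 4 × ZMod 4 × ZMod 4
abbrev M : Type := V × V × V

def app (m : M) (v : V) : V := v.1 • m.1 + v.2.1 • m.2.1 + v.2.2 • m.2.2
def mm (m n : M) : M := (app m n.1, app m n.2.1, app m n.2.2)
def one : M := ((1, 0, 0), (0, 1, 0), (0, 0, 1))

theorem app_mm (m n : M) (v : V) : app (mm m n) v = app m (app n v) := by
  ext <;> simp [app, mm] <;> ring

theorem app_one (v : V) : app one v = v := by ext <;> simp [app, one]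
theorem app1 (m : M) : app m (1, 0, 0) = m.1 := by simp [app]
theorem app2 (m : M) : app m (0, 1, 0) = m.2.1 := by simp [app]
theorem app3 (m : M) : app m (0, 0, 1) = m.2.2 := by simp [app]

def cm (a b : M) : M := mm (mm (mm a b) a) b
def mA (a3 : V) : M := ((1, 1, 0), (0, 3, 0), a3)
def mB (b1 : V) : M := (b1, (0, 1, 1), (0, 0, 3))
def LA : List V := [(0, 0, 1), (0, 0, 3), (0, 2, 1), (0, 2, 3)]
def LB : List V := [(1, 0, 0), (1, 0, 2), (3, 0, 0), (3, 0, 2)]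

theorem bf1 : ∀ a2 : V, a2 + a2 = (0, 1, 0) + (0, 1, 0) → ∀ a3 : V, a3 + a3 = (0, 0, 1) + (0, 0, 1) →
    mm ((1, 1, 0), a2, a3) ((1, 1, 0), a2, a3) = one → a2 = (0, 3, 0) ∧ a3 ∈ LA := by
  decide +kernel

theorem bf2 : ∀ b1 : V, b1 + b1 = (1, 0, 0) + (1, 0, 0) → ∀ b3 : V, b3 + b3 = (0, 0, 1) + (0, 0, 1) →
    mm (b1, (0, 1, 1), b3) (b1, (0, 1, 1), b3) = one → b3 = (0, 0, 3) ∧ b1 ∈ LB := by
  decide +kernel

theorem bf3 : ∀ c1 : V, c1 + c1 = (1, 0, 0) + (1, 0, 0) → ∀ c2 : V, c2 + c2 = (0, 1, 0) + (0, 1, 0) →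
    ∀ c3 : V, c3 + c3 = (0, 1, 1) + (0, 1, 1) → mm (c1, c2, c3) (c1, c2, c3) = one →
    ∀ a3 ∈ LA, mm (c1, c2, c3) (mA a3) = mm (mA a3) (c1, c2, c3) → ∀ b1 ∈ LB,
      cm (cm (mA a3) (mB b1)) (c1, c2, c3) = mA a3 → a3 = (0, 2, 3) := by
  decide +kernel

theorem bf4 : ∀ c1 : V, c1 + c1 = (1, 0, 0) + (1, 0, 0) → ∀ c2 : V, c2 + c2 = (1, 1, 0) + (1, 1, 0) →
    ∀ c3 : V, c3 + c3 = (0, 0, 1) + (0, 0, 1) → mm (c1, c2, c3) (c1, c2, c3) = one →
    ∀ b1 ∈ LB, mm (c1, c2, c3) (mB b1) = mm (mB b1) (c1, c2, c3) →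
      cm (c1, c2, c3) (cm (mA (0, 2, 3)) (mB b1)) = mB b1 → b1 = (3, 0, 0) ∨ b1 = (3, 0, 2) := by
  decide +kernel

/-- the coordinates of `b, a, c, w, v, z` -/
def vv (β : ZMod 4) (j : ℕ) : V :=
  [0, 0, 0, 0, (1, β, 0), (2, 3, 2), (2, 2, 1), (2, 0, 0), (0, 2, 0), (0, 0, 2)].getD j 0

/-- the matrices of `t, s, q, p` -/
def ms (β : ZMod 4) (i : ℕ) : M :=
  [((3, 0, 0), (0, 3, 0), (0, 0, 3)), mA (0, 2, 3), mB (3, 0, β),
    cm (mA (0, 2, 3)) (mB (3, 0, β))].getD i one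

theorem tab1 : ∀ β ∈ [(0 : ZMod 4), 2], ∀ i < 4, ∀ j < 10, 4 ≤ j → (∀ k ∈ TS.pcj i j, 4 ≤ k) ∧
    app (ms β i) (vv β j) = ((TS.pcj i j).map (vv β)).sum := by decide +kernel

theorem tab2 : ∀ β ∈ [(0 : ZMod 4), 2], ∀ i < 10, 4 ≤ i → (∀ k ∈ TS.psq i, 4 ≤ k) ∧
    vv β i + vv β i = ((TS.psq i).map (vv β)).sum ∧ ∀ j < 10, TS.pcj i j = [j] := by
  decide +kernel

theorem neg_app : ∀ v : V, app ((3, 0, 0), (0, 3, 0), (0, 0, 3)) v + v = 0 := by decide +kernel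

theorem half : ∀ v : V, v + v = 0 → ∃ u, v = u + u := by decide +kernel

/-- the square of the element with coordinates `v` -/
noncomputable def ε (v : V) : A8 := x 0 1 ^ v.1.val * x 0 2 ^ v.2.1.val * x 0 3 ^ v.2.2.val

theorem ε_eq_one : ∀ v : V, ε v = 1 → v + v = 0 := by decide +kernel

theorem x_E : (x 0 1 : S8) ∈ E1 ∧ (x 0 2 : S8) ∈ E1 ∧ (x 0 3 : S8) ∈ E1 := by decide +kernel

/-! ### the homocyclic group -/

/-- the square roots of `a` in the homocyclic group -/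
def Wx (ι : A8 →* G) (t : G) (a : A8) (w : G) : Prop :=
  (a : S8) ∈ E1 ∧ ((a = 1 ∧ ∃ e : A8, (e : S8) ∈ E1 ∧ w = ι e) ∨ (a ≠ 1 ∧ Vx ι t a (w * t)))

theorem sqE {e : A8} (he : (e : S8) ∈ E1) : e * e = 1 := Subtype.ext (el_E1.1 _ he)

theorem comE {e f : A8} (he : (e : S8) ∈ E1) (hf : (f : S8) ∈ E1) : e * f = f * e :=
  Subtype.ext (el_E1.1.comm he hf)

theorem wx_i {e : A8} (he : (e : S8) ∈ E1) : Wx ι t 1 (ι e) := ⟨one_mem _, .inl ⟨rfl, e, he, rfl⟩⟩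

section
variable (F : Fr ι t) {a b : A8} {w w' : G}
include F

theorem Wx.ce (h : Wx ι t a w) {e : A8} (he : (e : S8) ∈ E1) : w * ι e = ι e * w := by
  rcases h.2 with ⟨-, f, hf, rfl⟩ | ⟨-, h⟩
  · rw [← map_mul, ← map_mul, comE hf he]
  · have := h.ce e he
    rw [mul_assoc, F.tC, ← mul_assoc, ← mul_assoc] at this
    exact mul_right_cancel this

theorem Wx.inv (h : Wx ι t a w) : t * w * t⁻¹ = w⁻¹ := by
  have h1 : w * t * (w * t) = 1 := by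
    rcases h.2 with ⟨-, f, hf, rfl⟩ | ⟨-, h⟩
    · rw [mul_assoc, ← mul_assoc t, F.tC, mul_assoc, F.t2, mul_one, ← map_mul, sqE hf, map_one]
    · exact h.sq
  rw [eq_inv_iff_mul_eq_one, inv_eq_of_mul_eq_one_right F.t2]
  calc t * w * t * w = t * (w * t * (w * t)) * t⁻¹ := by group
    _ = 1 := by rw [h1]; group

theorem Wx.sq (h : Wx ι t a w) : w * w = ι a := by
  have h1 := h.inv F
  rcases h.2 with ⟨rfl, f, hf, rfl⟩ | ⟨-, h⟩
  · rw [← map_mul, sqE hf]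
  · have h2 := h.mv
    have h3 : t * w⁻¹ * t⁻¹ = w := by rw [← conj_inv, h1, inv_inv]
    calc w * w = w * (t * w⁻¹ * t⁻¹) := by rw [h3]
      _ = w * t * t * (w * t)⁻¹ * t⁻¹ := by group
      _ = ι a := by rw [h2, F.tC]; group

theorem Wx.mul_i (h : Wx ι t a w) {e : A8} (he : (e : S8) ∈ E1) : Wx ι t a (w * ι e) := by
  refine ⟨h.1, h.2.imp ?_ fun k => ⟨k.1, ?_⟩⟩
  · rintro ⟨rfl, f, hf, rfl⟩
    exact ⟨rfl, f * e, mul_mem hf he, (map_mul _ _ _).symm⟩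
  · rw [mul_assoc, ← F.tC, ← mul_assoc]
    exact k.2.mul_i F.toFr0 he

theorem Wx.uniq (h : Wx ι t a w) (h' : Wx ι t a w') : ∃ e : A8, (e : S8) ∈ E1 ∧ w' = w * ι e := by
  rcases h.2 with ⟨rfl, f, hf, rfl⟩ | ⟨h1, h2⟩
  · rcases h'.2 with ⟨-, f', hf', rfl⟩ | ⟨h3, -⟩
    · exact ⟨f⁻¹ * f', mul_mem (inv_mem hf) hf', by rw [← map_mul, mul_inv_cancel_left]⟩
    · exact absurd rfl h3
  · rcases h'.2 with ⟨h3, -⟩ | ⟨-, h4⟩
    · exact absurd h3 h1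
    · obtain ⟨e, he, h5⟩ := F.vx_uniq h.1 h1 h2 h4
      rw [mul_assoc, F.tC, ← mul_assoc] at h5
      exact ⟨e, he, mul_right_cancel h5⟩

theorem Wx.conj (h : Wx ι t a w) {m : A8} (hm : NE m) :
    Wx ι t (m * a * m⁻¹) (ι m * w * (ι m)⁻¹) := by
  refine ⟨hm a h.1, h.2.imp ?_ fun k => ⟨fun e => k.1 (by simpa using e), ?_⟩⟩
  · rintro ⟨rfl, f, hf, rfl⟩
    exact ⟨by simp, m * f * m⁻¹, hm f hf, by simp⟩
  · have := k.2.conj F.toFr0 hm
    rwa [← mul_assoc, mul_assoc _ t, ← map_inv, F.tC, ← mul_assoc, map_inv] at this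

theorem Wx.mul (hC : TyC ι t) (h : Wx ι t a w) (h' : Wx ι t b w') : Wx ι t (a * b) (w * w') := by
  rcases h.2 with ⟨rfl, f, hf, rfl⟩ | ⟨h1, h2⟩
  · rw [one_mul, ← h'.ce F hf]
    exact h'.mul_i F hf
  rcases h'.2 with ⟨rfl, f, hf, rfl⟩ | ⟨h3, h4⟩
  · rw [mul_one]
    exact h.mul_i F hf
  by_cases hab : a = b
  · subst hab
    obtain ⟨e, he, rfl⟩ := h.uniq F h'
    rw [sqE h.1, ← mul_assoc, h.sq F, ← map_mul]
    exact wx_i (mul_mem h.1 he)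
  refine ⟨mul_mem h.1 h'.1, .inr ⟨fun e => hab ?_, ?_⟩⟩
  · rw [← mul_one a, ← sqE h'.1, ← mul_assoc, e, one_mul]
  · have h5 := (hC a b _ _ h.1 h'.1 h1 h3 hab h2 h4).mul_i F.toFr0 h'.1
    have h6 := h'.inv F
    have h7 : w * t * (w' * t) * t * ι b = w * w' * t := by
      calc w * t * (w' * t) * t * ι b = w * (t * w' * t⁻¹) * t * (t * t) * ι b := by group
        _ = w * w'⁻¹ * (t * ι b) := by rw [h6, F.t2]; group
        _ = w * w' * t := by rw [F.tC, ← h'.sq F]; group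
    rwa [h7] at h5

theorem Wx.pow (hC : TyC ι t) (h : Wx ι t a w) (n : ℕ) : Wx ι t (a ^ n) (w ^ n) := by
  induction n with
  | zero => simpa using wx_i (ι := ι) (t := t) (e := 1) (one_mem _)
  | succ n ih => rw [pow_succ, pow_succ]; exact ih.mul F hC h

theorem Wx.comm (hC : TyC ι t) (h : Wx ι t a w) (h' : Wx ι t b w') : Commute w w' := by
  have h1 := (h.mul F hC h').inv F
  rw [show t * (w * w') * t⁻¹ = t * w * t⁻¹ * (t * w' * t⁻¹) by group, h.inv F, h'.inv F,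
    ← mul_inv_rev, inv_inj] at h1
  exact h1.symm

theorem Wx.four (h : Wx ι t a w) : w ^ 4 = 1 := by
  rw [show w ^ 4 = w * w * (w * w) by simp only [pow_succ, pow_zero, one_mul, mul_assoc], h.sq F,
    ← map_mul, sqE h.1, map_one]

end

/-- a basis -/
structure Bs (ι : A8 →* G) (t w1 w2 w3 : G) : Prop where
  F : Fr ι t
  hC : TyC ι t
  h1 : Wx ι t (x 0 1) w1
  h2 : Wx ι t (x 0 2) w2
  h3 : Wx ι t (x 0 3) w3

/-- coordinates -/
def ψ (w1 w2 w3 : G) (v : V) : G := w1 ^ v.1.val * w2 ^ v.2.1.val * w3 ^ v.2.2.val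

/-- `g` acts as the matrix `m` -/
def Rp (w1 w2 w3 g : G) (m : M) : Prop := ∀ v, g * ψ w1 w2 w3 v * g⁻¹ = ψ w1 w2 w3 (app m v)

section
variable {w1 w2 w3 g g' : G} {m m' : M}

theorem val1 : (1 : ZMod 4).val = 1 := rfl

theorem ψ0 : ψ w1 w2 w3 0 = 1 := by simp [ψ]
theorem ψ1 : ψ w1 w2 w3 (1, 0, 0) = w1 := by simp [ψ, val1]
theorem ψ2 : ψ w1 w2 w3 (0, 1, 0) = w2 := by simp [ψ, val1]
theorem ψ3 : ψ w1 w2 w3 (0, 0, 1) = w3 := by simp [ψ, val1]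

theorem Rp.mul (h : Rp w1 w2 w3 g m) (h' : Rp w1 w2 w3 g' m') : Rp w1 w2 w3 (g * g') (mm m m') :=
  fun v => by rw [app_mm, ← h, ← h']; group

theorem rp_one : Rp w1 w2 w3 1 one := fun v => by rw [app_one]; group

namespace Bs

variable (B : Bs ι t w1 w2 w3)
include B

theorem wx (v : V) : Wx ι t (ε v) (ψ w1 w2 w3 v) :=
  ((B.h1.pow B.F B.hC _).mul B.F B.hC (B.h2.pow B.F B.hC _)).mul B.F B.hC (B.h3.pow B.F B.hC _)

theorem add (u v : V) : ψ w1 w2 w3 (u + v) = ψ w1 w2 w3 u * ψ w1 w2 w3 v := by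
  have c12 := B.h1.comm B.F B.hC B.h2
  have c13 := B.h1.comm B.F B.hC B.h3
  have c23 := B.h2.comm B.F B.hC B.h3
  simp only [ψ, Prod.fst_add, Prod.snd_add, ZMod.val_add]
  rw [← pow_eq_pow_mod _ (B.h1.four B.F), ← pow_eq_pow_mod _ (B.h2.four B.F),
    ← pow_eq_pow_mod _ (B.h3.four B.F), pow_add, pow_add, pow_add,
    (c12.pow_pow _ _).mul_mul_mul_comm,
    ((c13.pow_pow _ _).mul_left (c23.pow_pow _ _)).mul_mul_mul_comm]

theorem dbl (v : V) : ψ w1 w2 w3 (v + v) = ι (ε v) := by rw [B.add, (B.wx v).sq B.F]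

theorem inj0 {v : V} (h : ψ w1 w2 w3 v = 1) : v = 0 := by
  have a : ∀ u : V, ψ w1 w2 w3 (u + u) = 1 → u + u = 0 := fun u hu =>
    ε_eq_one u (B.F.inj (by rw [← B.dbl, hu, map_one]))
  obtain ⟨u, rfl⟩ := half v (a v (by rw [B.add, h, one_mul]))
  exact a u h

theorem inj {u v : V} (h : ψ w1 w2 w3 u = ψ w1 w2 w3 v) : u = v :=
  sub_eq_zero.1 (B.inj0 (mul_right_cancel (b := ψ w1 w2 w3 v) (by
    rw [← B.add, sub_add_cancel, h, one_mul])))

theorem smul (c : ZMod 4) (v : V) : ψ w1 w2 w3 (c • v) = ψ w1 w2 w3 v ^ c.val := by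
  have a : ∀ n : ℕ, ψ w1 w2 w3 (n • v) = ψ w1 w2 w3 v ^ n := fun n => by
    induction n with
    | zero => rw [zero_smul, ψ0, pow_zero]
    | succ n ih => rw [succ_nsmul, B.add, ih, pow_succ]
  rw [← a, ← Nat.cast_smul_eq_nsmul (ZMod 4), ZMod.natCast_zmod_val]

theorem sum (l : List V) : ψ w1 w2 w3 l.sum = (l.map (ψ w1 w2 w3)).prod := by
  induction l with
  | nil => exact ψ0
  | cons v l ih => rw [List.sum_cons, B.add, ih, List.map_cons, List.prod_cons]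

theorem surjE {a : A8} (ha : (a : S8) ∈ E1) : ∃ v, a = ε v := by
  obtain ⟨i, hi, j, hj, k, hk, e⟩ := E1_cases ha
  refine ⟨(i, j, k), Subtype.ext ?_⟩
  rw [e, ε, ZMod.val_cast_of_lt (by omega), ZMod.val_cast_of_lt (by omega),
    ZMod.val_cast_of_lt (by omega)]

theorem surj {a : A8} {w : G} (h : Wx ι t a w) : ∃ v, w = ψ w1 w2 w3 v := by
  obtain ⟨v, rfl⟩ := B.surjE h.1
  obtain ⟨e, he, rfl⟩ := (B.wx v).uniq B.F h
  obtain ⟨u, rfl⟩ := B.surjE he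
  exact ⟨v + (u + u), by rw [B.add, B.dbl]⟩

theorem exists_rp {n : A8} (hn : NE n) : ∃ m, Rp w1 w2 w3 (ι n) m := by
  obtain ⟨c1, e1⟩ := B.surj (B.h1.conj B.F hn)
  obtain ⟨c2, e2⟩ := B.surj (B.h2.conj B.F hn)
  obtain ⟨c3, e3⟩ := B.surj (B.h3.conj B.F hn)
  refine ⟨(c1, c2, c3), fun v => ?_⟩
  rw [app, B.add, B.add, B.smul, B.smul, B.smul, ← e1, ← e2, ← e3, conj_pow, conj_pow, conj_pow, ψ]
  group

theorem par {n : A8} (h : Rp w1 w2 w3 (ι n) m) (v u : V) (e : n * ε v * n⁻¹ = ε u) :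
    app m v + app m v = u + u := by
  refine B.inj ?_
  rw [B.add, ← h, B.dbl, ← e, map_mul, map_mul, map_inv, ← B.dbl, B.add]
  group

theorem uniq (h : Rp w1 w2 w3 g m) (h' : Rp w1 w2 w3 g m') : m = m' := by
  have a : ∀ v, app m v = app m' v := fun v => B.inj (by rw [← h, ← h'])
  exact Prod.ext (by rw [← app1, a, app1]) (Prod.ext (by rw [← app2, a, app2]) (by
    rw [← app3, a, app3]))

theorem rp_t : Rp w1 w2 w3 t ((3, 0, 0), (0, 3, 0), (0, 0, 3)) := fun v => by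
  rw [(B.wx v).inv B.F, inv_eq_iff_mul_eq_one, ← B.add, add_comm, neg_app, ψ0]

theorem sq1 {i j : Fin 4} (h : Rp w1 w2 w3 (ι (x i j)) m) : mm m m = one :=
  B.uniq (h.mul h) (by rw [← map_mul, x_sq, map_one]; exact rp_one)

theorem com {a b : A8} (h : Rp w1 w2 w3 (ι a) m) (h' : Rp w1 w2 w3 (ι b) m') (e : a * b = b * a) :
    mm m m' = mm m' m :=
  B.uniq (h.mul h') (by rw [← map_mul, e, map_mul]; exact h'.mul h)

omit B in
theorem rp_cm {i j l : Fin 4} (h : Rp w1 w2 w3 (ι (x i j)) m) (h' : Rp w1 w2 w3 (ι (x j l)) m')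
    (h1 : i ≠ j) (h2 : j ≠ l) (h3 : i ≠ l) : Rp w1 w2 w3 (ι (x i l)) (cm m m') := by
  rw [← x_cm i j l h1 h2 h3, map_mul, map_mul, map_mul]
  exact ((h.mul h').mul h).mul h'

/-- the matrices of `x12` and `x23` -/
theorem mats (e2 : ι (x 1 2) * w1 * (ι (x 1 2))⁻¹ = w1 * w2)
    (e3 : ι (x 2 3) * w2 * (ι (x 2 3))⁻¹ = w2 * w3) : ∃ β ∈ [(0 : ZMod 4), 2],
      Rp w1 w2 w3 (ι (x 1 2)) (mA (0, 2, 3)) ∧ Rp w1 w2 w3 (ι (x 2 3)) (mB (3, 0, β)) := by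
  obtain ⟨⟨a1, a2, a3⟩, hA⟩ := B.exists_rp (NE_x 1 2 (by decide) (by decide))
  obtain ⟨⟨b1, b2, b3⟩, hB⟩ := B.exists_rp (NE_x 2 3 (by decide) (by decide))
  obtain ⟨⟨c1, c2, c3⟩, hX⟩ := B.exists_rp (NE_x 3 2 (by decide) (by decide))
  obtain ⟨⟨d1, d2, d3⟩, hD⟩ := B.exists_rp (NE_x 2 1 (by decide) (by decide))
  obtain rfl : a1 = (1, 1, 0) := B.inj (by
    have := hA (1, 0, 0)
    rw [app1, ψ1, e2] at this
    rw [← this, show ((1, 1, 0) : V) = (1, 0, 0) + (0, 1, 0) from rfl, B.add, ψ1, ψ2])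
  obtain rfl : b2 = (0, 1, 1) := B.inj (by
    have := hB (0, 1, 0)
    rw [app2, ψ2, e3] at this
    rw [← this, show ((0, 1, 1) : V) = (0, 1, 0) + (0, 0, 1) from rfl, B.add, ψ2, ψ3])
  obtain ⟨rfl, k1⟩ := bf1 a2 (by simpa only [app2] using B.par hA (0, 1, 0) _ (by decide +kernel)) a3
    (by simpa only [app3] using B.par hA (0, 0, 1) _ (by decide +kernel)) (B.sq1 hA)
  obtain ⟨rfl, k2⟩ := bf2 b1 (by simpa only [app1] using B.par hB (1, 0, 0) _ (by decide +kernel)) b3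
    (by simpa only [app3] using B.par hB (0, 0, 1) _ (by decide +kernel)) (B.sq1 hB)
  have hC := rp_cm hA hB (by decide) (by decide) (by decide)
  obtain rfl := bf3 c1 (by simpa only [app1] using B.par hX (1, 0, 0) _ (by decide +kernel)) c2
    (by simpa only [app2] using B.par hX (0, 1, 0) _ (by decide +kernel)) c3
    (by simpa only [app3] using B.par hX (0, 0, 1) _ (by decide +kernel)) (B.sq1 hX) a3 k1
    (B.com hX hA (by decide +kernel)) b1 k2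
    (B.uniq (rp_cm hC hX (by decide) (by decide) (by decide)) hA)
  rcases bf4 d1 (by simpa only [app1] using B.par hD (1, 0, 0) _ (by decide +kernel)) d2
    (by simpa only [app2] using B.par hD (0, 1, 0) _ (by decide +kernel)) d3
    (by simpa only [app3] using B.par hD (0, 0, 1) _ (by decide +kernel)) (B.sq1 hD) b1 k2
    (B.com hD hB (by decide +kernel))
    (B.uniq (rp_cm hD hC (by decide) (by decide) (by decide)) hB) with rfl | rfl
  · exact ⟨0, by simp, hA, hB⟩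
  · exact ⟨2, by simp, hA, hB⟩

end Bs

/-- the images of the polycyclic generators -/
noncomputable def xx (ι : A8 →* G) (t w1 w2 w3 : G) (β : ZMod 4) (i : ℕ) : G :=
  if i < 4 then [t, ι (x 1 2), ι (x 2 3), ι (x 1 3)].getD i 1 else ψ w1 w2 w3 (vv β i)

theorem xx_ge {β : ZMod 4} {i : ℕ} (h : 4 ≤ i) : xx ι t w1 w2 w3 β i = ψ w1 w2 w3 (vv β i) :=
  if_neg (by omega)

theorem Bs.ew_ge (B : Bs ι t w1 w2 w3) {β : ZMod 4} {l : List ℕ} (h : ∀ k ∈ l, 4 ≤ k) :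
    ew (xx ι t w1 w2 w3 β) l = ψ w1 w2 w3 (l.map (vv β)).sum := by
  rw [B.sum, ew, List.map_map]
  exact congrArg List.prod (List.map_congr_left fun k hk => xx_ge (h k hk))

theorem Bs.rel (B : Bs ι t w1 w2 w3) {β : ZMod 4} (hβ : β ∈ [(0 : ZMod 4), 2])
    (hA : Rp w1 w2 w3 (ι (x 1 2)) (mA (0, 2, 3))) (hB : Rp w1 w2 w3 (ι (x 2 3)) (mB (3, 0, β))) :
    PcRel (xx ι t w1 w2 w3 β) 10 TS.psq TS.pcj := by
  have hC := Bs.rp_cm hA hB (by decide) (by decide) (by decide)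
  have hR : ∀ i < 4, Rp w1 w2 w3 (xx ι t w1 w2 w3 β i) (ms β i) := fun i hi => by
    interval_cases i
    exacts [B.rp_t, hA, hB, hC]
  intro i hi
  rcases lt_or_ge i 4 with h4 | h4
  · refine ⟨?_, fun j hj hij => ?_⟩
    · interval_cases i
      · exact B.F.t2
      all_goals exact (map_mul ι _ _).symm.trans (by rw [x_sq, map_one]; rfl)
    rcases lt_or_ge j 4 with k4 | k4
    · have a : ∀ a, t * ι a = ι a * 1 * t := fun a => by rw [mul_one, B.F.tC]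
      interval_cases j <;> interval_cases i
      · exact a _
      · exact a _
      · change ι (x 1 2) * ι (x 2 3) = ι (x 2 3) * (ι (x 1 3) * 1) * ι (x 1 2)
        rw [mul_one, ← map_mul, ← map_mul, ← map_mul]
        exact congrArg ι (by decide +kernel)
      · exact a _
      · change ι (x 1 2) * ι (x 1 3) = ι (x 1 3) * 1 * ι (x 1 2)
        rw [mul_one, ← map_mul, ← map_mul]
        exact congrArg ι (by decide +kernel)
      · change ι (x 2 3) * ι (x 1 3) = ι (x 1 3) * 1 * ι (x 2 3)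
        rw [mul_one, ← map_mul, ← map_mul]
        exact congrArg ι (by decide +kernel)
    · obtain ⟨t1, t2⟩ := tab1 β hβ i h4 j hj k4
      rw [B.ew_ge t1, ← t2, ← hR i h4, xx_ge k4, inv_mul_cancel_right]
  · obtain ⟨t1, t2, t3⟩ := tab2 β hβ i hi h4
    refine ⟨by rw [B.ew_ge t1, ← t2, B.add, xx_ge h4], fun j hj hij => ?_⟩
    rw [t3 j hj, B.ew_ge (by simp; omega), xx_ge h4, xx_ge (by omega : 4 ≤ j), ← B.add, ← B.add,
      add_comm]
    simp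

end

end HS1

open HS1 TG SylT in
theorem Fr.exists_hs (F : Fr ι t) (h : Ex ι t) (hC : TyC ι t) : ∃ φ, Hs ι t φ := by
  obtain ⟨v, hv⟩ := h (x 0 1) x_E.1 (x_ne 0 1 (by decide))
  have h1 : Wx ι t (x 0 1) (v * t) :=
    ⟨x_E.1, .inr ⟨x_ne 0 1 (by decide), by rwa [mul_assoc, F.t2, mul_one]⟩⟩
  generalize v * t = w1 at h1
  have a : ∀ {a w}, Wx ι t a w → Wx ι t a w⁻¹ := fun {a w} k => by
    have := k.mul_i F k.1
    rwa [← k.sq F, show w * (w * w) = w⁻¹ * w ^ 4 by simp [pow_succ, mul_assoc], k.four F,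
      mul_one] at this
  have h2 : Wx ι t (x 0 2) (w1⁻¹ * (ι (x 1 2) * w1 * (ι (x 1 2))⁻¹)) := by
    have := (a h1).mul F hC (h1.conj F (NE_x 1 2 (by decide) (by decide)))
    rwa [show x 0 1 * (x 1 2 * x 0 1 * (x 1 2)⁻¹) = x 0 2 by decide +kernel] at this
  obtain ⟨w2, e2⟩ : ∃ w2, w2 = w1⁻¹ * (ι (x 1 2) * w1 * (ι (x 1 2))⁻¹) := ⟨_, rfl⟩
  rw [← e2] at h2
  have h3 : Wx ι t (x 0 3) (w2⁻¹ * (ι (x 2 3) * w2 * (ι (x 2 3))⁻¹)) := by
    have := (a h2).mul F hC (h2.conj F (NE_x 2 3 (by decide) (by decide)))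
    rwa [show x 0 2 * (x 2 3 * x 0 2 * (x 2 3)⁻¹) = x 0 3 by decide +kernel] at this
  have B : Bs ι t w1 w2 _ := ⟨F, hC, h1, h2, h3⟩
  obtain ⟨β, hβ, hA, hB⟩ := B.mats (by rw [e2, mul_inv_cancel_left]) (by rw [mul_inv_cancel_left])
  obtain ⟨φ, hφ⟩ := exists_hom_pc TS.pc_ok (B.rel hβ hA hB) TS.pc_rel TS.card_T.ge fun S hS =>
    eq_top_of_genB TS.gen4 (by
      simp only [List.mem_cons, List.not_mem_nil, or_false]
      rintro _ (rfl | rfl | rfl | rfl)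
      exacts [hS 4 (by decide), hS 2 (by decide), hS 1 (by decide), hS 0 (by decide)])
  refine ⟨φ, hφ 0 (by decide), hφ 1 (by decide), hφ 2 (by decide), hφ 3 (by decide),
    (hφ 7 (by decide)).trans ((B.dbl (1, 0, 0)).trans (congrArg ι (by decide +kernel))),
    (hφ 8 (by decide)).trans ((B.dbl (0, 1, 0)).trans (congrArg ι (by decide +kernel))),
    (hφ 9 (by decide)).trans ((B.dbl (0, 0, 1)).trans (congrArg ι (by decide +kernel))),
    fun N hN hL => ?_⟩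
  have m : ∀ a, ι a ∈ N := fun a => hL ⟨a, rfl⟩
  have m2 : w2 ∈ N := by
    rw [e2, show w1⁻¹ * (ι (x 1 2) * w1 * (ι (x 1 2))⁻¹) =
      w1⁻¹ * ι (x 1 2) * w1⁻¹⁻¹ * (ι (x 1 2))⁻¹ by group]
    exact mul_mem (hN.conj_mem _ (m _) _) (inv_mem (m _))
  have m1 : w1 ∈ N := by
    have k := h2.conj F (NE_x 2 1 (by decide) (by decide))
    rw [show x 2 1 * x 0 2 * (x 2 1)⁻¹ = x 0 2 * x 0 1 by decide +kernel] at k
    obtain ⟨e, -, k2⟩ := (h2.mul F hC h1).uniq F k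
    have k3 := hN.conj_mem _ m2 (ι (x 2 1))
    rw [k2] at k3
    exact (mul_mem_cancel_left m2).1 ((mul_mem_cancel_right (m e)).1 k3)
  rw [show (o 16 : TS) = TS.pg 4 from rfl, hφ 4 (by decide), xx_ge le_rfl]
  exact mul_mem (mul_mem (pow_mem m1 _) (pow_mem m2 _)) (by
    rw [show (vv β 4).2.2.val = 0 from rfl, pow_zero]; exact one_mem N)

end CfsgLib.A8S
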