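import Cfsg.Agent.Lib.A8S.HS2A
import Cfsg.Agent.Lib.Dih8.Trf

/-!
# HS2: the case `HS` (plans/A8S.md)
-/

set_option autoImplicit false
set_option linter.unusedSectionVars false
set_option Elab.async false

namespace CfsgLib.A8S

open Subgroup Cfsg CfsgLib.Tech CfsgLib.W2 CfsgLib.Classical

universe u

variable {G : Type u} [Group G] [Finite G] {ι : A8 →* G} {t : G} {K : Subgroup G}

open TG SylT

theorem hs2_hi : ∀ m : TS, m.v < 512 ∨ (m * o 512).v < 512 := by decide +kernel

theorem hs2_inj {j : TH →* TS} (hj : ∀ m, (j m).v = m.v) : Function.Injective j :=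
  fun a b e => TG.ext' (by rw [← hj, ← hj, e])

theorem hs2_jo {j : TH →* TS} (hj : ∀ m, (j m).v = m.v) {k : ℕ} (hk : k < 512) : j (o k) = o k :=
  TG.ext' (by rw [hj, v_o hk, v_o (by omega)])

namespace Hs

variable {φ : TS →* G} (d : Hs ι t φ) (F : Fr ι t)
include d F

theorem not_mem (g : SLE.Glob K t) : t ∉ K := by
  intro ht
  obtain ⟨j, hj, -⟩ := TS.exists_emb
  have hK : K = ⊤ := eq_top_iff.2 fun a _ => (g.gen a).elim id fun h => (mul_mem_cancel_right ht).1 h
  have hM : (φ.comp j).range ≤ φ.range := by rintro _ ⟨a, rfl⟩; exact ⟨j a, rfl⟩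
  have c1 : Nat.card (φ.comp j).range = 512 := by
    rw [← Nat.card_congr (MonoidHom.ofInjective ((d.inj F).comp (hs2_inj hj) :
      Function.Injective (φ.comp j))).toEquiv, TH.card_T]
  have c2 : Nat.card φ.range = 1024 := by
    rw [← Nat.card_congr (MonoidHom.ofInjective (d.inj F)).toEquiv, TS.card_T]
  have hi : (φ.comp j).range.relIndex φ.range = 2 := by
    have := card_mul_relIndex' hM
    rw [c1, c2] at this
    omega
  have s2 : φ (o 576) ^ 2 = 1 := by rw [pow_two, ← map_mul, hs2_o.2.2.2, map_one]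
  obtain ⟨c, -, ⟨n, hn⟩, hc⟩ := Dih8.tp (d.syl F) hM hi (⟨o 576, rfl⟩ : φ (o 576) ∈ φ.range)
    (fun f => by
      have h1 : φ (o 576) ∈ commutator G := by
        have := g.perf
        rw [hK] at this
        exact this (mem_top _)
      exact Abelianization.commutator_subset_ker (f.comp (topEquiv (G := G)).symm.toMonoidHom) h1)
    (fun i hi c _ _ => by
      obtain ⟨i, rfl⟩ := Nat.exists_eq_add_of_le hi
      rw [pow_add, pow_one, pow_mul, s2, one_pow, mul_one, mul_inv_cancel]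
      exact one_mem _)
  have hn' : φ (j n) = c * φ (o 576) * c⁻¹ := hn
  have h1 : 256 ≤ Nat.card (Cx (j n)) := by
    rw [← d.card_cen F, hn', ← TS.card_cen, ← d.card_cen F, ← card_cj c]
    refine card_le_of_le (cj_le_iff.2 fun r hr => mem_inf.2 ⟨hc r hr.1 (mem_Cx.1 hr.2), ?_⟩)
    exact conj_mem_Cx.2 hr.2
  obtain ⟨a, ha⟩ := d.hs2_big F ((d.conj_s F).trans (isConj_iff.2 ⟨c, hn'.symm⟩)) h1
  have h2 := (TS.conj_ge a).1
  rw [ha, hj] at h2
  exact absurd n.v_lt (by omega)

theorem main (g : SLE.Glob K t) : t ∉ K ∧ Spor.IsoHS K := by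
  have ht := d.not_mem F g
  refine ⟨ht, ?_⟩
  obtain ⟨j, hj, hj'⟩ := TS.exists_emb
  have hL := F.toFr0.le_K g
  have hM : ∀ a, φ.comp j a ∈ K := by
    have : K.comap (φ.comp j) = ⊤ := TG.eq_top_of_genB TH.gen3 (by
      simp only [List.forall_mem_cons, mem_comap, MonoidHom.comp_apply]
      refine ⟨?_, ?_, ?_, by simp⟩
      · rw [TH.b, hs2_jo hj (by decide)]; exact d.hb K g.nrm hL
      · rw [TH.q, hs2_jo hj (by decide), d.hq]; exact hL ⟨_, rfl⟩
      · rw [TH.s, hs2_jo hj (by decide), d.hs]; exact hL ⟨_, rfl⟩)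
    exact fun a => (this ▸ mem_top a : a ∈ K.comap (φ.comp j))
  have hr : ((φ.comp j).codRestrict K hM).range = (φ.range ⊓ K).subgroupOf K := by
    ext a
    constructor
    · rintro ⟨b, rfl⟩
      exact ⟨⟨j b, rfl⟩, hM b⟩
    · rintro ⟨⟨m, hm⟩, -⟩
      rcases hs2_hi m with h | h
      · obtain ⟨n, rfl⟩ := hj' m h
        exact ⟨n, Subtype.ext hm⟩
      · obtain ⟨n, hn⟩ := hj' _ h
        have h3 := hM n
        rw [MonoidHom.comp_apply, hn, map_mul, d.ht, hm] at h3
        exact absurd ((mul_mem_cancel_left a.2).1 h3) ht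
  have := g.nrm
  have hS := (d.syl F).inf_of_le_normalizer (N := K) (normalizer_eq_top K).ge
  rw [top_inf_eq] at hS
  have := g.simple
  obtain ⟨π, h1⟩ := TH.SH.hyp (φ := (φ.comp j).codRestrict K hM)
    ⟨fun a b e => hs2_inj hj (d.inj F (congrArg Subtype.val e)), by
      rw [hr]; exact ⟨le_top, hS.pgroup.comap_subtype, by rw [relIndex_top_right]; exact hS.not_dvd⟩⟩
  exact h1.nonempty_equiv

end Hs

end CfsgLib.A8S
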