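import Cfsg.Agent.Lib.A8S.ZZA

/-!
# ZZ: fusion in `Z(T)` (plans/A8S.md)
-/

set_option autoImplicit false
set_option linter.unusedSectionVars false
set_option Elab.async false

namespace CfsgLib.A8S

open Subgroup Cfsg CfsgLib.Tech CfsgLib.W2 CfsgLib.Classical

universe u

variable {G : Type u} [Group G] [Finite G] {ι : A8 →* G} {t : G} {K : Subgroup G}

/-- an element of `L` normalising `E1` normalises `⟨t⟩ E1` -/
theorem zz2_nrm (F : Fr0 ι t) {m : A8} (hm : NE m) : ι m ∈ normalizer (sT ι t E1 : Set G) := by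
  rw [mem_normalizer_iff_cj]
  refine eq_of_le_of_card_ge (cj_le_iff.2 fun g hg => ?_) (card_cj _ _).ge
  obtain ⟨a, ha, h⟩ := F.mem_sT.1 hg
  refine F.mem_sT.2 ⟨m * a * m⁻¹, hm a ha, ?_⟩
  rcases h with rfl | rfl
  · left; simp only [map_mul, map_inv]
  · right
    simp only [map_mul, map_inv]
    rw [← mul_assoc, ← F.tC m]
    simp only [mul_assoc]

theorem zz2_mvd (F : Fr0 ι t) {u : G} (hu : u⁻¹ * t * u = t * ι z) :
    ∃ n ∈ normalizer (cj u (sT ι t E1) : Set G), n * t * n⁻¹ ≠ t := by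
  refine ⟨u * ι (x 3 1) * u⁻¹, ?_, fun h => ?_⟩
  · rw [← cj_normalizer]
    exact conj_mem_cj.2 (zz2_nrm F (NE_x 3 1 (by decide) (by decide)))
  · have h1 : ι (x 3 1) * (u⁻¹ * t * u) * (ι (x 3 1))⁻¹ = u⁻¹ * t * u := by
      conv_rhs => rw [← h]
      group
    rw [hu, ← mul_assoc, ← F.tC, mul_assoc t, mul_assoc t, mul_right_inj, ← map_inv, ← map_mul,
      ← map_mul] at h1
    exact absurd (F.inj h1) (by decide +kernel)

theorem zz2_mem (F : Fr0 ι t) {Y : Subgroup S8} {w : G} {q : S8} (h1 : w * t = t * w)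
    (h2 : w * w = 1) (h3 : Ac ι w q) (hq : q ∈ PG.alt 8) (hY : q ∈ Y) : w ∈ sT ι t Y :=
  F.mem_sT.2 ⟨⟨q, hq⟩, hY, F.inv_even h1 h2 (a := ⟨q, hq⟩) h3⟩

theorem zz2_ac1 : Ac ι 1 1 := fun a => by rw [cA_one]; simp

namespace Fr

variable (F : Fr ι t) {T : Subgroup G} (hT : IsSylowIn 2 T (Cx t)) (hU : sT ι t W8 ≤ T)
include F hT hU

theorem zz2_key {u : G} (hu : u ∈ normalizer (T : Set G)) (h : u * t * u⁻¹ = t * ι z)
    {X : Subgroup S8} (hX : Nat.card (X.subgroupOf (PG.alt 8)) = 8) {e ρ : A8}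
    (eW : (e : S8) ∈ W8) (e2 : e * e = 1) (e1 : e ≠ 1) (ez : e ≠ z) (ρz : ρ * z = z * ρ)
    (ρ3 : ρ ^ 3 = 1) (ec : e * (ρ * e * ρ⁻¹) = ρ * e * ρ⁻¹ * e)
    (ep : e * (ρ * e * ρ⁻¹) * (ρ * (ρ * e * ρ⁻¹) * ρ⁻¹) = 1)
    (gen : ∀ S : Subgroup A8, z ∈ S → e ∈ S → ρ * e * ρ⁻¹ ∈ S → ∀ a : A8, (a : S8) ∈ X → a ∈ S) :
    cj u (sT ι t X) = sT ι t E1 ∨ cj u (sT ι t X) = sT ι t E3 ∨ cj u (sT ι t X) = sT ι t F8 := by
  have hz : u * ι z * u⁻¹ = ι z := F.norm_z hT hU hu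
  have zz : ι z * ι z = 1 := by rw [← map_mul, x_sq, map_one]
  have htz : u * (t * ι z) * u⁻¹ = t := by
    rw [show u * (t * ι z) * u⁻¹ = u * t * u⁻¹ * (u * ι z * u⁻¹) by group, h, hz, mul_assoc, zz,
      mul_one]
  -- conjugation by `u` as a homomorphism on `A8`
  let κ : A8 →* G := (MulAut.conj u).toMonoidHom.comp ι
  have κa : ∀ a, κ a = u * ι a * u⁻¹ := fun a => rfl
  have κz : κ z = ι z := hz
  have κt : ∀ a, a * z = z * a → κ a * t = t * κ a := by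
    intro a ha
    have h1 : ι a * (t * ι z) = t * ι z * ι a := by
      rw [← mul_assoc, ← F.tC, mul_assoc, ← map_mul, ha, map_mul, mul_assoc]
    rw [κa]
    conv_lhs => rw [← htz]
    conv_rhs => rw [← htz]
    calc u * ι a * u⁻¹ * (u * (t * ι z) * u⁻¹) = u * (ι a * (t * ι z)) * u⁻¹ := by group
      _ = _ := by rw [h1]; group
  have eZ : e * z = z * e := Subtype.ext eW.1.symm
  obtain ⟨p, hp⟩ := F.aut _ (κt ρ ρz)
  obtain ⟨q, hq⟩ := F.aut _ (κt e eZ)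
  have wT : κ e ∈ T := conj_mem_of_mem_normalizer hu (zz_i hU eW)
  have qW : q ∈ W8 := ac_W F.inj hT.pgroup (le_trans le_sup_right hU) wT hq
  have w2 : κ e * κ e = 1 := by rw [← map_mul, e2, map_one]
  have hq1 : Ac ι (κ (ρ * e * ρ⁻¹)) (p * q * p⁻¹) := by
    rw [map_mul, map_mul, map_inv]; exact (hp.mul hq).mul hp.inv
  have hq2 : Ac ι (κ (ρ * (ρ * e * ρ⁻¹) * ρ⁻¹)) (p * (p * q * p⁻¹) * p⁻¹) := by
    rw [map_mul, map_mul κ ρ, map_inv]; exact (hp.mul hq1).mul hp.inv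
  have pz : (z : S8) * p = p * z := by
    have h1 := hp z
    rw [← κz, ← map_inv, ← map_mul, ← map_mul, ρz, mul_inv_cancel_right, κz] at h1
    have h2 := congrArg Subtype.val (F.inj h1)
    rw [cA_val] at h2
    rw [eq_mul_inv_iff_mul_eq] at h2
    exact h2
  have p3 : p ^ 3 = 1 := by
    have h1 := hp.pow 3
    rw [← map_pow, ρ3, map_one] at h1
    exact h1.unique F.inj zz2_ac1
  have q2 : q * q = 1 := by
    have h1 := hq.mul hq
    rw [w2] at h1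
    exact h1.unique F.inj zz2_ac1
  have cu : ∀ {a b : G}, u * a * u⁻¹ = u * b * u⁻¹ → a = b := fun hab => by simpa using hab
  have q1 : q ≠ 1 := by
    rintro rfl
    rcases F.inv_even (κt e eZ) w2 (a := 1) hq with h1 | h1
    · rw [map_one] at h1
      exact e1 (F.inj (cu (by rw [← κa, h1, map_one]; simp)))
    · rw [map_one, mul_one, κa] at h1
      have h2 : ι e = t * ι z := cu (h1.trans htz.symm)
      exact F.i_ne_t (e * z⁻¹) (by rw [map_mul, map_inv, h2, mul_inv_cancel_right])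
  have qz : q ≠ z := by
    rintro rfl
    rcases F.inv_even (κt e eZ) w2 hq with h1 | h1
    · exact ez (F.inj (cu (by rw [← κa, h1, hz])))
    · exact F.i_ne_t e (cu (by rw [← κa, h1, h]))
  have hc : q * (p * q * p⁻¹) = p * q * p⁻¹ * q := by
    have h1 := hq.mul hq1
    rw [← map_mul, ec, map_mul] at h1
    exact h1.unique F.inj (hq1.mul hq)
  have hpr : q * (p * q * p⁻¹) * (p * (p * q * p⁻¹) * p⁻¹) = 1 := by
    have h1 := (hq.mul hq1).mul hq2
    rw [← map_mul, ← map_mul, ep, map_one] at h1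
    exact h1.unique F.inj zz2_ac1
  have e1Z : ρ * e * ρ⁻¹ * z = z * (ρ * e * ρ⁻¹) :=
    (((Commute.mul_left ρz eZ).mul_left (Commute.inv_left ρz)) : Commute _ z)
  have w12 : κ (ρ * e * ρ⁻¹) * κ (ρ * e * ρ⁻¹) = 1 := by
    rw [← map_mul, show ρ * e * ρ⁻¹ * (ρ * e * ρ⁻¹) = ρ * (e * e) * ρ⁻¹ by group, e2]; simp
  have fin : ∀ Y : Subgroup S8, Nat.card (Y.subgroupOf (PG.alt 8)) = 8 → (z : S8) ∈ Y → q ∈ Y →
      p * q * p⁻¹ ∈ Y → q ∈ PG.alt 8 → cj u (sT ι t X) = sT ι t Y := by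
    intro Y cY zY qY q1Y qa
    refine eq_of_le_of_card_ge (cj_le_iff.2 fun g hg => ?_)
      (by rw [card_cj, F.card_sT, F.card_sT, hX, cY])
    have hS : ∀ a : A8, (a : S8) ∈ X → κ a ∈ sT ι t Y := by
      refine gen ((sT ι t Y).comap κ) ?_ ?_ ?_
      · rw [mem_comap, κz]; exact F.mem_sT.2 ⟨z, zY, .inl rfl⟩
      · exact zz2_mem F.toFr0 (κt e eZ) w2 hq qa qY
      · exact zz2_mem F.toFr0 (κt _ e1Z) w12 hq1
          ((inferInstance : (PG.alt 8).Normal).conj_mem _ qa p) q1Y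
    obtain ⟨a, ha, hg⟩ := F.mem_sT.1 hg
    rcases hg with rfl | rfl
    · exact hS a ha
    · rw [show u * (t * ι a) * u⁻¹ = u * t * u⁻¹ * (u * ι a * u⁻¹) by group, h]
      exact mul_mem (F.mem_sT.2 ⟨z, zY, .inr rfl⟩) (hS a ha)
  rcases three_inv pz p3 qW q2 q1 qz hc (.inl hpr) with ⟨a, b⟩ | ⟨a, b⟩ | ⟨a, b, c⟩
  · exact .inl (fin E1 card_even.1 (by decide +kernel) a b (el_E1.2.2.1 a))
  · exact .inr (.inl (fin E3 card_even.2.1 (by decide +kernel) a b (el_E3.2.2.1 a)))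
  · exact .inr (.inr (fin F8 card_even.2.2.2.1 (by decide +kernel) a b c))

theorem mv_of_u {u : G} (hu : u ∈ normalizer (T : Set G)) (h : u * t * u⁻¹ = t * ι z) :
    Mv ι t ∨ Mv (A8S.flip ι) t := by
  have hz : u * ι z * u⁻¹ = ι z := F.norm_z hT hU hu
  have zz : ι z * ι z = 1 := by rw [← map_mul, x_sq, map_one]
  have htz : u⁻¹ * t * u = t * ι z := by
    have h1 : u * (t * ι z) * u⁻¹ = t := by
      rw [show u * (t * ι z) * u⁻¹ = u * t * u⁻¹ * (u * ι z * u⁻¹) by group, h, hz, mul_assoc, zz,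
        mul_one]
    conv_lhs => rw [← h1]
    group
  have fl : sT (A8S.flip ι) t E1 = sT ι t E3 := by rw [sT, sT, img_flip.1]
  have fz : A8S.flip ι z = ι z := flip_x 0 3
  have m1 := zz2_mvd F.toFr0 htz
  have m3 := zz2_mvd F.flip.toFr0 (htz.trans (by rw [fz]))
  rw [fl] at m3
  have k1 := F.zz2_key hT hU hu h card_even.1 (e := x 0 1) (ρ := x 1 2 * x 2 1) (by decide +kernel)
    (by decide +kernel) (by decide +kernel) (by decide +kernel) (by decide +kernel)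
    (by decide +kernel) (by decide +kernel) (by decide +kernel) (by
      intro S h1 h2 h3 a ha
      have e : x 1 2 * x 2 1 * x 0 1 * (x 1 2 * x 2 1)⁻¹ = x 0 1 * x 0 2 := by decide +kernel
      rw [e] at h3
      have h4 : x 0 2 ∈ S := (S.mul_mem_cancel_left h2).1 h3
      obtain ⟨i, -, j, -, k, -, hk⟩ := E1_cases ha
      rw [Subtype.ext hk]
      exact mul_mem (mul_mem (pow_mem h2 i) (pow_mem h4 j)) (pow_mem h1 k))
  have k3 := F.zz2_key hT hU hu h card_even.2.1 (e := x 2 3) (ρ := x 1 2 * x 2 1) (by decide +kernel)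
    (by decide +kernel) (by decide +kernel) (by decide +kernel) (by decide +kernel)
    (by decide +kernel) (by decide +kernel) (by decide +kernel) (by
      intro S h1 h2 h3 a ha
      have e : x 1 2 * x 2 1 * x 2 3 * (x 1 2 * x 2 1)⁻¹ = x 1 3 * x 2 3 := by decide +kernel
      rw [e] at h3
      have h4 : x 1 3 ∈ S := (S.mul_mem_cancel_right h2).1 h3
      obtain ⟨i, -, j, -, k, -, hk⟩ := E3_cases ha
      rw [Subtype.ext hk]
      exact mul_mem (mul_mem (pow_mem h1 i) (pow_mem h4 j)) (pow_mem h2 k))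
  unfold Mv
  rw [fl]
  rcases k1 with k1 | k1 | k1
  · exact .inl (k1 ▸ m1)
  · exact .inr (k1 ▸ m1)
  rcases k3 with k3 | k3 | k3
  · exact .inl (k3 ▸ m3)
  · exact .inr (k3 ▸ m3)
  exfalso
  have e := cj_injective u (k1.trans k3.symm)
  have h1 : ι (x 0 1) ∈ sT ι t E3 := e ▸ F.mem_sT.2 ⟨x 0 1, by decide +kernel, .inl rfl⟩
  obtain ⟨a, ha, h2 | h2⟩ := F.mem_sT.1 h1
  · rw [← F.inj h2] at ha
    exact absurd ha (by decide +kernel)
  · exact F.i_ne_t (x 0 1 * a⁻¹) (by rw [map_mul, map_inv, h2, mul_inv_cancel_right])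

end Fr

theorem Fr.nz (F : Fr ι t) : ¬ IsConj t (ι z) := by
  obtain ⟨T, hT, hU⟩ := F.exists_T
  by_cases h : IsSylowIn 2 T ⊤
  · exact (F.nz_of_syl hT hU h).1
  · exact (F.exists_u hT hU h).choose_spec.2.2

theorem Fr.mv (F : Fr ι t) (h : IsConj t (t * ι z)) : Mv ι t ∨ Mv (A8S.flip ι) t := by
  obtain ⟨T, hT, hU⟩ := F.exists_T
  obtain ⟨u, h1, h2, -⟩ := F.exists_u hT hU fun e => (F.nz_of_syl hT hU e).2 h
  exact F.mv_of_u hT hU h1 h2

end CfsgLib.A8S
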