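import Cfsg.Agent.Lib.A8S.HS0
import Cfsg.Agent.Lib.A8S.Trn
import Cfsg.Agent.Lib.A8S.ZZ

/-!
# HS2A: the case `HS`, Sylow 2-subgroup (plans/A8S.md)
-/

set_option autoImplicit false
set_option linter.unusedSectionVars false
set_option Elab.async false

namespace CfsgLib.A8S

open Subgroup Cfsg CfsgLib.Tech CfsgLib.W2 CfsgLib.Classical

universe u

variable {G : Type u} [Group G] [Finite G] {ι : A8 →* G} {t : G} {K : Subgroup G}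

open TG SylT

/-- coordinates on `E8` -/
noncomputable def hs2e (i j k l : ℕ) : A8 := x 0 2 ^ i * x 0 3 ^ j * x 1 2 ^ k * x 1 3 ^ l

/-- coordinates on `⟨t⟩ E8` inside the model -/
noncomputable def hs2m (h i j k l : ℕ) : TS := o 512 ^ h * (o 8 ^ i * o 2 ^ j * o 256 ^ k * o 64 ^ l)

theorem hs2_u : ∀ h < 2, ∀ i < 2, ∀ j < 2, ∀ k < 2, ∀ l < 2,
    (o 5 : TS) * hs2m h i j k l * (o 5)⁻¹ = hs2m h ((i + l + h) % 2) ((j + k + h) % 2) k l := by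
  decide +kernel

theorem hs2_m : ∀ i < 2, ∀ j < 2, ∀ k < 2, ∀ l < 2,
    x 1 0 * x 3 2 * hs2e i j k l * (x 1 0 * x 3 2)⁻¹ =
      hs2e ((i + j) % 2) j ((i + j + k + l) % 2) ((j + l) % 2) := by
  decide +kernel

theorem hs2_E8 : ∀ i < 2, ∀ j < 2, ∀ k < 2, ∀ l < 2, (hs2e i j k l : S8) ∈ E8 := by
  decide +kernel

theorem hs2_E1 : ∀ i < 2, ∀ j < 2, ∀ k < 2, ((x 0 1 ^ i * x 0 2 ^ j * x 0 3 ^ k : A8) : S8) ∈ E1 := by
  decide +kernel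

theorem hs2_y : AG.al [4, 7, 5, 6, 0, 1, 2, 3] * y * (AG.al [4, 7, 5, 6, 0, 1, 2, 3])⁻¹ = hs2e 1 0 1 1 ∧
    x 0 2 * x 1 3 = y ∧ hs2e 0 0 0 0 = 1 ∧ hs2e 1 1 0 0 ≠ 1 := by
  decide +kernel

theorem hs2_o : (o 576 : TS) = o 512 * o 64 ∧ (o 584 : TS) = o 512 * (o 8 * o 64) ∧
    (o 1 : TS) * o 512 * (o 1)⁻¹ = o 512 * o 2 ∧ (o 576 : TS) * o 576 = 1 := by
  decide +kernel

omit [Finite G] in
theorem hs2_conj (hC : CL ι t) (n a : A8) : ι n * (t * ι a) * (ι n)⁻¹ = t * ι (n * a * n⁻¹) := by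
  rw [← mul_assoc, ← hC n, map_mul, map_mul, map_inv]
  simp only [mul_assoc]

omit [Finite G] in
theorem hs2_pow {f a : G} {k : ℕ} (h : f ^ k * a * (f ^ k)⁻¹ = a) (n : ℕ) :
    f ^ (k * n) * a * (f ^ (k * n))⁻¹ = a := by
  rw [mul_inv_eq_iff_eq_mul] at h ⊢
  rw [pow_mul]
  exact (Commute.pow_left h n).eq

namespace Hs

variable {φ : TS →* G} (d : Hs ι t φ) (F : Fr ι t)
include d F

theorem inj : Function.Injective φ := by
  refine TS.inj_of ?_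
  rw [d.hz]
  exact fun e => x_ne 0 3 (by decide) (F.inj (e.trans (map_one ι).symm))

theorem hs2_tz : IsConj t (t * ι z) := by
  refine isConj_iff.2 ⟨φ (o 1), ?_⟩
  have := congrArg φ hs2_o.2.2.1
  simpa only [map_mul, map_inv, d.ht, d.hz] using this

theorem conj_s : IsConj t (φ (o 576)) := by
  refine (d.hs2_tz F).trans (isConj_iff.2 ⟨ι (nn 1 3), ?_⟩)
  rw [hs2_conj F.tC, nn_z 1 3 (by decide), hs2_o.1, map_mul, d.ht, d.hp]

omit F in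
theorem hs2_φ (h i j k l : ℕ) : φ (hs2m h i j k l) = t ^ h * ι (hs2e i j k l) := by
  simp only [hs2m, hs2e, map_mul, map_pow, d.ht, d.hv, d.hz, d.hs, d.hp]

/-- the action of the element of order 5 -/
theorem hs2_f {h i j k l : ℕ} (hh : h < 2) (hi : i < 2) (hj : j < 2) (hk : k < 2) (hl : l < 2) :
    φ (o 5) * ι (x 1 0 * x 3 2) * (t ^ h * ι (hs2e i j k l)) * (φ (o 5) * ι (x 1 0 * x 3 2))⁻¹ =
      t ^ h * ι (hs2e ((i + l + h) % 2) ((i + k + l + h) % 2) ((i + j + k + l) % 2) ((j + l) % 2)) := by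
  have e1 : ι (x 1 0 * x 3 2) * (t ^ h * ι (hs2e i j k l)) * (ι (x 1 0 * x 3 2))⁻¹ =
      t ^ h * ι (hs2e ((i + j) % 2) j ((i + j + k + l) % 2) ((j + l) % 2)) := by
    have hC : CL ι (t ^ h) := fun a => (Commute.pow_left (F.tC a) h).eq
    rw [hs2_conj hC, hs2_m i hi j hj k hk l hl]
  have e2 := congrArg φ (hs2_u h hh ((i + j) % 2) (Nat.mod_lt _ two_pos) j hj ((i + j + k + l) % 2)
    (Nat.mod_lt _ two_pos) ((j + l) % 2) (Nat.mod_lt _ two_pos))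
  rw [map_mul, map_mul, map_inv, d.hs2_φ, d.hs2_φ, ← e1] at e2
  have a1 : ((i + j) % 2 + (j + l) % 2 + h) % 2 = (i + l + h) % 2 := by omega
  have a2 : (j + (i + j + k + l) % 2 + h) % 2 = (i + k + l + h) % 2 := by omega
  rw [a1, a2] at e2
  rw [← e2, mul_inv_rev]
  simp only [mul_assoc]

theorem nty : ¬ IsConj t (t * ι y) := by
  intro hy
  set f := φ (o 5) * ι (x 1 0 * x 3 2) with hf
  have hs : IsConj t (t ^ 1 * ι (hs2e 1 0 1 1)) := by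
    refine hy.trans (isConj_iff.2 ⟨ι (AG.al [4, 7, 5, 6, 0, 1, 2, 3]), ?_⟩)
    rw [hs2_conj F.tC, hs2_y.1, pow_one]
  have hm : ∀ h < 2, ∀ i < 2, ∀ j < 2, ∀ k < 2, ∀ l < 2, t ^ h * ι (hs2e i j k l) ∈ sT ι t E8 :=
    fun h _ i hi j hj k hk l hl => mul_mem (mem_sup_left (pow_mem (mem_zpowers t) h))
      (mem_sup_right (i_mem_img (hs2_E8 i hi j hj k hk l hl)))
  have hc : Nat.card (sT ι t E8) = 32 := by rw [F.toFr0.card_sT, card_even.2.2.1]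
  have m2 : ∀ n : ℕ, n % 2 < 2 := fun n => Nat.mod_lt _ two_pos
  have hN : ∀ a ∈ sT ι t E8, f * a * f⁻¹ ∈ sT ι t E8 := by
    intro a ha
    obtain ⟨b, hb, e⟩ := F.toFr0.mem_sT.1 ha
    obtain ⟨i, hi, j, hj, k, hk, l, hl, e'⟩ := E8_cases hb
    have e2 : b = hs2e i j k l := Subtype.ext e'
    obtain ⟨h, hh, rfl⟩ : ∃ h < 2, a = t ^ h * ι (hs2e i j k l) := by
      rcases e with e | e
      · exact ⟨0, by decide, by rw [e, e2, pow_zero, one_mul]⟩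
      · exact ⟨1, by decide, by rw [e, e2, pow_one]⟩
    rw [hf, d.hs2_f F hh hi hj hk hl]
    exact hm _ hh _ (m2 _) _ (m2 _) _ (m2 _) _ (m2 _)
  have step : ∀ {i j k l : ℕ}, i < 2 → j < 2 → k < 2 → l < 2 → f * (t ^ 1 * ι (hs2e i j k l)) * f⁻¹ =
      t ^ 1 * ι (hs2e ((i + l + 1) % 2) ((i + k + l + 1) % 2) ((i + j + k + l) % 2) ((j + l) % 2)) :=
    fun hi hj hk hl => d.hs2_f F (by decide) hi hj hk hl
  have o1 : (0 : ℕ) < 2 := by decide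
  have o2 : (1 : ℕ) < 2 := by decide
  have hfs : f * (t ^ 1 * ι (hs2e 1 0 1 1)) = t ^ 1 * ι (hs2e 1 0 1 1) * f :=
    mul_inv_eq_iff_eq_mul.1 (step o2 o1 o2 o2)
  have h24 := F.toFr0.no5 (F.toFr0.el_sT el_E8.1) hc hs (hm 1 o2 1 o2 0 o1 1 o2 1 o2) hN hfs _
    (hm 1 o2 0 o1 0 o1 0 o1 0 o1)
  have s1 : f * (t ^ 1 * ι (hs2e 0 0 0 0)) * f⁻¹ = t ^ 1 * ι (hs2e 1 1 0 0) := step o1 o1 o1 o1
  have s2 : f * (t ^ 1 * ι (hs2e 1 1 0 0)) * f⁻¹ = t ^ 1 * ι (hs2e 0 0 0 1) := step o2 o2 o1 o1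
  have s3 : f * (t ^ 1 * ι (hs2e 0 0 0 1)) * f⁻¹ = t ^ 1 * ι (hs2e 0 0 1 1) := step o1 o1 o1 o2
  have s4 : f * (t ^ 1 * ι (hs2e 0 0 1 1)) * f⁻¹ = t ^ 1 * ι (hs2e 0 1 0 1) := step o1 o1 o2 o2
  have s5 : f * (t ^ 1 * ι (hs2e 0 1 0 1)) * f⁻¹ = t ^ 1 * ι (hs2e 0 0 0 0) := step o1 o2 o1 o2
  have h5 : f ^ 5 * (t ^ 1 * ι (hs2e 0 0 0 0)) * (f ^ 5)⁻¹ = t ^ 1 * ι (hs2e 0 0 0 0) := by
    conv_rhs => rw [← s5, ← s4, ← s3, ← s2, ← s1]
    simp only [pow_succ, pow_zero, one_mul, mul_inv_rev, mul_assoc]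
  have h25 := hs2_pow h5 5
  have e : f ^ (5 * 5) * (t ^ 1 * ι (hs2e 0 0 0 0)) * (f ^ (5 * 5))⁻¹ =
      f * (f ^ 24 * (t ^ 1 * ι (hs2e 0 0 0 0)) * (f ^ 24)⁻¹) * f⁻¹ := by group
  rw [e, h24, mul_inv_cancel_right, s1, mul_right_inj] at h25
  exact hs2_y.2.2.2 ((F.inj h25).trans hs2_y.2.2.1)

theorem n584 : ¬ IsConj t (φ (o 584)) := by
  rw [hs2_o.2.1, map_mul, map_mul, d.ht, d.hv, d.hp, ← map_mul, hs2_y.2.1]
  exact d.nty F

theorem card_cen (m : TS) : Nat.card (φ.range ⊓ Cx (φ m) : Subgroup G) = Nat.card (Cx m) := by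
  rw [← card_map_of_injective (K := Cx m) (d.inj F)]
  congr 2
  ext g
  constructor
  · rintro ⟨⟨a, rfl⟩, h⟩
    refine ⟨a, mem_Cx.2 (d.inj F ?_), rfl⟩
    rw [map_mul, map_mul]
    exact mem_Cx.1 h
  · rintro ⟨a, h, rfl⟩
    refine ⟨⟨a, rfl⟩, mem_Cx.2 ?_⟩
    rw [← map_mul, ← map_mul, mem_Cx.1 h]

omit d F in
theorem hs2_pg : IsPGroup 2 φ.range := by
  have : IsPGroup 2 TS := IsPGroup.of_card (n := 10) TS.card_T
  rw [MonoidHom.range_eq_map]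
  exact (this.to_subgroup ⊤).map φ

/-- the conjugates of `t` in the model with large centraliser -/
theorem hs2_big {m : TS} (h : IsConj t (φ m)) (hc : 256 ≤ Nat.card (Cx m)) :
    ∃ g : TS, g * o 576 * g⁻¹ = m := by
  have m2 : m * m = 1 := by
    obtain ⟨c, hc⟩ := isConj_iff.1 h
    apply d.inj F
    rw [map_mul, ← hc, map_one, conj_mul, F.t2, mul_one, mul_inv_cancel]
  rcases TS.big m2 hc with ⟨i, hi, j, hj, k, hk, e⟩ | h1 | ⟨g, e⟩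
  · exfalso
    have e1 : φ m = ι (x 0 1 ^ i * x 0 2 ^ j * x 0 3 ^ k) := by
      simp only [e, map_mul, map_pow, d.hw, d.hv, d.hz]
    rw [e1] at h
    by_cases h1 : x 0 1 ^ i * x 0 2 ^ j * x 0 3 ^ k = 1
    · rw [h1, map_one, isConj_one_left] at h
      exact F.t1 h
    · obtain ⟨n, hn⟩ := conj_z (.inl (hs2_E1 i hi j hj k hk)) h1
      refine F.nz (h.trans (IsConj.symm (isConj_iff.2 ⟨ι n, ?_⟩)))
      rw [← hn, map_mul, map_mul, map_inv]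
  · exact h1
  · refine (d.n584 F (h.trans (IsConj.symm (isConj_iff.2 ⟨φ g, ?_⟩)))).elim
    rw [← e, map_mul, map_mul, map_inv]

omit d in
/-- 2-subgroups centralising a conjugate of `t` -/
theorem hs2_le {s : G} (hs : IsConj t s) {T : Subgroup G} (hT : IsPGroup 2 T) (h : T ≤ Cx s) :
    Nat.card T ≤ 256 := by
  obtain ⟨c, hc⟩ := isConj_iff.1 hs.symm
  rw [← card_cj c T]
  refine F.card_le (isPGroup_cj c hT) ?_
  rw [← hc, ← cj_Cx]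
  exact cj_mono c h

theorem syl : IsSylowIn 2 φ.range ⊤ := by
  by_contra hn
  obtain ⟨R, hR, lt, -, hN⟩ := exists_lt_pgroup_normalizer hs2_pg le_top hn
  obtain ⟨g, gR, gS⟩ := SetLike.exists_of_lt lt
  obtain ⟨m, hm⟩ := conj_mem_of_mem_normalizer (hN gR) (⟨o 576, rfl⟩ : φ (o 576) ∈ φ.range)
  have hc : Nat.card (Cx m) = 256 := by
    rw [← d.card_cen F, hm, ← cj_Cx, ← mem_normalizer_iff_cj.1 (hN gR), ← cj_inf, card_cj,
      d.card_cen F, TS.card_cen]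
  obtain ⟨n, hn⟩ := d.hs2_big F ((d.conj_s F).trans (isConj_iff.2 ⟨g, hm.symm⟩)) hc.ge
  have g1 : (φ n)⁻¹ * g ∈ R ⊓ Cx (φ (o 576)) := by
    refine mem_inf.2 ⟨mul_mem (inv_mem (lt.le ⟨n, rfl⟩)) gR, mem_Cx'.2 ?_⟩
    have : g * φ (o 576) * g⁻¹ = φ n * φ (o 576) * (φ n)⁻¹ := by
      rw [← hm, ← hn, map_mul, map_mul, map_inv]
    calc _ = (φ n)⁻¹ * (g * φ (o 576) * g⁻¹) * φ n := by group
      _ = _ := by rw [this]; group
  have lt2 : φ.range ⊓ Cx (φ (o 576)) < R ⊓ Cx (φ (o 576)) := by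
    refine lt_of_le_of_ne (inf_le_inf_right _ lt.le) fun e => gS ?_
    have := (e ▸ g1 : (φ n)⁻¹ * g ∈ φ.range ⊓ Cx (φ (o 576))).1
    simpa using mul_mem (⟨n, rfl⟩ : φ n ∈ φ.range) this
  have h1 := hs2_le F (d.conj_s F) (hR.to_inf_left) (inf_le_right : R ⊓ Cx (φ (o 576)) ≤ _)
  have h2 := eq_of_le_of_card_ge lt2.le (by rw [d.card_cen F, TS.card_cen]; exact h1)
  exact lt2.ne h2

end Hs

end CfsgLib.A8S
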