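import Cfsg.Agent.Lib.A8S.Hat1B

/-!
# HAT1: the hat of `z` (plans/A8S.md)
-/

set_option autoImplicit false
set_option linter.unusedSectionVars false
set_option Elab.async false

namespace CfsgLib.A8S

open Subgroup Cfsg CfsgLib.Tech CfsgLib.W2 CfsgLib.Classical

universe u

variable {G : Type u} [Group G] [Finite G] {ι : A8 →* G} {t : G} {K : Subgroup G}

omit [Finite G] in
theorem Kp.conj {a : A8} {k : G} (F : Fr0 ι t) (h : Kp ι t a k) (n : A8) :
    Kp ι t (n * a * n⁻¹) (ι n * k * (ι n)⁻¹) := by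
  refine ⟨?_, fun c hc => ?_, ?_⟩
  · rw [conj_mul, h.sq]; group
  · have := h.ce (n⁻¹ * c * n) (by
      calc _ = n⁻¹ * (c * (n * a * n⁻¹)) * n := by group
        _ = _ := by rw [hc]; group)
    rw [map_mul, map_mul, map_inv] at this
    calc _ = ι n * (k * ((ι n)⁻¹ * ι c * ι n)) * (ι n)⁻¹ := by group
      _ = _ := by rw [this]; group
  · have e : (ι n)⁻¹ * t * ι n = t := by rw [mul_assoc, F.tC, inv_mul_cancel_left]
    calc _ = ι n * (k * ((ι n)⁻¹ * t * ι n) * k⁻¹) * (ι n)⁻¹ := by group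
      _ = ι n * t * ι a * (ι n)⁻¹ := by rw [e, h.mv]; group
      _ = _ := by rw [← F.tC, map_mul, map_mul, map_inv]; group

omit [Finite G] in
theorem Kp.flip {k : G} (h : Kp ι t z k) : Kp (A8S.flip ι) t z k := by
  have e : cA τ z = z := τ_x 0 3
  refine ⟨h.sq, fun c hc => h.ce (cA τ c) ?_, by rw [h.mv]; exact congrArg (fun a => t * ι a) e.symm⟩
  have := congrArg (cH τ) hc
  rwa [map_mul, map_mul, cH_apply, cH_apply, e] at this

omit [Finite G] in
theorem CO.conj {k : G} (h : CO ι t k) (n : A8) : CO ι t (ι n * k * (ι n)⁻¹) := fun o ho => by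
  have e : Commute o (ι n) := ho.1 n
  exact (Commute.mul_left (Commute.mul_left e.symm (h o ho)) e.symm.inv_left).eq

omit [Finite G] in
theorem Kp.vx {a : A8} (ha : (a : S8) ∈ E1) {k : G} (h : Kp ι t a k) (hc : CO ι t k) : Vx ι t a k :=
  ⟨h.sq, fun e he => h.ce e (Subtype.ext (el_E1.1.comm he ha)), hc, h.mv⟩

theorem Kp.mv1 {k : G} (F : Fr0 ι t) (h : Kp ι t z k) : Mv ι t := by
  have zE : (z : S8) ∈ E1 := by decide +kernel
  have ce : ∀ e : A8, (e : S8) ∈ E1 → k * ι e * k⁻¹ = ι e := fun e he => by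
    rw [h.ce e (Subtype.ext (el_E1.1.comm he zE)), mul_inv_cancel_right]
  refine ⟨k, mem_normalizer_of_forall fun g hg => ?_, fun e => ?_⟩
  · obtain ⟨a, ha, rfl | rfl⟩ := F.mem_sT.1 hg
    · exact F.mem_sT.2 ⟨a, ha, .inl (ce a ha)⟩
    · exact F.mem_sT.2 ⟨z * a, mul_mem zE ha, .inr (by rw [← conj_mul, h.mv, ce a ha, map_mul, mul_assoc])⟩
  · rw [h.mv, mul_eq_left, ← map_one ι] at e
    exact x_ne 0 3 (by decide) (F.inj e)

/-- hats are unique modulo the transvection -/
theorem Fr.kp_uniq (F : Fr ι t) {a n : A8} (ha : n * z * n⁻¹ = a) {k w : G} (h1 : Kp ι t a k)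
    (hc : CO ι t k) (h2 : Kp ι t a w) : w = k ∨ w = k * ι a := by
  subst ha
  have key : ∀ {k w : G}, Kp ι t z k → CO ι t k → Kp ι t z w → w = k ∨ w = k * ι z := by
    intro k w h1 hc h2
    have ct : k⁻¹ * w * t = t * (k⁻¹ * w) := by
      calc _ = k⁻¹ * (w * t * w⁻¹) * w := by group
        _ = _ := by rw [h2.mv, ← h1.mv]; group
    have cc : ∀ c : A8, c * z = z * c → Commute (k⁻¹ * w) (ι c) := fun c e =>
      Commute.mul_left (Commute.inv_left (h1.ce c e)) (h2.ce c e)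
    obtain ⟨p, hp⟩ := F.aut _ ct
    have pz : p = 1 ∨ p = z := cen_Q (mem_cen.2 fun a ha => by
      obtain ⟨c, e, rfl⟩ := (by decide +kernel : ∀ a ∈ ([x 0 1, x 0 2, x 1 3, x 2 3] : List S8),
        ∃ c ∈ [x 0 1, x 0 2, x 1 3, x 2 3], c * z = z * c ∧ (c : S8) = a) a ha |>.imp fun _ h => h.2
      have := hp c
      rw [(cc c e).eq, mul_inv_cancel_right] at this
      exact eq_mul_inv_iff_mul_eq.1 (congrArg Subtype.val (F.inj this)))
    obtain ⟨b, hb, hp'⟩ : ∃ b : A8, (b = 1 ∨ b = z) ∧ Ac ι (k⁻¹ * w) b := by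
      rcases pz with rfl | rfl
      · exact ⟨1, .inl rfl, hp⟩
      · exact ⟨z, .inr rfl, hp⟩
    have bz : b * z = z * b := by rcases hb with rfl | rfl <;> simp
    have b2 : ι b * ι b = 1 := by
      rw [← map_mul, show b * b = 1 by rcases hb with rfl | rfl; exacts [mul_one 1, x_sq 0 3], map_one]
    have kb : Commute k (ι b) := h1.ce b bz
    obtain ⟨o, ho, e⟩ := F.even_dec ct hp'
    have ko : Commute k o := hc o ho
    have bo : Commute (ι b) o := (show Commute o (ι b) from ho.1 b).symm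
    have odd : ∀ {u : G}, Commute u o → u * u * (o * o) = 1 → (u * u) * (u * u) = 1 → o = 1 := by
      intro u c e1 e2
      have e3 : o ^ 2 ^ 2 = 1 := by
        have : (u * u * (o * o)) ^ 2 = 1 := by rw [e1, one_pow]
        rwa [((c.mul_left c).mul_right (c.mul_left c)).mul_pow, pow_two (u * u), e2, one_mul, ← pow_two, ← pow_mul] at this
      exact orderOf_eq_one_iff.1 (Nat.eq_one_of_dvd_coprimes ((Nat.coprime_two_right.2 ho.2.2).pow_right 2) dvd_rfl
        (orderOf_dvd_of_pow_eq_one e3))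
    have w2 := h2.sq
    rcases e with e | e <;> rw [inv_mul_eq_iff_eq_mul] at e
    · have c := ko.mul_left bo
      have u2 : k * ι b * (k * ι b) = 1 := by rw [kb.symm.mul_mul_mul_comm, h1.sq, b2, one_mul]
      rw [← mul_assoc] at e
      rw [e, c.symm.mul_mul_mul_comm] at w2
      rw [e, odd c w2 (by rw [u2, one_mul]), mul_one]
      rcases hb with rfl | rfl
      · exact .inl (by simp)
      · exact .inr rfl
    · exfalso
      have tb : Commute t (ι b) := F.tC b
      have c := ko.mul_left ((show Commute o t from ho.2.1).symm.mul_left bo)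
      have u2 : k * (t * ι b) * (k * (t * ι b)) = ι z := by
        have e1 : k * t * k = t * ι z := by rw [← h1.mv, inv_eq_of_mul_eq_one_right h1.sq]
        calc _ = k * t * (ι b * k) * (t * ι b) := by group
          _ = (k * t * k) * (ι b * t) * ι b := by rw [← kb.eq]; group
          _ = t * ι z * t * (ι b * ι b) := by rw [e1, ← tb.eq]; group
          _ = _ := by rw [b2, mul_one, F.tC, mul_assoc, F.t2, mul_one]
      rw [← mul_assoc] at e
      rw [e, c.symm.mul_mul_mul_comm] at w2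
      have o1 := odd c w2 (by rw [u2, ← map_mul, x_sq, map_one])
      rw [o1, u2, mul_one, mul_one, ← map_one ι] at w2
      exact x_ne 0 3 (by decide) (F.inj w2)
  have e : n⁻¹ * (n * z * n⁻¹) * n⁻¹⁻¹ = z := by group
  have := key (e ▸ h1.conj F.toFr0 n⁻¹) (hc.conj n⁻¹) (e ▸ h2.conj F.toFr0 n⁻¹)
  rw [map_inv] at this
  refine this.imp (fun f => by simpa using f) fun f => ?_
  rw [map_mul, map_mul, map_inv]
  calc w = ι n * ((ι n)⁻¹ * w * (ι n)⁻¹⁻¹) * (ι n)⁻¹ := by group
    _ = _ := by rw [f]; group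

theorem Fr.exists_kp (F : Fr ι t) (h : Ex ι t) (hE : TyE ι t) : ∃ k, Kp ι t z k ∧ CO ι t k := by
  have zE : (z : S8) ∈ E1 := by decide +kernel
  let m : A8 := x 1 2 * x 2 1 * x 1 2
  have hm : NE m := ((NE_x 1 2 (by decide) (by decide)).mul (NE_x 2 1 (by decide) (by decide))).mul
    (NE_x 1 2 (by decide) (by decide))
  have h1 : NE 1 := NE_of_z (by simp)
  obtain ⟨k, v1, a1, a2, a3⟩ := F.fix_U h hE h1
  obtain ⟨k', v2, b1, b2, b3⟩ := F.fix_U h hE hm
  simp only [one_mul, inv_one, mul_one] at v1 a1 a2 a3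
  rw [show m * z * m⁻¹ = z by decide +kernel] at v2
  rw [show m * x 1 2 * m⁻¹ = x 2 1 by decide +kernel] at b1
  rw [show m * x 2 3 * m⁻¹ = x 1 3 by decide +kernel] at b2
  rw [show m * x 1 3 * m⁻¹ = x 2 3 by decide +kernel] at b3
  obtain ⟨e, he, rfl⟩ := F.vx_uniq zE (x_ne 0 3 (by decide)) v1 v2
  have c : ∀ a : A8, k * ι a = ι a * k → k * ι e * ι a = ι a * (k * ι e) → e * a = a * e := fun a e1 e2 => by
    rw [← mul_assoc, ← e1, mul_assoc, mul_assoc, mul_right_inj, ← map_mul, ← map_mul] at e2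
    exact F.inj e2
  have e21 : e * x 2 1 = x 2 1 * e := by
    have c1 := c _ a2 b3
    have c2 := c _ a3 b2
    obtain ⟨i, hi, j, hj, l, hl, f⟩ := E1_cases he
    obtain rfl := Subtype.ext f
    revert c1 c2
    interval_cases i <;> interval_cases j <;> interval_cases l <;> decide +kernel
  have a4 : k * ι (x 2 1) = ι (x 2 1) * k := by
    rw [mul_assoc, ← map_mul, e21, map_mul, ← mul_assoc, ← mul_assoc, mul_left_inj] at b1
    exact b1
  refine ⟨k, ⟨v1.sq, fun c hc => ?_, v1.mv⟩, v1.co⟩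
  exact (mem_Cx.1 (gen_Cz (S := (Cx k).comap ι) (mem_Cx.2 (v1.ce _ (by decide +kernel)).symm) (mem_Cx.2 a1.symm)
    (mem_Cx.2 a2.symm) (mem_Cx.2 a4.symm) hc)).symm

end CfsgLib.A8S
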