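import Cfsg.Agent.Lib.A8S.Hat2B

/-!
# HAT2: relations between the hats (plans/A8S.md)
-/

set_option autoImplicit false
set_option linter.unusedSectionVars false
set_option Elab.async false

namespace CfsgLib.A8S

open Subgroup Cfsg CfsgLib.Tech CfsgLib.W2 CfsgLib.Classical

universe u

variable {G : Type u} [Group G] [Finite G] {ι : A8 →* G} {t : G} {K : Subgroup G}

/-- the hat of `n z n⁻¹` -/
noncomputable def kn (ι : A8 →* G) (k : G) (n : A8) : G := ι n * k * (ι n)⁻¹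

omit [Finite G] in
theorem kn_congr {k : G} (h : Kp ι t z k) {n n' : A8} (e : n * z * n⁻¹ = n' * z * n'⁻¹) :
    kn ι k n = kn ι k n' := by
  have h1 := h.ce (n⁻¹ * n') (by
    calc n⁻¹ * n' * z = n⁻¹ * (n' * z * n'⁻¹) * n' := by group
      _ = _ := by rw [← e]; group)
  rw [map_mul, map_inv] at h1
  calc ι n * k * (ι n)⁻¹ = ι n * (k * ((ι n)⁻¹ * ι n')) * (ι n')⁻¹ := by group
    _ = ι n' * k * (ι n')⁻¹ := by rw [h1]; group

omit [Finite G] in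
theorem hat2_mul (k : G) (w n : A8) : ι w * kn ι k n * (ι w)⁻¹ = kn ι k (w * n) := by
  rw [kn, kn, map_mul]; group

omit [Finite G] in
theorem hat2_conj {k : G} (h : Kp ι t z k) {w n n' : A8}
    (e : w * (n * z * n⁻¹) * w⁻¹ = n' * z * n'⁻¹) : ι w * kn ι k n * (ι w)⁻¹ = kn ι k n' :=
  (hat2_mul k w n).trans (kn_congr h (by rw [← e]; group))

set_option synthInstance.maxSize 2000 in
theorem hat2_fin : ∀ i < (2 : ℕ), ∀ j < (2 : ℕ), ∀ l < (2 : ℕ),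
    x 1 2 * (x 0 1 ^ i * x 0 2 ^ j * x 0 3 ^ l) = x 0 1 ^ i * x 0 2 ^ j * x 0 3 ^ l * x 1 2 →
    x 3 2 * x 2 3 * (x 0 1 ^ i * x 0 2 ^ j * x 0 3 ^ l) =
      x 0 1 ^ i * x 0 2 ^ j * x 0 3 ^ l * (x 3 2 * x 2 3) →
    x 0 1 ^ i * x 0 2 ^ j * x 0 3 ^ l = 1 := by decide +kernel

theorem Fr.hat2_base (F : Fr ι t) (hE : TyE ι t) {k : G} (h : Kp ι t z k) (hc : CO ι t k) :
    kn ι k (nn 0 2) * kn ι k 1 = kn ι k (x 3 2) := by
  have vx : ∀ n : A8, ((n * z * n⁻¹ : A8) : S8) ∈ E1 → Vx ι t (n * z * n⁻¹) (kn ι k n) :=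
    fun n hn => (h.conj F.toFr0 n).vx hn (hc.conj n)
  have ce : ∀ n c : A8, c * (n * z * n⁻¹) = n * z * n⁻¹ * c → Commute (kn ι k n) (ι c) :=
    fun n => (h.conj F.toFr0 n).ce
  have v1 := vx (nn 0 2) (by decide +kernel)
  have v2 := vx 1 (by decide +kernel)
  have v3 := vx (x 3 2) (by decide +kernel)
  have v4 := hE _ _ _ _ (by decide +kernel) (by decide +kernel) (by decide +kernel)
    (by decide +kernel) (by decide +kernel) v1 v2
  rw [show nn 0 2 * z * (nn 0 2)⁻¹ * (1 * z * 1⁻¹) = x 3 2 * z * (x 3 2)⁻¹ by decide +kernel] at v4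
  obtain ⟨e, he, h1⟩ := F.vx_uniq (by decide +kernel) (by decide +kernel) v3 v4
  have h2 : ι e = kn ι k (nn 0 2) * kn ι k 1 * kn ι k (x 3 2) := by
    rw [h1, v3.ce e he, mul_assoc, v3.sq, mul_one]
  have h3 : x 1 2 * e = e * x 1 2 := F.inj (by
    rw [map_mul, map_mul, h2]
    exact (((ce _ _ (by decide +kernel)).mul_left (ce _ _ (by decide +kernel))).mul_left
      (ce _ _ (by decide +kernel))).symm)
  have h4 : x 3 2 * x 2 3 * e = e * (x 3 2 * x 2 3) := F.inj (by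
    have r1 := hat2_conj h (w := x 3 2 * x 2 3) (n := nn 0 2) (n' := 1) (by decide +kernel)
    have r2 := hat2_conj h (w := x 3 2 * x 2 3) (n := 1) (n' := x 3 2) (by decide +kernel)
    have r3 := hat2_conj h (w := x 3 2 * x 2 3) (n := x 3 2) (n' := nn 0 2) (by decide +kernel)
    rw [map_mul _ _ e, map_mul _ e, ← mul_inv_eq_iff_eq_mul]
    calc ι (x 3 2 * x 2 3) * ι e * (ι (x 3 2 * x 2 3))⁻¹
        = kn ι k 1 * kn ι k (x 3 2) * kn ι k (nn 0 2) := by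
          rw [h2, ← conj_mul, ← conj_mul, r1, r2, r3]
      _ = (kn ι k (nn 0 2))⁻¹ * ι e * kn ι k (nn 0 2) := by rw [h2]; group
      _ = ι e := by rw [mul_assoc, ← v1.ce e he, inv_mul_cancel_left])
  obtain ⟨i, hi, j, hj, l, hl, e1⟩ := E1_cases he
  obtain rfl : e = _ := Subtype.ext e1
  rw [h1, hat2_fin i hi j hj l hl h3 h4, map_one, mul_one]

/-- hats are additive on `E1` -/
theorem Fr.add1 (F : Fr ι t) (hE : TyE ι t) {k : G} (h : Kp ι t z k) (hc : CO ι t k) {n₁ n₂ n₃ : A8}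
    (h1 : ((n₁ * z * n₁⁻¹ : A8) : S8) ∈ E1) (h2 : ((n₂ * z * n₂⁻¹ : A8) : S8) ∈ E1)
    (h3 : n₁ * z * n₁⁻¹ * (n₂ * z * n₂⁻¹) = n₃ * z * n₃⁻¹) : kn ι k n₁ * kn ι k n₂ = kn ι k n₃ := by
  have z1 : ∀ n : A8, n * z * n⁻¹ ≠ 1 := fun n e => x_ne 0 3 (by decide) (conj_eq_one_iff.1 e)
  obtain ⟨m, -, m1, m2⟩ := NE_tr2 h2 h1 (z1 n₂) (z1 n₁) fun e => z1 n₃ (by
    rw [← h3, e]
    exact Subtype.ext (el_E1.1 _ h2))
  have r1 := hat2_conj h (w := m) (n := nn 0 2) (n' := n₁) (by rw [nn_z 0 2 (by decide), m1])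
  have r2 := hat2_conj h (w := m) (n := 1) (n' := n₂) (by rw [← m2]; group)
  have r3 := hat2_conj h (w := m) (n := x 3 2) (n' := n₃) (by
    rw [← h3, ← m1, ← m2, show x 3 2 * z * (x 3 2)⁻¹ = x 0 2 * x 0 3 by decide +kernel]; group)
  rw [← r1, ← r2, ← r3, ← F.hat2_base hE h hc]
  group

/-- hats are additive on `E3` -/
theorem Fr.add3 (F : Fr ι t) (hE : TyE (A8S.flip ι) t) {k : G} (h : Kp ι t z k) (hc : CO ι t k)
    {n₁ n₂ n₃ : A8}
    (h1 : ((n₁ * z * n₁⁻¹ : A8) : S8) ∈ E3) (h2 : ((n₂ * z * n₂⁻¹ : A8) : S8) ∈ E3)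
    (h3 : n₁ * z * n₁⁻¹ * (n₂ * z * n₂⁻¹) = n₃ * z * n₃⁻¹) : kn ι k n₁ * kn ι k n₂ = kn ι k n₃ := by
  have e1 : ∀ n : A8, cA τ n * z * (cA τ n)⁻¹ = cA τ (n * z * n⁻¹) := fun n => by
    rw [← cH_apply τ (n * z * n⁻¹), map_mul, map_mul, map_inv, cH_apply, cH_apply, τ_x 0 3]
    rfl
  have e2 : ∀ n : A8, kn (A8S.flip ι) k (cA τ n) = kn ι k n := fun n => by
    rw [kn, kn, show A8S.flip ι (cA τ n) = ι n from
      congrArg ι (show cA τ (cA τ n) = n by rw [← cA_mul, τ_sq, cA_one])]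
  have h4 := F.flip.add1 hE h.flip (CO_flip.2 hc) (n₁ := cA τ n₁) (n₂ := cA τ n₂) (n₃ := cA τ n₃)
    (by rw [e1]; exact τ_E1.2 h1) (by rw [e1]; exact τ_E1.2 h2)
    (by rw [e1, e1, e1, ← h3]; exact (map_mul (cH τ) _ _).symm)
  rwa [e2, e2, e2] at h4

theorem hat2_swap : ∀ a b : Fin 4, a ≠ b → ∀ i j : Fin 4,
    x a b * x b a * x a b * x i j * (x a b * x b a * x a b)⁻¹ =
      x (Equiv.swap a b i) (Equiv.swap a b j) := by decide +kernel

theorem hat2_mono (σ : Equiv.Perm (Fin 4)) : ∃ w : A8, ∀ i j, w * x i j * w⁻¹ = x (σ i) (σ j) := by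
  induction σ using Equiv.Perm.swap_induction_on with
  | one => exact ⟨1, fun i j => by simp⟩
  | swap_mul σ a b hab ih =>
    obtain ⟨w, hw⟩ := ih
    refine ⟨x a b * x b a * x a b * w, fun i j => ?_⟩
    rw [Equiv.Perm.mul_apply, Equiv.Perm.mul_apply, ← hat2_swap a b hab, ← hw]
    group

theorem hat2_three : ∀ i j l : Fin 4, i ≠ j → j ≠ l → i ≠ l →
    ∃ σ : Equiv.Perm (Fin 4), σ 0 = i ∧ σ 2 = j ∧ σ 3 = l := by decide +kernel

theorem hat2_four : ∀ i j i' j' : Fin 4, i ≠ j → i' ≠ j' → i ≠ j' → j ≠ i' → (i = i' ∧ j = j') ∨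
    ∃ σ : Equiv.Perm (Fin 4), σ 0 = i ∧ σ 3 = j ∧
      ((σ 0 = i' ∧ σ 2 = j') ∨ (σ 2 = i' ∧ σ 3 = j') ∨ (σ 1 = i' ∧ σ 2 = j')) := by decide +kernel

section
variable (F : Fr ι t) (hE : TyE ι t) (hE' : TyE (A8S.flip ι) t) {k : G} (h : Kp ι t z k) (hc : CO ι t k)
include F hE hE' h hc

/-- orthogonal roots -/
theorem Fr.ort : kn ι k (nn 0 3) * kn ι k (nn 1 2) = kn ι k (nn 1 2) * kn ι k (nn 0 3) :=
  F.ort' h hc (fun _ _ _ h1 h2 h3 => F.add1 hE h hc h1 h2 h3)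
    fun _ _ _ h1 h2 h3 => F.add3 hE' h hc h1 h2 h3

/-- the structure constant -/
theorem Fr.cst : ∃ c < 2, kn ι k (nn 0 2) * kn ι k (nn 2 3) * kn ι k (nn 0 2) * kn ι k (nn 2 3) =
    kn ι k (nn 0 3) * ι z ^ c :=
  F.cst' h hc (fun _ _ _ h1 h2 h3 => F.add1 hE h hc h1 h2 h3)
    fun _ _ _ h1 h2 h3 => F.add3 hE' h hc h1 h2 h3

theorem Fr.hats : ∃ c < 2, Hats ι t (fun i j => kn ι k (nn i j)) c := by
  obtain ⟨c, hc2, h1⟩ := F.cst hE hE' h hc
  have mono : ∀ σ : Equiv.Perm (Fin 4), ∃ α : G ≃* G, (∀ i j, α (ι (x i j)) = ι (x (σ i) (σ j))) ∧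
      ∀ i j, i ≠ j → α (kn ι k (nn i j)) = kn ι k (nn (σ i) (σ j)) := fun σ => by
    obtain ⟨w, hw⟩ := hat2_mono σ
    refine ⟨MulAut.conj (ι w), fun i j => ?_, fun i j hij => ?_⟩
    · rw [MulAut.conj_apply, ← hw, map_mul, map_mul, map_inv]
    · exact hat2_conj h (by rw [nn_z i j hij, nn_z _ _ (σ.injective.ne hij), hw])
  have sq : ∀ n : A8, kn ι k n * kn ι k n = 1 := fun n => (h.conj F.toFr0 n).sq
  have xi : ∀ i j, (ι (x i j))⁻¹ = ι (x i j) := fun i j =>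
    inv_eq_of_mul_eq_one_right (by rw [← map_mul, x_sq, map_one])
  have a1 : kn ι k (nn 0 2) * kn ι k (nn 0 3) = kn ι k (x 2 3 * nn 0 2) :=
    F.add1 hE h hc (by decide +kernel) (by decide +kernel) (by decide +kernel)
  have a2 : kn ι k (nn 0 3) * kn ι k (nn 0 2) = kn ι k (x 2 3 * nn 0 2) :=
    F.add1 hE h hc (by decide +kernel) (by decide +kernel) (by decide +kernel)
  have a3 : kn ι k (nn 0 3) * kn ι k (nn 2 3) = kn ι k (x 0 2 * nn 2 3) :=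
    F.add3 hE' h hc (by decide +kernel) (by decide +kernel) (by decide +kernel)
  have a4 : kn ι k (nn 2 3) * kn ι k (nn 0 3) = kn ι k (x 0 2 * nn 2 3) :=
    F.add3 hE' h hc (by decide +kernel) (by decide +kernel) (by decide +kernel)
  have b1 : kn ι k (nn 0 2) * ι (x 2 3) * kn ι k (nn 0 2) * ι (x 2 3) = kn ι k (nn 0 3) := by
    rw [← hat2_mul, xi] at a1
    rw [mul_assoc, mul_assoc, ← mul_assoc (ι _), ← a1, ← mul_assoc, sq, one_mul]
  have b2 : ι (x 0 2) * kn ι k (nn 2 3) * ι (x 0 2) * kn ι k (nn 2 3) = kn ι k (nn 0 3) := by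
    rw [← hat2_mul, xi] at a3
    rw [← a3, mul_assoc, sq, mul_one]
  refine ⟨c, hc2, fun i j hij => nn_z i j hij ▸ h.conj F.toFr0 (nn i j), fun i j _ => hc.conj _,
    fun i j _ => by simp [kn, nn03], fun i j i' j' k1 k2 k3 k4 => ?_, fun i j l k1 k2 k3 => ?_,
    fun i j l k1 k2 k3 => ?_, fun i j l k1 k2 k3 => ?_⟩
  · rcases hat2_four i j i' j' k1 k2 k3 k4 with ⟨rfl, rfl⟩ | ⟨σ, rfl, rfl, h2⟩
    · rfl
    obtain ⟨α, -, hα⟩ := mono σ
    rcases h2 with ⟨rfl, rfl⟩ | ⟨rfl, rfl⟩ | ⟨rfl, rfl⟩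
    · simpa only [map_mul, hα 0 3 (by decide), hα 0 2 (by decide)] using congrArg α (a2.trans a1.symm)
    · simpa only [map_mul, hα 0 3 (by decide), hα 2 3 (by decide)] using congrArg α (a3.trans a4.symm)
    · simpa only [map_mul, hα 0 3 (by decide), hα 1 2 (by decide)] using
        congrArg α (F.ort hE hE' h hc)
  all_goals
    obtain ⟨σ, rfl, rfl, rfl⟩ := hat2_three i j l k1 k2 k3
    obtain ⟨α, hx, hα⟩ := mono σ
  · simpa only [map_mul, hx, hα 0 3 (by decide), hα 0 2 (by decide)] using congrArg α b1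
  · simpa only [map_mul, hx, hα 0 3 (by decide), hα 2 3 (by decide)] using congrArg α b2
  · simpa only [map_mul, map_pow, hx, hα 0 3 (by decide), hα 0 2 (by decide), hα 2 3 (by decide)]
      using congrArg α h1

end

end CfsgLib.A8S
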