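import Cfsg.Agent.Lib.A8S.Hat1

/-!
# HAT2B: orthogonal roots and the structure constant (plans/A8S.md)
-/

set_option autoImplicit false
set_option linter.unusedSectionVars false
set_option Elab.async false

namespace CfsgLib.A8S

open Subgroup Cfsg CfsgLib.Tech CfsgLib.W2 CfsgLib.Classical

universe u

variable {G : Type u} [Group G] [Finite G] {ι : A8 →* G} {t : G}

/-- additivity of the hats on `X` -/
def H2Add (ι : A8 →* G) (k : G) (X : Subgroup S8) : Prop :=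
  ∀ ⦃n₁ n₂ n₃ : A8⦄, ((n₁ * z * n₁⁻¹ : A8) : S8) ∈ X → ((n₂ * z * n₂⁻¹ : A8) : S8) ∈ X →
    n₁ * z * n₁⁻¹ * (n₂ * z * n₂⁻¹) = n₃ * z * n₃⁻¹ →
    ι n₁ * k * (ι n₁)⁻¹ * (ι n₂ * k * (ι n₂)⁻¹) = ι n₃ * k * (ι n₃)⁻¹

omit [Finite G] in
theorem H2Add.cj {k : G} {X : Subgroup S8} (h : H2Add ι k X) (m n₁ n₂ n₃ : A8)
    (h1 : ((m * n₁ * z * (m * n₁)⁻¹ : A8) : S8) ∈ X) (h2 : ((m * n₂ * z * (m * n₂)⁻¹ : A8) : S8) ∈ X)
    (h3 : n₁ * z * n₁⁻¹ * (n₂ * z * n₂⁻¹) = n₃ * z * n₃⁻¹) :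
    ι n₁ * k * (ι n₁)⁻¹ * (ι n₂ * k * (ι n₂)⁻¹) = ι n₃ * k * (ι n₃)⁻¹ := by
  have e := h (n₃ := m * n₃) h1 h2 (by
    calc m * n₁ * z * (m * n₁)⁻¹ * (m * n₂ * z * (m * n₂)⁻¹)
        = m * (n₁ * z * n₁⁻¹ * (n₂ * z * n₂⁻¹)) * m⁻¹ := by group
      _ = m * n₃ * z * (m * n₃)⁻¹ := by rw [h3]; group)
  simp only [map_mul] at e
  calc ι n₁ * k * (ι n₁)⁻¹ * (ι n₂ * k * (ι n₂)⁻¹)
      = (ι m)⁻¹ * (ι m * ι n₁ * k * (ι m * ι n₁)⁻¹ * (ι m * ι n₂ * k * (ι m * ι n₂)⁻¹)) * ι m := by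
        group
    _ = ι n₃ * k * (ι n₃)⁻¹ := by rw [e]; group

omit [Finite G] in
theorem h2_comm {a b : G} (ha : a * a = 1) (hb : b * b = 1) (h : a * b * (a * b) = 1) :
    a * b = b * a := by
  calc a * b = (a * b)⁻¹ := (inv_eq_of_mul_eq_one_right h).symm
    _ = b * a := by rw [mul_inv_rev, inv_eq_of_mul_eq_one_right ha, inv_eq_of_mul_eq_one_right hb]

omit [Finite G] in
theorem h2_csq {k g : G} (hk : k * k = 1) : g * k * g⁻¹ * (g * k * g⁻¹) = 1 := by
  calc g * k * g⁻¹ * (g * k * g⁻¹) = g * (k * k) * g⁻¹ := by group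
    _ = 1 := by rw [hk]; group

/-- an element of `C(t)` inverted by a hat -/
theorem Fr.h2_inv (F : Fr ι t) {b a : A8} {κ u : G} (hκ : Kp ι t b κ) (hc : CO ι t κ) (b1 : b ≠ 1)
    (hu : u * t = t * u) (ha : Ac ι u a) (a2 : a * a = 1) (hab : a * b = b * a)
    (hi : κ * u * κ * u = 1) : u = ι a := by
  obtain ⟨o, ho, h⟩ := F.even_dec hu ha
  have c1 : Commute κ o := hc o ho
  have c2 : Commute κ (ι a) := hκ.ce a hab
  have c3 : Commute o (ι a) := ho.1 a
  have c4 : Commute o t := ho.2.1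
  have c5 : Commute t (ι a) := F.tC a
  have c6 : Commute t (ι b) := F.tC b
  have c7 : Commute (ι a) (ι b) := by
    change ι a * ι b = ι b * ι a
    rw [← map_mul, hab, map_mul]
  have c8 : Commute o (ι b) := ho.1 b
  have ia : ι a * ι a = 1 := by rw [← map_mul, a2, map_one]
  have ki : κ⁻¹ = κ := inv_eq_of_mul_eq_one_right hκ.sq
  rcases h with rfl | rfl
  · have e : o * o = 1 := by
      calc o * o = κ * κ * (ι a * ι a) * (o * o) := by rw [hκ.sq, ia]; group
        _ = κ * (ι a * o) * κ * (ι a * o) := by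
          have e1 : ι a * o * κ = κ * (ι a * o) := ((c2.mul_right c1).eq).symm
          rw [mul_assoc κ (ι a * o) κ, e1, ← mul_assoc κ κ, mul_assoc (κ * κ) (ι a * o),
            mul_assoc (κ * κ), c3.symm.mul_mul_mul_comm]
        _ = 1 := hi
    have e2 : orderOf o ∣ 2 := orderOf_dvd_of_pow_eq_one (by rw [pow_two, e])
    have e3 : orderOf o = 1 := by
      rcases (Nat.dvd_prime Nat.prime_two).1 e2 with e4 | e4
      · exact e4
      · have := ho.2.2; rw [e4] at this; exact absurd this (by decide)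
    rw [orderOf_eq_one_iff.1 e3, mul_one]
  · exfalso
    have e1 : κ * (t * ι a * o) * κ = t * ι b * (ι a * o) := by
      have e0 : ι a * o * κ = κ * (ι a * o) := ((c2.mul_right c1).eq).symm
      rw [← hκ.mv, ki, mul_assoc t, mul_assoc κ, mul_assoc t, e0]
      simp only [mul_assoc]
    rw [e1] at hi
    have e2 : ι b * (o * o) = 1 := by
      calc ι b * (o * o) = t * t * ι b * (ι a * ι a) * (o * o) := by rw [F.t2, ia]; group
        _ = t * ι b * (ι a * o) * (t * ι a * o) := by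
          have e5 : ι a * o * t = t * (ι a * o) := ((c5.mul_right c4.symm).eq).symm
          have e6 : o * ι a = ι a * o := c3.eq
          calc t * t * ι b * (ι a * ι a) * (o * o) = t * (t * ι b) * ι a * (ι a * o) * o := by group
            _ = t * (ι b * t) * ι a * (o * ι a) * o := by rw [c6.eq, e6]
            _ = t * ι b * (t * (ι a * o)) * ι a * o := by simp only [mul_assoc]
            _ = _ := by rw [← e5]; group
        _ = 1 := hi
    refine b1 (CL.eq_one F.inj fun c => ?_)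
    have e3 : ι b = (o * o)⁻¹ := eq_inv_of_mul_eq_one_left e2
    have c9 : Commute o (ι c) := ho.1 c
    rw [e3]
    exact ((c9.mul_left c9).inv_left).eq

omit [Finite G] in
theorem h2_cen (hi : Function.Injective ι) {u : G} {p : S8} (hp : Ac ι u p) {a : A8}
    (h : u * ι a = ι a * u) : (a : S8) * p = p * a := by
  have e := hp a
  rw [h, mul_inv_cancel_right] at e
  have e2 := congrArg Subtype.val (hi e)
  rw [cA_val] at e2
  exact (eq_mul_inv_iff_mul_eq.1 e2)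

theorem h2_E8 {p : S8} (hp : p ∈ E8) : ∃ e : A8, p = e ∧ e * e = 1 ∧ e * x 0 3 = x 0 3 * e ∧
    (x 3 2 * e = e * x 3 2 → x 2 3 * e = e * x 2 3 → e = 1) := by
  obtain ⟨i, hi, j, hj, k, hk, l, hl, rfl⟩ := E8_cases hp
  refine ⟨_, rfl, ?_⟩
  interval_cases i <;> interval_cases j <;> interval_cases k <;> interval_cases l <;> decide +kernel

omit [Finite G] in
theorem h2_fix1 {m A B C : G} (hA : m * A * m⁻¹ = A * C) (hB : B * m = m * B) (cA : Commute A C)
    (cB : Commute C B) (C2 : C * C = 1) : m * (A * B * A * B) = A * B * A * B * m := by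
  have hB' : m * B * m⁻¹ = B := by rw [← hB, mul_inv_cancel_right]
  calc m * (A * B * A * B) = (m * A * m⁻¹) * (m * B * m⁻¹) * (m * A * m⁻¹) * (m * B * m⁻¹) * m := by
        group
    _ = A * (C * B) * (A * C) * B * m := by rw [hA, hB']; simp only [mul_assoc]
    _ = A * B * (C * C) * A * B * m := by rw [cB.eq, cA.eq]; simp only [mul_assoc]
    _ = _ := by rw [C2, mul_one]

omit [Finite G] in
theorem h2_fix2 {m A B C : G} (hA : A * m = m * A) (hB : m * B * m⁻¹ = B * C) (cA : Commute C A)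
    (cB : Commute B C) (C2 : C * C = 1) : m * (A * B * A * B) = A * B * A * B * m := by
  have hA' : m * A * m⁻¹ = A := by rw [← hA, mul_inv_cancel_right]
  calc m * (A * B * A * B) = (m * A * m⁻¹) * (m * B * m⁻¹) * (m * A * m⁻¹) * (m * B * m⁻¹) * m := by
        group
    _ = A * B * (C * A) * (B * C) * m := by rw [hA', hB]; simp only [mul_assoc]
    _ = A * B * A * (C * C) * B * m := by rw [cB.eq, cA.eq]; simp only [mul_assoc]
    _ = _ := by rw [C2, mul_one]

omit [Finite G] in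
theorem h2_com4 {m A B : G} (hA : A * m = m * A) (hB : B * m = m * B) :
    A * B * A * B * m = m * (A * B * A * B) := by
  have cA : Commute A m := hA
  have cB : Commute B m := hB
  exact (((cA.mul_left cB).mul_left cA).mul_left cB).eq

omit [Finite G] in
theorem h2_inv4 {A B : G} (hA : A * A = 1) (hB : B * B = 1) :
    A * (A * B * A * B) * A * (A * B * A * B) = 1 := by
  calc A * (A * B * A * B) * A * (A * B * A * B) = (A * A) * B * A * B * (A * A) * B * A * B := by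
        simp only [mul_assoc]
    _ = B * A * (B * B) * A * B := by rw [hA]; simp only [mul_assoc, one_mul, mul_one]
    _ = B * (A * A) * B := by rw [hB]; simp only [mul_assoc, one_mul, mul_one]
    _ = 1 := by rw [hA, mul_one, hB]

omit [Finite G] in
/-- `t κ t = κ a` -/
theorem Kp.h2_t (F : Fr0 ι t) {a : A8} {κ : G} (h : Kp ι t a κ) : t * κ * t⁻¹ = κ * ι a := by
  have e : κ * t = t * ι a * κ := by rw [← h.mv, inv_mul_cancel_right]
  have ti : t⁻¹ = t := inv_eq_of_mul_eq_one_right F.t2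
  rw [ti, mul_assoc, e, ← mul_assoc, ← mul_assoc, F.t2, one_mul, h.ce a rfl]

omit [Finite G] in
theorem h2_kp (F : Fr0 ι t) {k : G} (h : Kp ι t z k) {i j : Fin 4} (hij : i ≠ j) :
    Kp ι t (x i j) (ι (nn i j) * k * (ι (nn i j))⁻¹) := by
  have := Kp.conj F h (nn i j)
  rwa [nn_z i j hij] at this

omit [Finite G] in
theorem h2_conj {k : G} (h : Kp ι t z k) (m : A8) {i j i' j' : Fin 4} (hij : i ≠ j) (hij' : i' ≠ j')
    (e : m * x i j * m⁻¹ = x i' j') :
    ι m * (ι (nn i j) * k * (ι (nn i j))⁻¹) * (ι m)⁻¹ = ι (nn i' j') * k * (ι (nn i' j'))⁻¹ := by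
  have e1 := h.ce ((nn i' j')⁻¹ * (m * nn i j)) (by
    rw [← nn_z i j hij, ← nn_z i' j' hij'] at e
    calc (nn i' j')⁻¹ * (m * nn i j) * z
        = (nn i' j')⁻¹ * (m * (nn i j * z * (nn i j)⁻¹) * m⁻¹) * (m * nn i j) := by group
      _ = z * ((nn i' j')⁻¹ * (m * nn i j)) := by rw [e]; group)
  simp only [map_mul, map_inv] at e1
  calc ι m * (ι (nn i j) * k * (ι (nn i j))⁻¹) * (ι m)⁻¹
      = ι (nn i' j') * ((ι (nn i' j'))⁻¹ * (ι m * ι (nn i j)) * k) * (ι (nn i j))⁻¹ * (ι m)⁻¹ := by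
        group
    _ = _ := by rw [← e1]; group

/-- the monomial element swapping `i` and `j` -/
noncomputable def h2sw (i j : Fin 4) : A8 := x i j * x j i * x i j

theorem h2_row : ∀ i j l : Fin 4, i ≠ j → j ≠ l → i ≠ l →
    ((h2sw 0 i * nn i j * z * (h2sw 0 i * nn i j)⁻¹ : A8) : S8) ∈ E1 ∧
      nn i j * z * (nn i j)⁻¹ * (nn i l * z * (nn i l)⁻¹) = x j l * nn i j * z * (x j l * nn i j)⁻¹ := by
  decide +kernel

theorem h2_col : ∀ i j l : Fin 4, i ≠ j → j ≠ l → i ≠ l →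
    ((h2sw 3 l * nn i l * z * (h2sw 3 l * nn i l)⁻¹ : A8) : S8) ∈ E3 ∧
      nn i l * z * (nn i l)⁻¹ * (nn j l * z * (nn j l)⁻¹) = x i j * nn j l * z * (x i j * nn j l)⁻¹ := by
  decide +kernel

theorem h2_tri : ∀ i j l : Fin 4, i ≠ j → j ≠ l → i ≠ l → ∃ a b : Fin 4,
    (h2sw 0 i * h2sw 2 a * h2sw 3 b) * x 0 2 * (h2sw 0 i * h2sw 2 a * h2sw 3 b)⁻¹ = x i j ∧
    (h2sw 0 i * h2sw 2 a * h2sw 3 b) * x 2 3 * (h2sw 0 i * h2sw 2 a * h2sw 3 b)⁻¹ = x j l ∧
    (h2sw 0 i * h2sw 2 a * h2sw 3 b) * x 0 3 * (h2sw 0 i * h2sw 2 a * h2sw 3 b)⁻¹ = x i l := by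
  decide +kernel

set_option synthInstance.maxSize 2000 in
set_option synthInstance.maxHeartbeats 200000 in
theorem h2_quad : ∀ i j i' j' : Fin 4, i ≠ j → i' ≠ j' → i ≠ j' → j ≠ i' → i ≠ i' → j ≠ j' →
    ∃ a b : Fin 4,
    (h2sw 0 i * h2sw 3 a * h2sw 1 b) * x 0 3 * (h2sw 0 i * h2sw 3 a * h2sw 1 b)⁻¹ = x i j ∧
    (h2sw 0 i * h2sw 3 a * h2sw 1 b) * x 1 2 * (h2sw 0 i * h2sw 3 a * h2sw 1 b)⁻¹ = x i' j' := by
  decide +kernel

omit [Finite G] in
theorem H2Add.row {k : G} (h1 : H2Add ι k E1) {i j l : Fin 4} (hij : i ≠ j) (hjl : j ≠ l) (hil : i ≠ l) :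
    ι (nn i j) * k * (ι (nn i j))⁻¹ * (ι (nn i l) * k * (ι (nn i l))⁻¹) =
      ι (x j l) * (ι (nn i j) * k * (ι (nn i j))⁻¹) * (ι (x j l))⁻¹ :=
  (h1.cj (h2sw 0 i) _ _ _ (h2_row i j l hij hjl hil).1 (h2_row i l j hil hjl.symm hij).1
    (h2_row i j l hij hjl hil).2).trans (by rw [map_mul]; group)

omit [Finite G] in
theorem H2Add.col {k : G} (h3 : H2Add ι k E3) {i j l : Fin 4} (hij : i ≠ j) (hjl : j ≠ l) (hil : i ≠ l) :
    ι (nn i l) * k * (ι (nn i l))⁻¹ * (ι (nn j l) * k * (ι (nn j l))⁻¹) =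
      ι (x i j) * (ι (nn j l) * k * (ι (nn j l))⁻¹) * (ι (x i j))⁻¹ :=
  (h3.cj (h2sw 3 l) _ _ _ (h2_col i j l hij hjl hil).1 (h2_col j i l hij.symm hil hjl).1
    (h2_col i j l hij hjl hil).2).trans (by rw [map_mul]; group)

section
variable (F : Fr ι t) {k : G} (h : Kp ι t z k) (hc : CO ι t k) (h1 : H2Add ι k E1) (h3 : H2Add ι k E3)
include F h hc h1 h3

/-- orthogonal roots -/
theorem Fr.ort' : ι (nn 0 3) * k * (ι (nn 0 3))⁻¹ * (ι (nn 1 2) * k * (ι (nn 1 2))⁻¹) =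
    ι (nn 1 2) * k * (ι (nn 1 2))⁻¹ * (ι (nn 0 3) * k * (ι (nn 0 3))⁻¹) := by
  have p03 := h2_kp F.toFr0 h (i := 0) (j := 3) (by decide)
  have p12 := h2_kp F.toFr0 h (i := 1) (j := 2) (by decide)
  have p02 := h2_kp F.toFr0 h (i := 0) (j := 2) (by decide)
  have p13 := h2_kp F.toFr0 h (i := 1) (j := 3) (by decide)
  have o03 := CO.conj hc (nn 0 3)
  -- additivity
  have r0 := h1.cj 1 (nn 0 3) (nn 0 2) (x 3 2 * nn 0 3) (by decide +kernel) (by decide +kernel)
    (by decide +kernel)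
  have r1 := h1.cj (x 0 1 * x 1 0 * x 0 1) (nn 1 2) (nn 1 3) (x 2 3 * nn 1 2) (by decide +kernel)
    (by decide +kernel) (by decide +kernel)
  have s2 := h3.cj (x 2 3 * x 3 2 * x 2 3) (nn 0 2) (nn 1 2) (x 0 1 * nn 1 2) (by decide +kernel)
    (by decide +kernel) (by decide +kernel)
  have s3 := h3.cj 1 (nn 0 3) (nn 1 3) (x 0 1 * nn 1 3) (by decide +kernel)
    (by decide +kernel) (by decide +kernel)
  have c0 := h2_comm p03.sq p02.sq (by rw [r0]; exact h2_csq h.sq)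
  have c1 := h2_comm p12.sq p13.sq (by rw [r1]; exact h2_csq h.sq)
  have c2 := h2_comm p02.sq p12.sq (by rw [s2]; exact h2_csq h.sq)
  have c3 := h2_comm p03.sq p13.sq (by rw [s3]; exact h2_csq h.sq)
  have r0' : ι (x 3 2) * (ι (nn 0 3) * k * (ι (nn 0 3))⁻¹) * (ι (x 3 2))⁻¹ = _ :=
    Eq.trans (by rw [map_mul]; group) r0.symm
  have r1' : ι (x 2 3) * (ι (nn 1 2) * k * (ι (nn 1 2))⁻¹) * (ι (x 2 3))⁻¹ = _ :=
    Eq.trans (by rw [map_mul]; group) r1.symm
  clear r0 r1 s2 s3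
  generalize ι (nn 0 3) * k * (ι (nn 0 3))⁻¹ = A at *
  generalize ι (nn 1 2) * k * (ι (nn 1 2))⁻¹ = B at *
  generalize ι (nn 0 2) * k * (ι (nn 0 2))⁻¹ = C at *
  generalize ι (nn 1 3) * k * (ι (nn 1 3))⁻¹ = D at *
  have f1 := h2_fix1 r0' (p12.ce (x 3 2) (by decide +kernel)) c0 c2 p02.sq
  have f2 := h2_fix2 (p03.ce (x 2 3) (by decide +kernel)) r1' c3.symm c1 p13.sq
  have wt : A * B * A * B * t = t * (A * B * A * B) := by
    have tA := p03.h2_t F.toFr0
    have tB := p12.h2_t F.toFr0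
    have a1 : Commute A (ι (x 0 3)) := p03.ce _ rfl
    have a2 : Commute A (ι (x 1 2)) := p03.ce _ (by decide +kernel)
    have b1 : Commute B (ι (x 0 3)) := p12.ce _ (by decide +kernel)
    have b2 : Commute B (ι (x 1 2)) := p12.ce _ rfl
    have e : ι (x 0 3) * ι (x 1 2) * ι (x 0 3) * ι (x 1 2) = 1 := by
      simp only [← map_mul]
      rw [show x 0 3 * x 1 2 * x 0 3 * x 1 2 = 1 by decide +kernel, map_one]
    symm
    calc t * (A * B * A * B) = (t * A * t⁻¹) * (t * B * t⁻¹) * (t * A * t⁻¹) * (t * B * t⁻¹) * t := by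
          group
      _ = A * B * A * B * (ι (x 0 3) * ι (x 1 2) * ι (x 0 3) * ι (x 1 2)) * t := by
          rw [tA, tB]
          simp only [mul_assoc, a1.symm.left_comm, a2.symm.left_comm, b1.symm.left_comm,
            b2.symm.left_comm]
      _ = _ := by rw [e, mul_one]
  obtain ⟨p, hp⟩ := F.aut _ wt
  have hpE : p ∈ E8 := by
    intro a ha
    simp only [List.mem_cons, List.not_mem_nil, or_false, Set.mem_setOf_eq] at ha
    rcases ha with rfl | rfl | rfl | rfl <;>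
      exact h2_cen F.inj hp (h2_com4 (p03.ce _ (by decide +kernel)) (p12.ce _ (by decide +kernel)))
  obtain ⟨e, rfl, e2, e3, e4⟩ := h2_E8 hpE
  have hw := F.h2_inv p03 o03 (by decide +kernel) wt hp e2 e3 (h2_inv4 p03.sq p12.sq)
  rw [hw, ← map_mul, ← map_mul] at f1 f2
  rw [e4 (F.inj f1) (F.inj f2), map_one] at hw
  exact h2_comm p03.sq p12.sq (by rw [← hw]; simp only [mul_assoc])

/-- the structure constant -/
theorem Fr.cst' : ∃ c < 2, ι (nn 0 2) * k * (ι (nn 0 2))⁻¹ * (ι (nn 2 3) * k * (ι (nn 2 3))⁻¹) *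
    (ι (nn 0 2) * k * (ι (nn 0 2))⁻¹) * (ι (nn 2 3) * k * (ι (nn 2 3))⁻¹) =
    ι (nn 0 3) * k * (ι (nn 0 3))⁻¹ * ι z ^ c := by
  have p03 := h2_kp F.toFr0 h (i := 0) (j := 3) (by decide)
  have p02 := h2_kp F.toFr0 h (i := 0) (j := 2) (by decide)
  have p23 := h2_kp F.toFr0 h (i := 2) (j := 3) (by decide)
  have o02 := CO.conj hc (nn 0 2)
  have r0 := h1.cj 1 (nn 0 2) (nn 0 3) (x 2 3 * nn 0 2) (by decide +kernel) (by decide +kernel)
    (by decide +kernel)
  have s3 := h3.cj 1 (nn 2 3) (nn 0 3) (x 0 2 * nn 2 3) (by decide +kernel) (by decide +kernel)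
    (by decide +kernel)
  have c0 := h2_comm p02.sq p03.sq (by rw [r0]; exact h2_csq h.sq)
  have c3 := h2_comm p23.sq p03.sq (by rw [s3]; exact h2_csq h.sq)
  have r0' : ι (x 2 3) * (ι (nn 0 2) * k * (ι (nn 0 2))⁻¹) * (ι (x 2 3))⁻¹ = _ :=
    Eq.trans (by rw [map_mul]; group) r0.symm
  have s3' : ι (x 0 2) * (ι (nn 2 3) * k * (ι (nn 2 3))⁻¹) * (ι (x 0 2))⁻¹ = _ :=
    Eq.trans (by rw [map_mul]; group) s3.symm
  clear r0 s3
  generalize ι (nn 0 3) * k * (ι (nn 0 3))⁻¹ = C at *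
  generalize ι (nn 0 2) * k * (ι (nn 0 2))⁻¹ = A at *
  generalize ι (nn 2 3) * k * (ι (nn 2 3))⁻¹ = B at *
  have cA : Commute A C := c0
  have cB : Commute B C := c3
  have cw : Commute (A * B * A * B) C := ((cA.mul_left cB).mul_left cA).mul_left cB
  have f1 := h2_fix1 r0' (p23.ce (x 2 3) rfl) cA cB.symm p03.sq
  have f2 := h2_fix2 (p02.ce (x 0 2) rfl) s3' cA.symm cB p03.sq
  have ut : A * B * A * B * C * t = t * (A * B * A * B * C) := by
    have tA := p02.h2_t F.toFr0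
    have tB := p23.h2_t F.toFr0
    have tC := p03.h2_t F.toFr0
    have a1 : Commute A (ι (x 0 2)) := p02.ce _ rfl
    have b1 : Commute B (ι (x 0 2 * x 2 3 * x 0 2)) := p23.ce _ (by decide +kernel)
    have d1 : Commute C (ι (x 0 2)) := p03.ce _ (by decide +kernel)
    have d3 : Commute C (ι (x 0 3)) := p03.ce _ rfl
    have m1 : ι (x 0 2) * B = B * C * ι (x 0 2) := by rw [← s3', inv_mul_cancel_right]
    have m2 : ι (x 2 3) * A = A * C * ι (x 2 3) := by rw [← r0', inv_mul_cancel_right]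
    have e : ι (x 0 2 * x 2 3 * x 0 2) * ι (x 2 3) = ι (x 0 3) := by
      rw [← map_mul, show x 0 2 * x 2 3 * x 0 2 * x 2 3 = x 0 3 by decide +kernel]
    have e3 : ι (x 0 3) * ι (x 0 3) = 1 := by rw [← map_mul, x_sq, map_one]
    symm
    calc t * (A * B * A * B * C) = (t * A * t⁻¹) * (t * B * t⁻¹) * (t * A * t⁻¹) * (t * B * t⁻¹) *
          (t * C * t⁻¹) * t := by group
      _ = A * (ι (x 0 2) * B) * (ι (x 2 3) * A) * ι (x 0 2) * B * ι (x 2 3) * C * ι (x 0 3) * t := by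
          rw [tA, tB, tC]; simp only [mul_assoc]
      _ = A * B * C * (ι (x 0 2) * (A * C)) * ι (x 2 3) * ι (x 0 2) * B * ι (x 2 3) * C *
          ι (x 0 3) * t := by rw [m1, m2]; simp only [mul_assoc]
      _ = A * B * (C * A) * C * (ι (x 0 2 * x 2 3 * x 0 2) * B) * ι (x 2 3) * C * ι (x 0 3) * t := by
          rw [← (a1.mul_left d1).eq, map_mul, map_mul]; simp only [mul_assoc]
      _ = A * B * A * (C * C) * B * (ι (x 0 2 * x 2 3 * x 0 2) * ι (x 2 3) * C) * ι (x 0 3) * t := by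
          rw [← cA.eq, ← b1.eq]; simp only [mul_assoc]
      _ = A * B * A * B * C * (ι (x 0 3) * ι (x 0 3)) * t := by
          rw [p03.sq, e, ← d3.eq]; simp only [mul_assoc, one_mul]
      _ = _ := by rw [e3, mul_one]
  obtain ⟨p, hp⟩ := F.aut _ ut
  have key : ∀ a : A8, a * x 0 3 = x 0 3 * a → A * B * A * B * ι a = ι a * (A * B * A * B) →
      (a : S8) * p = p * a := fun a ha hw => h2_cen F.inj hp (by
    have c1 : Commute (A * B * A * B) (ι a) := hw
    have c2 : Commute C (ι a) := p03.ce a ha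
    exact (c1.mul_left c2).eq)
  have hpQ : p ∈ cen [x 0 1, x 0 2, x 1 3, x 2 3] := by
    intro a ha
    simp only [List.mem_cons, List.not_mem_nil, or_false, Set.mem_setOf_eq] at ha
    rcases ha with rfl | rfl | rfl | rfl
    · exact key _ (by decide +kernel)
        (h2_com4 (p02.ce _ (by decide +kernel)) (p23.ce _ (by decide +kernel)))
    · exact key _ (by decide +kernel) f2.symm
    · exact key _ (by decide +kernel)
        (h2_com4 (p02.ce _ (by decide +kernel)) (p23.ce _ (by decide +kernel)))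
    · exact key _ (by decide +kernel) f1.symm
  have hi : A * (A * B * A * B * C) * A * (A * B * A * B * C) = 1 := by
    calc A * (A * B * A * B * C) * A * (A * B * A * B * C)
        = A * (A * B * A * B) * (C * A) * (A * B * A * B * C) := by simp only [mul_assoc]
      _ = A * (A * B * A * B) * A * (C * (A * B * A * B)) * C := by
          rw [← cA.eq]; simp only [mul_assoc]
      _ = A * (A * B * A * B) * A * (A * B * A * B) * (C * C) := by
          rw [← cw.eq]; simp only [mul_assoc]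
      _ = 1 := by rw [h2_inv4 p02.sq p23.sq, p03.sq, mul_one]
  have fin : ∀ a : A8, A * B * A * B * C = ι a → a * x 0 3 = x 0 3 * a → A * B * A * B = C * ι a := by
    intro a ha h5
    rw [p03.ce a h5, ← ha, mul_assoc _ C C, p03.sq, mul_one]
  rcases cen_Q hpQ with rfl | rfl
  · refine ⟨0, by norm_num, ?_⟩
    have hw := F.h2_inv (a := 1) p02 o02 (by decide +kernel) ut hp (by simp) (by simp) hi
    rw [fin 1 hw (by simp), map_one, pow_zero]
  · refine ⟨1, by norm_num, ?_⟩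
    have hw := F.h2_inv (a := z) p02 o02 (by decide +kernel) ut hp (x_sq 0 3) (by decide +kernel) hi
    rw [fin z hw rfl, pow_one]

theorem Fr.hats' : ∃ c < 2, Hats ι t (fun i j => ι (nn i j) * k * (ι (nn i j))⁻¹) c := by
  obtain ⟨c, hc2, hcst⟩ := F.cst' h hc h1 h3
  have hort := F.ort' h hc h1 h3
  have sq : ∀ n : A8, ι n * k * (ι n)⁻¹ * (ι n * k * (ι n)⁻¹) = 1 := fun n => h2_csq h.sq
  have xi : ∀ i j, (ι (x i j))⁻¹ = ι (x i j) := fun i j =>
    inv_eq_of_mul_eq_one_right (by rw [← map_mul, x_sq, map_one])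
  refine ⟨c, hc2, fun i j hij => h2_kp F.toFr0 h hij, fun i j _ => CO.conj hc _, fun i j _ => ?_,
    fun i j i' j' a1 a2 a3 a4 => ?_, fun i j l hij hjl hil => ?_, fun i j l hij hjl hil => ?_,
    fun i j l hij hjl hil => ?_⟩
  · simp only [nn03, map_one, one_mul, inv_one, mul_one]
  · by_cases e1 : i = i'
    · subst e1
      by_cases e2 : j = j'
      · rw [e2]
      · exact h2_comm (sq _) (sq _) (by rw [h1.row a1 e2 a2]; exact h2_csq (sq _))
    · by_cases e2 : j = j'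
      · subst e2
        exact h2_comm (sq _) (sq _) (by rw [h3.col e1 a2 a1]; exact h2_csq (sq _))
      · obtain ⟨a, b, e3, e4⟩ := h2_quad i j i' j' a1 a2 a3 a4 e1 e2
        rw [← h2_conj h _ (by decide) a1 e3, ← h2_conj h _ (by decide) a2 e4]
        generalize ι (nn 0 3) * k * (ι (nn 0 3))⁻¹ = A at *
        generalize ι (nn 1 2) * k * (ι (nn 1 2))⁻¹ = B at *
        generalize ι (h2sw 0 i * h2sw 3 a * h2sw 1 b) = m
        calc m * A * m⁻¹ * (m * B * m⁻¹) = m * (A * B) * m⁻¹ := by group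
          _ = _ := by rw [hort]; group
  · have e := h1.row hij hjl hil
    rw [xi] at e
    have s1 := sq (nn i j)
    generalize ι (nn i j) * k * (ι (nn i j))⁻¹ = A at *
    calc A * ι (x j l) * A * ι (x j l) = A * (ι (x j l) * A * ι (x j l)) := by simp only [mul_assoc]
      _ = _ := by rw [← e, ← mul_assoc, s1, one_mul]
  · have e := h3.col hij hjl hil
    rw [xi] at e
    have s1 := sq (nn j l)
    rw [← e, mul_assoc, s1, mul_one]
  · obtain ⟨a, b, e3, e4, e5⟩ := h2_tri i j l hij hjl hil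
    rw [← h2_conj h _ (by decide) hij e3, ← h2_conj h _ (by decide) hjl e4,
      ← h2_conj h _ (by decide) hil e5, ← e5, map_mul _ _ (_ : A8)⁻¹, map_mul _ _ (x 0 3), map_inv,
      conj_pow]
    generalize ι (nn 0 3) * k * (ι (nn 0 3))⁻¹ = C at *
    generalize ι (nn 0 2) * k * (ι (nn 0 2))⁻¹ = A at *
    generalize ι (nn 2 3) * k * (ι (nn 2 3))⁻¹ = B at *
    generalize ι (h2sw 0 i * h2sw 2 a * h2sw 3 b) = m
    calc m * A * m⁻¹ * (m * B * m⁻¹) * (m * A * m⁻¹) * (m * B * m⁻¹) = m * (A * B * A * B) * m⁻¹ := by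
          group
      _ = _ := by rw [hcst]; group

end

end CfsgLib.A8S
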