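import Cfsg.Agent.Lib.A8S.PrU

/-!
# PRD: the product case is impossible (plans/A8S.md)
-/

set_option autoImplicit false
set_option linter.unusedSectionVars false
set_option Elab.async false

namespace CfsgLib.A8S

open Subgroup Cfsg CfsgLib.Tech CfsgLib.W2 CfsgLib.Classical
open scoped Pointwise

universe u

variable {G : Type u} [Group G] [Finite G] {ι : A8 →* G} {t : G} {K : Subgroup G}

theorem prd_el {X : Subgroup S8} (hX : X = E1 ∨ X = E3) : El X ∧ X ≤ PG.alt 8 ∧ X ≤ W8 := by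
  rcases hX with rfl | rfl
  exacts [⟨el_E1.1, el_E1.2.2⟩, ⟨el_E3.1, el_E3.2.2⟩]

theorem prd_sq {X : Subgroup S8} (h : El X) {a : A8} (ha : (a : S8) ∈ X) : a * a = 1 :=
  Subtype.ext (h _ ha)

theorem prd_comm {X : Subgroup S8} (h : El X) {a b : A8} (ha : (a : S8) ∈ X) (hb : (b : S8) ∈ X) :
    a * b = b * a := Subtype.ext (h.comm ha hb)

theorem prd_el_img {X : Subgroup S8} (h : El X) : El (img ι X) := by
  rintro _ ⟨a, ha, rfl⟩
  rw [← map_mul, prd_sq h ha, map_one]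

theorem prd_cen {X : Subgroup S8} (hX : X = E1 ∨ X = E3) {p : S8}
    (h : ∀ e : A8, (e : S8) ∈ X → cA p e = e) : p ∈ X := by
  have key : ∀ e : A8, (e : S8) ∈ X → (e : S8) * p = p * e := fun e he =>
    (mul_inv_eq_iff_eq_mul.1 (congrArg Subtype.val (h e he))).symm
  rcases hX with rfl | rfl
  · refine mem_cen.2 fun a ha => ?_
    simp only [List.mem_cons, List.not_mem_nil, or_false] at ha
    rcases ha with rfl | rfl | rfl <;> exact key _ (by decide +kernel)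
  · refine mem_cen.2 fun a ha => ?_
    simp only [List.mem_cons, List.not_mem_nil, or_false] at ha
    rcases ha with rfl | rfl | rfl <;> exact key _ (by decide +kernel)

theorem prd_top {φ : A8 →* G} {M : Subgroup G} (hn : ∀ l a, φ a ∈ M → φ (l * a * l⁻¹) ∈ M)
    (hz : φ z ∈ M) : φ.range ≤ M := by
  have hN : (M.comap φ).Normal := ⟨fun a ha l => hn l a ha⟩
  have := simple_A8
  rcases hN.eq_bot_or_eq_top with h | h
  · exact absurd (mem_bot.1 (h.le (show z ∈ M.comap φ from hz))) (x_ne 0 3 (by decide))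
  · rintro _ ⟨a, rfl⟩
    exact h.ge (mem_top a)

theorem prd_n1 {m : A8} (h : NE m) : ι m ∈ normalizer (img ι E1 : Set G) :=
  mem_normalizer_fintype (by
    rintro _ ⟨e, he, rfl⟩
    exact ⟨m * e * m⁻¹, h e he, by rw [map_mul, map_mul, map_inv]⟩)

theorem prd_n3 {m : A8} (h : NE (cA τ m)) : ι m ∈ normalizer (img ι E3 : Set G) :=
  mem_normalizer_fintype (by
    rintro _ ⟨e, he, rfl⟩
    have h1 := h (cA τ e) (τ_E1.2 he)
    rw [← cH_apply, ← cH_apply, ← map_inv, ← map_mul, ← map_mul, cH_apply] at h1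
    exact ⟨m * e * m⁻¹, τ_E1.1 h1, by rw [map_mul, map_mul, map_inv]⟩)

theorem prd_even (hi : Function.Injective ι) {g : G} {a : A8} (h : Ac ι g a) :
    g ∈ ι.range ⊔ centralizer (ι.range : Set G) := by
  rw [← mul_inv_cancel_left (ι a) g]
  exact Subgroup.mul_mem _ (mem_sup_left ⟨a, rfl⟩) (mem_sup_right (CL_iff.1 (h.cl (ac_i a))))

namespace Prd

variable {ι₁ ι₂ : A8 →* G} (d : Prd ι t ι₁ ι₂) (F : Fr ι t)
include d F

theorem conj_t (a b : A8) :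
    ι₁ a * ι₂ b * t * (ι₁ a * ι₂ b)⁻¹ = t * (ι₁ (b * a⁻¹) * ι₂ (a * b⁻¹)) := by
  have ti : t⁻¹ = t := inv_eq_of_mul_eq_one_right F.t2
  have h1 : ι₁ a * t = t * ι₂ a := by
    rw [← (d.symm F).swp a, ti, mul_assoc, F.t2, mul_one]
  have h2 : ι₂ b * t = t * ι₁ b := by
    rw [← d.swp b, ti, mul_assoc, F.t2, mul_one]
  rw [mul_assoc (ι₁ a), h2, ← mul_assoc, h1, mul_inv_rev, ← map_inv, ← map_inv, map_mul, map_mul,
    mul_assoc, mul_assoc, ← mul_assoc (ι₂ a), ← d.com, ← d.com a⁻¹, mul_assoc, mul_assoc,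
    ← mul_assoc (ι₂ a), ← d.com, mul_assoc]

theorem conj_one {a : A8} (h : a * a = 1) : ι₁ a * t * (ι₁ a)⁻¹ = t * ι a := by
  have := d.conj_t F a 1
  rwa [map_one, mul_one, one_mul, inv_one, mul_one, inv_eq_of_mul_eq_one_right h, ← d.dia] at this

theorem conj_i (l a : A8) : ι l * ι₁ a * (ι l)⁻¹ = ι₁ (l * a * l⁻¹) := by
  rw [d.dia, mul_assoc (ι₁ l), ← d.com, map_mul, map_mul, map_inv]
  group

theorem comm_i {a b : A8} (h : a * b = b * a) : ι b * ι₁ a = ι₁ a * ι b := by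
  rw [← mul_inv_eq_iff_eq_mul, d.conj_i F, ← h, mul_inv_cancel_right]

theorem hat {a : A8} (ha : (a : S8) ∈ E1 ∨ (a : S8) ∈ E3) (a1 : a ≠ 1) :
    UFP.Hat t (img ι W8) (ι a) := by
  obtain ⟨X, hX, haX⟩ : ∃ X, (X = E1 ∨ X = E3) ∧ (a : S8) ∈ X :=
    ha.elim (fun h => ⟨_, .inl rfl, h⟩) fun h => ⟨_, .inr rfl, h⟩
  obtain ⟨e1, e2, e3⟩ := prd_el hX
  refine ⟨ι₁ a, img ι X, (d.conj_one F (prd_sq e1 haX)).symm, i_mem_img haX, ?_, ?_,
    fun V hV h1 h2 v hv => ?_⟩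
  · rintro _ ⟨b, hb, rfl⟩
    exact i_mem_img (e3 hb)
  · rintro _ ⟨b, hb, rfl⟩
    exact mem_Cx.2 (d.comm_i F (prd_comm e1 haX hb))
  obtain ⟨π, hπ⟩ := F.toFr0.exists_π
  have hY : (V.subgroupOf (Cx t)).map π = ⊥ := by
    refine odd_norm hX (hV.of_dvd_nat ((card_map_dvd _ _).trans ?_)) fun e he => ?_
    · rw [Nat.card_congr (subgroupOfEquivOfLe h1).toEquiv]
    · refine mem_normalizer_fintype ?_
      rintro _ ⟨w, hw, rfl⟩
      have c : ι ⟨e, e2 he⟩ ∈ Cx t := mem_Cx.2 (F.tC _).symm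
      have e4 : π ⟨_, c⟩ = e := (hπ ⟨_, c⟩).unique F.inj (ac_i ⟨e, e2 he⟩)
      refine ⟨⟨_, c⟩ * w * (⟨_, c⟩ : Cx t)⁻¹, UFP.conj_mem (h2 (i_mem_img he)) hw, ?_⟩
      rw [map_mul, map_mul, map_inv, e4]
  have h3 : π ⟨v, h1 hv⟩ = 1 := mem_bot.1 (hY.le ⟨⟨v, h1 hv⟩, hv, rfl⟩)
  have h4 := hπ ⟨v, h1 hv⟩
  rw [h3] at h4
  exact mem_Cx.2 (ac_one_iff.1 h4 a)

theorem ac1 (a b : A8) : Ac ι₁ (ι₁ a * ι₂ b) a := by
  have := (ac_i a).mul (ac_one_iff.2 (show CL ι₁ (ι₂ b) from fun c => (d.com c b).symm))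
  rwa [mul_one] at this

theorem cen0 {c : G} (h1 : CL ι₁ c) (h2 : CL ι₂ c) :
    c ∈ centralizer ((ι₁.range ⊔ ι₂.range : Subgroup G) : Set G) := UFP.mem_cent.2 fun e he => by
  obtain ⟨a, b, rfl⟩ := (d.mem_G0 F).1 he
  rw [mul_assoc, ← h2, ← mul_assoc, ← h1, mul_assoc]

theorem idx {g : G} (hg : g ∈ normalizer ((ι₁.range ⊔ ι₂.range : Subgroup G) : Set G)) :
    (cj g ι₁.range = ι₁.range ∧ cj g ι₂.range = ι₂.range) ∨
      cj (g * t) ι₁.range = ι₁.range ∧ cj (g * t) ι₂.range = ι₂.range :=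
  (d.perm F hg).imp_right fun h => by
    rw [cj_mul, cj_mul, d.conj_range F, (d.symm F).conj_range F]
    exact h.symm

theorem iso {X : Subgroup S8} (hX : X = E1 ∨ X = E3) :
    UFP.Iso (normalizer ((ι₁.range ⊔ ι₂.range : Subgroup G) : Set G)) t (img ι X) := by
  intro m hm hc P hP h1 h2 h3
  obtain ⟨e1, e2, -⟩ := prd_el hX
  obtain ⟨n, ⟨n1, n2⟩, e, hn⟩ : ∃ n, (cj n ι₁.range = ι₁.range ∧ cj n ι₂.range = ι₂.range) ∧
      m * t * m⁻¹ = n * t * n⁻¹ ∧ ∀ a : A8, (a : S8) ∈ X → n * ι a = ι a * n := by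
    have h4 : ∀ a : A8, (a : S8) ∈ X → m * ι a = ι a * m := fun a ha =>
      (UFP.mem_cent.1 hc _ (i_mem_img ha)).symm
    rcases d.idx F hm with h | h
    · exact ⟨m, h, rfl, h4⟩
    · exact ⟨m * t, h, by group, fun a ha => by
        rw [mul_assoc, F.tC, ← mul_assoc, h4 a ha, mul_assoc]⟩
  obtain ⟨p, hp⟩ := ac_of_norm d.inj (mem_normalizer_iff_cj.2 n1)
  obtain ⟨q, hq⟩ := ac_of_norm (d.symm F).inj (mem_normalizer_iff_cj.2 n2)
  have key : ∀ a : A8, (a : S8) ∈ X → cA p a = a ∧ cA q a = a := fun a ha => d.uniq F (by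
    rw [← hp, ← hq, ← d.dia, ← mul_inv_eq_iff_eq_mul.2 (hn a ha), d.dia]; group)
  have pX := prd_cen hX fun a ha => (key a ha).1
  have qX := prd_cen hX fun a ha => (key a ha).2
  obtain ⟨a, rfl⟩ : ∃ a : A8, (a : S8) = p := ⟨⟨p, e2 pX⟩, rfl⟩
  obtain ⟨b, rfl⟩ : ∃ b : A8, (b : S8) = q := ⟨⟨q, e2 qX⟩, rfl⟩
  have c1 : (ι₁ a * ι₂ b)⁻¹ * n ∈ centralizer ((ι₁.range ⊔ ι₂.range : Subgroup G) : Set G) :=
    d.cen0 F (hp.cl (d.ac1 F a b)) (hq.cl (d.com a b ▸ (d.symm F).ac1 F b a))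
  have c2 := Subgroup.mul_mem _ c1 (UFP.conj_mem
    (Core.normalizer_le_normalizer_centralizer _ (d.uu F).mem) (Subgroup.inv_mem _ c1))
  have ab : ι (a * b) ∈ img ι X := i_mem_img (X.mul_mem pX qX)
  have e5 : m * t * m⁻¹ = (ι₁ a * ι₂ b)⁻¹ * n * (t * ((ι₁ a * ι₂ b)⁻¹ * n)⁻¹ * t⁻¹) *
      (t * ι (a * b)) := by
    have h5 := d.conj_t F a b
    rw [inv_eq_of_mul_eq_one_right (prd_sq e1 pX), inv_eq_of_mul_eq_one_right (prd_sq e1 qX),
      ← prd_comm e1 pX qX, ← d.dia] at h5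
    rw [e, ← h5, ← mul_assoc _ _ (_)⁻¹, ← mul_assoc _ _ t,
      ← UFP.mem_cent.1 c2 _ ((d.mem_G0 F).2 ⟨a, b, rfl⟩)]
    group
  have h6 := SLE.eq_one_of_odd' hP (d.odd_cen F) (by
    rw [e5] at h3; exact (P.mul_mem_cancel_right (P.mul_mem h2 (h1 ab))).1 h3) c2
  rw [e5, h6, one_mul, inv_mul_cancel_left]
  exact ab

theorem uw : UFP.UW (normalizer ((ι₁.range ⊔ ι₂.range : Subgroup G) : Set G)) t (img ι W8) := by
  obtain ⟨E, hE⟩ : ∃ E : Bool → Subgroup S8, E = fun i => cond i E1 E3 := ⟨_, rfl⟩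
  have hX : ∀ i, E i = E1 ∨ E i = E3 := fun i => by subst hE; cases i; exacts [.inr rfl, .inl rfl]
  have hz : (z : S8) ∈ E1 ⊓ E3 := mem_inf.2 ⟨by decide +kernel, by decide +kernel⟩
  have cl : ∀ a : A8, (a : S8) ∈ E1 ∨ (a : S8) ∈ E3 →
      ι a ∈ closure {g | ∃ a : A8, ((a : S8) ∈ E1 ∨ (a : S8) ∈ E3) ∧ a ≠ 1 ∧ g = ι a} := fun a ha => by
    by_cases h : a = 1
    · rw [h, map_one]; exact one_mem _
    · exact subset_closure ⟨a, ha, h, rfl⟩
  have l1 : ι₁.range ≤ ι.range ⊔ img ι₁ (E1 ⊓ E3) := prd_top (fun l a ha => by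
    rw [← d.conj_i F]
    exact Subgroup.mul_mem _ (Subgroup.mul_mem _ (mem_sup_left ⟨l, rfl⟩) ha)
      (Subgroup.inv_mem _ (mem_sup_left ⟨l, rfl⟩))) (mem_sup_right (i_mem_img hz))
  refine UFP.UWData.uw (L := ι.range) (Zh := img ι₁ (E1 ⊓ E3))
    (X := {g | ∃ a : A8, ((a : S8) ∈ E1 ∨ (a : S8) ∈ E3) ∧ a ≠ 1 ∧ g = ι a})
    (R := fun i => img ι (E i)) (P := fun i => ι.range ⊓ normalizer (img ι (E i) : Set G))
    ⟨⟨true⟩, ?_, ?_, fun i => ?_, fun i => inf_le_left, ?_, fun M hM h => ?_, fun i => ?_,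
      fun i => (prd_el_img (prd_el (hX i)).1).pg, fun i => inf_le_right, fun i => ?_,
      fun i => d.iso F (hX i), fun i => ?_, ?_, UFP.fin_of (fun M hM h => ?_) ?_⟩ (d.uu F)
  · rintro _ ⟨a, ha, a1, rfl⟩
    exact d.hat F ha a1
  · rintro _ ⟨a, rfl⟩
    exact mem_Cx.2 (F.tC a).symm
  · rintro _ ⟨a, ha, rfl⟩
    have h1 : a * z = z * a := Subtype.ext (mem_W8.1 ha).1.symm
    refine ⟨⟨a, rfl⟩, ?_⟩
    subst hE
    cases i
    · refine prd_n3 (NE_of_z ?_)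
      rw [← show cA τ z = z from τ_x 0 3, ← cH_apply, ← cH_apply, ← map_mul, ← map_mul, h1]
    · exact prd_n1 (NE_of_z h1)
  · rintro _ ⟨a, rfl⟩
    subst hE
    have := gen_par (S := (⨆ i : Bool, ι.range ⊓ normalizer (img ι (cond i E1 E3) : Set G)).comap ι)
      (fun m hm => mem_iSup_of_mem true ⟨⟨m, rfl⟩, prd_n1 hm⟩)
      fun m hm => mem_iSup_of_mem false ⟨⟨m, rfl⟩, prd_n3 hm⟩
    exact this.ge (mem_top a)
  · refine prd_top (fun l a ha => ?_) (h _ ⟨z, .inl hz.1, x_ne 0 3 (by decide), rfl⟩)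
    rw [map_mul, map_mul, map_inv]
    exact UFP.conj_mem (hM ⟨l, rfl⟩) ha
  · rintro _ ⟨a, ha, rfl⟩
    exact cl a ((hX i).imp (fun h => h.le ha) fun h => h.le ha)
  · rintro ⟨a, -, ha⟩
    exact F.toFr0.i_ne_t a ha
  · rintro _ ⟨a, ha, rfl⟩
    refine UFP.mem_cent.2 ?_
    rintro _ ⟨b, hb, rfl⟩
    refine d.comm_i F (prd_comm (prd_el (hX i)).1 ?_ hb)
    rcases hX i with h | h <;> rw [h]
    exacts [ha.1, ha.2]
  · rintro _ ⟨a, ha, rfl⟩
    rw [d.conj_one F (prd_sq el_E1.1 ha.1), inv_mul_cancel_left]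
    exact cl a (.inl ha.1)
  · refine (map_le_range _ _).trans (prd_top (φ := ι₁) (fun l a ha => ?_) ?_)
    · rw [map_mul, map_mul, map_inv]
      exact UFP.conj_mem (hM (l1 ⟨l, rfl⟩)) ha
    · have h1 := M.mul_mem (UFP.conj_mem (hM (l1 ⟨x 0 1, rfl⟩)) (h ⟨x 1 3, rfl⟩))
        (M.inv_mem (h ⟨x 1 3, rfl⟩))
      rwa [mul_assoc, mul_assoc, ← mul_assoc (ι _), ← map_inv, d.conj_i F, ← map_mul,
        show x 0 1 * (x 1 3 * (x 0 1)⁻¹ * (x 1 3)⁻¹) = z by decide +kernel] at h1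
  · refine (centralizer_le ?_).trans (centralizer_le_normalizer _)
    refine sup_le l1 ?_
    rintro _ ⟨a, rfl⟩
    rw [← inv_mul_cancel_left (ι₁ a) (ι₂ a), ← d.dia]
    exact Subgroup.mul_mem _ (Subgroup.inv_mem _ (l1 ⟨a, rfl⟩)) (mem_sup_left ⟨a, rfl⟩)

theorem ne : ι₁.range ≠ ι₂.range := fun h => by
  obtain ⟨b, hb⟩ : ι₁ z ∈ ι₂.range := h ▸ ⟨z, rfl⟩
  exact x_ne 0 3 (by decide) (d.uniq F (b := 1) (a' := 1) (b' := b)
    (by rw [map_one, map_one, mul_one, one_mul, hb])).1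

theorem c21 : ι₂.range ≤ centralizer (ι₁.range : Set G) := by
  rintro _ ⟨b, rfl⟩
  exact CL_iff.1 fun a => (d.com a b).symm

theorem false (g : SLE.Glob K t) : False := by
  have : Fact (Nat.Prime 2) := ⟨Nat.prime_two⟩
  have u := d.uu F
  have ht := d.not_mem F g
  have s1 : ι₁.range ≤ K := g.pf_le perf_range
  have s2 : ι₂.range ≤ K := g.pf_le perf_range
  have l1 : ι₁.range ≤ normalizer ((ι₁.range ⊔ ι₂.range : Subgroup G) : Set G) :=
    le_sup_left.trans le_normalizer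
  have l2 : ι₂.range ≤ normalizer ((ι₁.range ⊔ ι₂.range : Subgroup G) : Set G) :=
    le_sup_right.trans le_normalizer
  have U1 := syl_U d.inj
  have U2 := syl_U (d.symm F).inj
  have tn : t ∈ normalizer ((img ι₁ W8 ⊔ img ι₂ W8 : Subgroup G) : Set G) := by
    refine UFP.norm_sup ?_ ?_ <;> rintro _ ⟨a, ha, rfl⟩
    · exact mem_sup_right ⟨a, ha, (d.swp a).symm⟩
    · exact mem_sup_left ⟨a, ha, ((d.symm F).swp a).symm⟩
  obtain ⟨P, h0, h1, hP, syl⟩ := SLE.exists_syl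
    ((UFP.pgroup_zpowers_of_sq F.t2).to_sup_of_normal_right'
      (SLE.pg_sup_comm U1.pgroup U2.pgroup (by
        rintro _ ⟨a, -, rfl⟩ _ ⟨b, -, rfl⟩; exact d.com a b)) (zpowers_le.2 tn))
    (sup_le (zpowers_le.2 u.mem) (sup_le (U1.1.trans l1) (U2.1.trans l2)))
  have hU : img ι₁ W8 ≤ P := (le_sup_left.trans le_sup_right).trans h0
  have tP : t ∈ P := h0 (mem_sup_left (mem_zpowers t))
  have tN : t ∉ normalizer (ι₁.range : Set G) := fun h =>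
    d.ne F ((mem_normalizer_iff_cj.1 h).symm.trans (d.conj_range F))
  have e : MulAut.conj t • ι₁.range = ι₂.range := d.conj_range F
  have sw := UFP.swap_of F.t2 u.mem tN
    (fun n hn => (d.idx F hn).imp (fun h => mem_normalizer_iff_cj.2 h.1)
      fun h => mem_normalizer_iff_cj.2 h.1) (by
    rw [e]
    exact (d.odd_cen F).of_dvd_nat (card_dvd_of_le fun c hc =>
      d.cen0 F (CL_iff.2 hc.2.2) (CL_iff.2 hc.1.2)))
  rw [e] at sw
  have z1 : ι₁ z ≠ 1 := fun h => x_ne 0 3 (by decide) (d.inj (h.trans (map_one _).symm))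
  have hA : closure {x 0 2, x 1 3, x 0 3} ≤ E8.subgroupOf (PG.alt 8) := (closure_le _).2 (by
    rintro _ (rfl | rfl | rfl) <;> exact mem_subgroupOf.2 (by decide +kernel))
  have pl : UFP.PrdL (normalizer ((ι₁.range ⊔ ι₂.range : Subgroup G) : Set G))
      (normalizer ((ι₁.range ⊔ ι₂.range : Subgroup G) : Set G) ⊓ normalizer (ι₁.range : Set G))
      (normalizer ((ι₁.range ⊔ ι₂.range : Subgroup G) : Set G) ⊓ centralizer (ι₂.range : Set G))
      (normalizer ((ι₁.range ⊔ ι₂.range : Subgroup G) : Set G) ⊓ centralizer (ι₁.range : Set G))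
      P ι₁.range t := by
    refine ⟨sw, hP, h1, tP, fun h => tN h.2, syl, le_inf l1 ((d.symm F).c21 F), inf_le_right,
      inf_le_right, ⟨(closure {x 0 2, x 1 3, x 0 3}).map ι₁, ?_, fun w hw => ?_, ?_,
        _, ⟨x 0 2, subset_closure (.inl rfl), rfl⟩, _, ⟨x 0 3, subset_closure (.inr (.inr rfl)), rfl⟩,
        fun h => x_ne 0 2 (by decide) (d.inj (h.trans (map_one _).symm)), z1,
        fun h => absurd (d.inj h) (by decide +kernel)⟩, (d.uw F).mono (le_inf ?_ ?_)⟩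
    · rintro _ ⟨a, ha, rfl⟩
      exact ⟨hU (i_mem_img (el_E8.2.2.2 (hA ha))), a, rfl⟩
    · obtain ⟨p, hp⟩ := ac_of_norm d.inj hw.2.2
      refine mem_normalizer_fintype ?_
      rintro _ ⟨a, ha, rfl⟩
      exact ⟨_, W_Z2 (ac_W d.inj hP hU hw.1 hp) ha, (hp a).symm⟩
    · rintro _ ⟨a, ha, rfl⟩
      rw [← map_mul, prd_sq el_E8.1 (hA ha), map_one]
    · rintro _ ⟨a, ha, rfl⟩
      have h2 : ι₁ a ∈ P ⊓ ι₁.range := ⟨hU (i_mem_img ha), a, rfl⟩
      rw [d.dia, ← d.swp]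
      exact Subgroup.mul_mem _ (mem_sup_left h2) (mem_sup_right (Coprime.conj_mem_conj_smul h2))
    · rintro _ ⟨a, -, rfl⟩
      exact mem_Cx.2 (F.tC a).symm
  have h2 : K ≤ normalizer ((ι₁.range ⊔ ι₂.range : Subgroup G) : Set G) :=
    UFP.le_of_invol g.simple (s1 ⟨z, rfl⟩) z1 (by rw [← map_mul, x_sq, map_one]) fun v hv v2 => by
      refine pl.mem u (g.index ht) ht g.perf s1 (K := ι₁.range ⊔ centralizer (ι₁.range : Set G))
        le_sup_left (inf_le_right.trans le_sup_right) (fun a ha b hb h h' => ?_) (fun w hw h => ?_) hv v2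
      · obtain ⟨p, hp⟩ := ac_of_norm d.inj ha.2
        obtain ⟨q, hq⟩ := ac_of_norm d.inj hb.2
        exact prd_even d.inj (a := ⟨_, mul_odd (fun e => h (prd_even d.inj (a := ⟨p, e⟩) hp))
          fun e => h' (prd_even d.inj (a := ⟨q, e⟩) hq)⟩) (hp.mul hq)
      · obtain ⟨_, ⟨a, rfl⟩, c, hc, rfl⟩ :=
          SLE.mem_sup_comm (fun a ha b hb => UFP.mem_cent.1 hb a ha) h
        have h3 := (ac_i a).mul (ac_one_iff.2 (CL_iff.2 hc))
        rw [mul_one] at h3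
        have h4 : ι₁ a ∈ P := hU (i_mem_img (ac_W d.inj hP hU hw.1 h3))
        exact Subgroup.mul_mem _ (mem_sup_left ⟨h4, a, rfl⟩)
          (mem_sup_right ⟨(P.mul_mem_cancel_left h4).1 hw.1,
            (Subgroup.mul_mem_cancel_left _ (l1 ⟨a, rfl⟩)).1 hw.2.1, hc⟩)
  have e0 : ι₁.range ⊔ ι₂.range = K :=
    g.eq_of_norm (sup_le s1 s2) h2 (mem_sup_left ⟨z, rfl⟩) z1
  have z2 : ι₂ z ≠ 1 := fun h => x_ne 0 3 (by decide) ((d.symm F).inj (h.trans (map_one _).symm))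
  exact d.ne F ((g.eq_of_norm s1 (e0 ▸ sup_le le_normalizer
      ((d.c21 F).trans (centralizer_le_normalizer _))) ⟨z, rfl⟩ z1).trans
    (g.eq_of_norm s2 (e0 ▸ sup_le (((d.symm F).c21 F).trans (centralizer_le_normalizer _))
      le_normalizer) ⟨z, rfl⟩ z2).symm)

end Prd

end CfsgLib.A8S
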