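import Cfsg.Agent.Lib.A8S.Mod
import Cfsg.Agent.Lib.ClSys.SLPres
import Cfsg.Agent.Lib.Classical.SLBasic

/-!
# REL2: the field case `SL₄(4)` (plans/A8S.md)
-/

set_option autoImplicit false
set_option linter.unusedSectionVars false
set_option Elab.async false

namespace CfsgLib.A8S

open Subgroup Cfsg CfsgLib.Tech CfsgLib.W2 CfsgLib.Classical
open scoped commutatorElement

universe u

variable {G : Type u} [Group G] [Finite G] {ι : A8 →* G} {t : G} {K : Subgroup G}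

theorem rel2_tv {i j : Fin 4} (h : i ≠ j) (u : GF4) :
    tv i j u = Matrix.SpecialLinearGroup.transvection h u := dif_pos h

theorem tv_ext {M : Type*} [Group M] {f g : Γ →* M} (h : ∀ i j u, i ≠ j → f (tv i j u) = g (tv i j u)) :
    f = g := by
  ext m
  refine sl_transvection_induction (fun m => f m = g m) (by simp) (fun i j hij c => ?_)
    (fun A B h1 h2 => ?_) m
  · have := h i j c hij
    rwa [rel2_tv hij] at this
  · simp only [map_mul] at *
    rw [h1, h2]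

theorem rel2_center : center Γ = ⊥ := by
  rw [eq_bot_iff]
  intro A hA
  obtain ⟨r, h1, h2⟩ := Matrix.SpecialLinearGroup.mem_center_iff.1 hA
  have h3 : ∀ r : GF4, r ^ 4 = 1 → r = 1 := by decide
  rw [Fintype.card_fin] at h1
  rw [h3 r h1] at h2
  rw [mem_bot]
  exact Subtype.ext (by rw [← h2]; simp)

theorem rel2_simple : IsSimpleGroup Γ := by
  have h : IsSimpleGroup (Γ ⧸ center Γ) := psl_isSimpleGroup (ι := Fin 4) (F := GF4) (by simp)
  have e : Γ ⧸ center Γ ≃* Γ :=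
    (QuotientGroup.quotientMulEquivOfEq rel2_center).trans QuotientGroup.quotientBot
  exact e.symm.isSimpleGroup

theorem inj_Γ {M : Type*} [Group M] {f : Γ →* M} (h : f (tv 0 3 1) ≠ 1) : Function.Injective f := by
  have := rel2_simple
  rw [← MonoidHom.ker_eq_bot_iff]
  refine (f.normal_ker.eq_bot_or_eq_top).resolve_right fun e => h ?_
  exact MonoidHom.mem_ker.1 (e ▸ mem_top _)

theorem rel2_σ (i j : Fin 4) (u : GF4) : σΓ (tv i j u) = tv i j (star u) := by
  by_cases h : i ≠ j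
  · rw [rel2_tv h, rel2_tv h]
    refine Matrix.SpecialLinearGroup.ext _ _ fun a b => ?_
    simp only [σΓ, Matrix.SpecialLinearGroup.map_apply_coe, RingHom.mapMatrix_apply, Matrix.map_apply,
      Matrix.SpecialLinearGroup.transvection_coe, Matrix.add_apply, map_add, Matrix.one_apply,
      Matrix.single_apply, apply_ite (starRingEnd GF4), map_one, map_zero, starRingEnd_apply]
  · rw [tv, tv, dif_neg h, dif_neg h, map_one]

section
omit [Finite G]

/-- powers of an involution -/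
def rel2_e (a : G) (p : ZMod 2) : G := a ^ p.val

theorem rel2_cases (p : ZMod 2) : p = 0 ∨ p = 1 := by revert p; decide

theorem rel2_e0 (a : G) : rel2_e a 0 = 1 := by simp [rel2_e]

theorem rel2_e1 (a : G) : rel2_e a 1 = a := by
  rw [rel2_e, show (1 : ZMod 2).val = 1 from rfl, pow_one]

theorem rel2_add {a : G} (h : a * a = 1) (p q : ZMod 2) :
    rel2_e a (p + q) = rel2_e a p * rel2_e a q := by
  rcases rel2_cases p with rfl | rfl <;> rcases rel2_cases q with rfl | rfl <;>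
    simp only [zero_add, add_zero, rel2_e0, rel2_e1, one_mul, mul_one]
  rw [show (1 + 1 : ZMod 2) = 0 from rfl, rel2_e0, h]

theorem rel2_cm {a b : G} (h : Commute a b) (p q : ZMod 2) : Commute (rel2_e a p) (rel2_e b q) :=
  h.pow_pow _ _

theorem rel2_mul {a b : G} (h : Commute a b) (p : ZMod 2) :
    rel2_e (a * b) p = rel2_e a p * rel2_e b p := h.mul_pow _

theorem rel2_cj (g a : G) (p : ZMod 2) : g * rel2_e a p * g⁻¹ = rel2_e (g * a * g⁻¹) p := by
  rw [rel2_e, rel2_e, conj_pow]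

theorem rel2_com {a b c : G} (ha : a * a = 1) (hb : b * b = 1) (h : a * b * a * b = c) (p q : ZMod 2) :
    ⁅rel2_e a p, rel2_e b q⁆ = rel2_e c (p * q) := by
  rcases rel2_cases p with rfl | rfl <;> rcases rel2_cases q with rfl | rfl <;>
    simp only [mul_zero, rel2_e0, rel2_e1, mul_one, commutatorElement_one_left,
      commutatorElement_one_right]
  rw [commutatorElement_def, inv_eq_of_mul_eq_one_right ha, inv_eq_of_mul_eq_one_right hb, h]

theorem rel2_bil {a a' b b' : G} (h2 : Commute ⁅a, b'⁆ b) (h4 : Commute ⁅a', b'⁆ b)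
    (h3 : Commute ⁅a', b⁆ a) (h5 : Commute ⁅a', b'⁆ a) :
    ⁅a * a', b * b'⁆ = ⁅a', b⁆ * ⁅a', b'⁆ * (⁅a, b⁆ * ⁅a, b'⁆) := by
  have r : ∀ u : G, Commute ⁅u, b'⁆ b → ⁅u, b * b'⁆ = ⁅u, b⁆ * ⁅u, b'⁆ := fun u hu => by
    have : ⁅u, b * b'⁆ = ⁅u, b⁆ * (b * ⁅u, b'⁆ * b⁻¹) := by
      simp only [commutatorElement_def]; group
    rw [this, ← hu.eq, mul_inv_cancel_right]
  have : ⁅a * a', b * b'⁆ = a * ⁅a', b * b'⁆ * a⁻¹ * ⁅a, b * b'⁆ := by
    simp only [commutatorElement_def]; group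
  rw [this, r a h2, r a' h4, ← (h3.mul_left h5).eq, mul_inv_cancel_right]

/-- the root element with parameter `u` -/
def rel2_w (a a' : G) (u : GF4) : G := rel2_e a u.re * rel2_e a' u.im

theorem rel2_wadd {a a' : G} (ha : a * a = 1) (ha' : a' * a' = 1) (h : Commute a a') (u v : GF4) :
    rel2_w a a' u * rel2_w a a' v = rel2_w a a' (u + v) := by
  simp only [rel2_w, QuadraticAlgebra.re_add, QuadraticAlgebra.im_add, rel2_add ha, rel2_add ha']
  rw [mul_assoc, ← mul_assoc (rel2_e a' u.im), ← (rel2_cm h v.re u.im).eq]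
  simp only [mul_assoc]

theorem rel2_wcm {a a' b b' : G} (h1 : Commute a b) (h2 : Commute a b') (h3 : Commute a' b)
    (h4 : Commute a' b') (u v : GF4) : Commute (rel2_w a a' u) (rel2_w b b' v) :=
  ((rel2_cm h1 _ _).mul_right (rel2_cm h2 _ _)).mul_left
    ((rel2_cm h3 _ _).mul_right (rel2_cm h4 _ _))

theorem rel2_wch {a a' b b' c c' : G} (ha : a * a = 1) (ha' : a' * a' = 1) (hb : b * b = 1)
    (hb' : b' * b' = 1) (hc : c * c = 1) (hc' : c' * c' = 1) (cc : Commute c c')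
    (ca : Commute c a) (cb : Commute c b) (ca' : Commute c' a) (cb' : Commute c' b)
    (h1 : a * b * a * b = c) (h2 : a * b' * a * b' = c') (h3 : a' * b * a' * b = c')
    (h4 : a' * b' * a' * b' = c' * c) (u v : GF4) :
    ⁅rel2_w a a' u, rel2_w b b' v⁆ = rel2_w c c' (u * v) := by
  have e1 := rel2_com ha hb h1 u.re v.re
  have e2 := rel2_com ha hb' h2 u.re v.im
  have e3 := rel2_com ha' hb h3 u.im v.re
  have e4 := rel2_com ha' hb' h4 u.im v.im
  rw [rel2_w, rel2_w, rel2_bil (e2 ▸ rel2_cm cb' _ _) (e4 ▸ rel2_cm (cb'.mul_left cb) _ _)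
    (e3 ▸ rel2_cm ca' _ _) (e4 ▸ rel2_cm (ca'.mul_left ca) _ _), e1, e2, e3, e4,
    rel2_mul cc.symm]
  simp only [rel2_w, QuadraticAlgebra.re_mul, QuadraticAlgebra.im_mul, one_mul, rel2_add hc,
    rel2_add hc']
  have k1 := fun p q => (rel2_cm cc p q).eq
  have k2 := fun p q => (rel2_cm (Commute.refl c) p q).eq
  have k3 := fun p q => (rel2_cm (Commute.refl c') p q).eq
  rw [← rel2_add hc, ← rel2_add hc', ← rel2_add hc']
  rw [← mul_assoc (rel2_e c' _), ← rel2_add hc', mul_assoc, ← mul_assoc (rel2_e c _), ← rel2_add hc,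
    ← mul_assoc, ← k1, mul_assoc, ← rel2_add hc']
  congr 2 <;> ring

theorem rel2_wcj (g a a' : G) (u : GF4) :
    g * rel2_w a a' u * g⁻¹ = rel2_w (g * a * g⁻¹) (g * a' * g⁻¹) u := by
  rw [rel2_w, rel2_w, ← rel2_cj, ← rel2_cj]
  group

theorem rel2_wst {a a' : G} (ha : a * a = 1) (h : Commute a a') (u : GF4) :
    rel2_w a (a * a') u = rel2_w a a' (star u) := by
  have : -u.im = u.im := by generalize u.im = p; revert p; decide
  simp only [rel2_w, QuadraticAlgebra.re_star, QuadraticAlgebra.im_star, one_mul, rel2_add ha,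
    rel2_mul h, this, mul_assoc]

theorem rel2_w1 (a a' : G) : rel2_w a a' 1 = a := by
  simp only [rel2_w, QuadraticAlgebra.re_one, QuadraticAlgebra.im_one, rel2_e0, rel2_e1, mul_one]

theorem rel2_wω (a a' : G) : rel2_w a a' ⟨0, 1⟩ = a' := by
  simp only [rel2_w, rel2_e0, rel2_e1, one_mul]

end

variable {k : Fin 4 → Fin 4 → G} {c : ℕ}

omit [Finite G] in
theorem rel2_isq (i j : Fin 4) : ι (x i j) * ι (x i j) = 1 := by rw [← map_mul, x_sq, map_one]

omit [Finite G] in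
theorem Hats.rel2_kx (H : Hats ι t k c) {i j i' j' : Fin 4} (h1 : i ≠ j) (h2 : i' ≠ j') (h3 : i ≠ j')
    (h4 : j ≠ i') : Commute (k i j) (ι (x i' j')) :=
  (H.kp i j h1).ce _ (x_com i j i' j' h1 h2 h3 h4).symm

omit [Finite G] in
theorem rel2_xx {i j i' j' : Fin 4} (h1 : i ≠ j) (h2 : i' ≠ j') (h3 : i ≠ j')
    (h4 : j ≠ i') : Commute (ι (x i j)) (ι (x i' j')) := by
  rw [Commute, SemiconjBy, ← map_mul, x_com i j i' j' h1 h2 h3 h4, map_mul]

omit [Finite G] in
theorem Hats.rel2_rel (H : Hats ι t k 1) :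
    ClSys.RelA fun (a : ClSys.OffD 4) (u : GF4) => rel2_w (ι (x a.1.1 a.1.2)) (k a.1.1 a.1.2) u where
  add a u v := rel2_wadd (rel2_isq _ _) (H.kp _ _ a.2).sq (H.rel2_kx a.2 a.2 a.2 a.2.symm).symm u v
  comm a b u v h1 h2 := by
    rw [← commutatorElement_def, commutatorElement_eq_one_iff_commute]
    exact rel2_wcm (rel2_xx a.2 b.2 h1 h2) (H.rel2_kx b.2 a.2 h2.symm h1.symm).symm
      (H.rel2_kx a.2 b.2 h1 h2) (H.com _ _ _ _ a.2 b.2 h1 h2) u v
  chain := by
    rintro ⟨⟨i, j⟩, h1⟩ ⟨⟨j', l⟩, h2⟩ h3 u v (rfl : j = j')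
    dsimp only at h1 h2 h3 ⊢
    rw [← commutatorElement_def]
    refine rel2_wch (rel2_isq _ _) (H.kp _ _ h1).sq (rel2_isq _ _) (H.kp _ _ h2).sq (rel2_isq _ _)
      (H.kp _ _ h3).sq (H.rel2_kx h3 h3 h3 h3.symm).symm (rel2_xx h3 h1 h1 h3.symm)
      (rel2_xx h3 h2 h3 h2.symm) (H.rel2_kx h3 h1 h1 h3.symm) (H.rel2_kx h3 h2 h3 h2.symm) ?_
      (H.xk i j l h1 h2 h3) (H.kx i j l h1 h2 h3) ?_ u v
    · rw [← map_mul, ← map_mul, ← map_mul, x_cm i j l h1 h2 h3]
    · rw [H.kk i j l h1 h2 h3, pow_one]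

theorem Hats.fld_of (H : Hats ι t k 1) (F : Fr ι t) (cn : Cx t ≤ normalizer (G0 ι k : Set G))
    (gr : ∀ a, a * t = t * a → Ac ι a τ → (∀ i j, i ≠ j → a * k i j * a⁻¹ = k j.rev i.rev) ∨
      ∀ i j, i ≠ j → a * t * k i j * (a * t)⁻¹ = k j.rev i.rev) : ∃ φ, Fld ι t φ := by
  obtain ⟨φ, hφ⟩ := H.rel2_rel.exists_hom (by norm_num)
  have hw : ∀ i j u, i ≠ j → φ (tv i j u) = rel2_w (ι (x i j)) (k i j) u := fun i j u h => by
    rw [rel2_tv h]; exact hφ ⟨(i, j), h⟩ u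
  have h1 : ∀ i j, i ≠ j → φ (tv i j 1) = ι (x i j) := fun i j h => by rw [hw i j 1 h, rel2_w1]
  have tx : ∀ a, t * ι a * t⁻¹ = ι a := fun a => by rw [F.tC a, mul_inv_cancel_right]
  have cj : ∀ (g : G) (ψ : Γ →* Γ), (∀ i j u, i ≠ j → g * φ (tv i j u) * g⁻¹ = φ (ψ (tv i j u))) →
      ∀ m, g * φ m * g⁻¹ = φ (ψ m) := fun g ψ h m =>
    DFunLike.congr_fun (tv_ext (f := (MulAut.conj g).toMonoidHom.comp φ) (g := φ.comp ψ) h) m
  have hr : φ.range = G0 ι k := by
    apply le_antisymm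
    · rintro _ ⟨m, rfl⟩
      refine sl_transvection_induction (fun m => φ m ∈ G0 ι k) (by simp) (fun i j h u => ?_)
        (fun A B h1 h2 => ?_) m
      · rw [← rel2_tv h, hw i j u h]
        have a1 : ι (x i j) ∈ G0 ι k := mem_sup_left ⟨_, rfl⟩
        have a2 : k i j ∈ G0 ι k := mem_sup_right (Subgroup.subset_closure ⟨i, j, h, rfl⟩)
        exact mul_mem (pow_mem a1 _) (pow_mem a2 _)
      · rw [map_mul]; exact mul_mem h1 h2
    · refine sup_le ?_ ((closure_le _).2 ?_)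
      · rintro _ ⟨a, rfl⟩
        have : φ.range.comap ι = ⊤ := gen_x fun i j h => ⟨_, h1 i j h⟩
        exact (this ▸ mem_top a : a ∈ φ.range.comap ι)
      · rintro _ ⟨i, j, h, rfl⟩
        exact ⟨_, (hw i j ⟨0, 1⟩ h).trans (rel2_wω _ _)⟩
  refine ⟨φ, inj_Γ ?_, h1, cj t σΓ fun i j u h => ?_, hr ▸ cn, fun γ hγ a ha hτ => ?_⟩
  · rw [h1 0 3 (by decide)]
    exact fun e => x_ne 0 3 (by decide) (F.inj (e.trans ι.map_one.symm))
  · have e : t * k i j * t⁻¹ = ι (x i j) * k i j := by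
      have := (H.kp i j h).mv
      rw [mul_inv_eq_iff_eq_mul] at this
      rw [inv_eq_of_mul_eq_one_right F.t2, mul_assoc, this, ← mul_assoc, ← mul_assoc, F.t2, one_mul]
    rw [rel2_σ, hw i j u h, hw i j _ h, rel2_wcj, tx, e,
      rel2_wst (rel2_isq _ _) (H.rel2_kx h h h h.symm).symm]
  · have rv : ∀ {i j : Fin 4}, i ≠ j → j.rev ≠ i.rev := fun h e => h (Fin.rev_injective e).symm
    refine (gr a ha hτ).imp (fun g => cj _ γ fun i j u h => ?_) fun g => cj _ γ fun i j u h => ?_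
    · rw [hγ, hw i j u h, hw _ _ u (rv h), rel2_wcj, g i j h, hτ, τ_x]
    · have e : a * t * ι (x i j) * (a * t)⁻¹ = ι (x j.rev i.rev) := by
        rw [← τ_x, ← hτ]
        conv_rhs => rw [← tx (x i j)]
        simp only [mul_assoc, mul_inv_rev]
      rw [hγ, hw i j u h, hw _ _ u (rv h), rel2_wcj, g i j h, e]

end CfsgLib.A8S
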