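import Cfsg.Agent.Lib.A8S.Hat1
import Cfsg.Agent.Lib.A8S.RelB
import Cfsg.Agent.Lib.Classical.SLCard

/-!
# REL: the group generated by the hats (plans/A8S.md)
-/

set_option autoImplicit false
set_option linter.unusedSectionVars false
set_option Elab.async false

namespace CfsgLib.A8S

open Subgroup Cfsg CfsgLib.Tech CfsgLib.W2 CfsgLib.Classical

universe u

variable {G : Type u} [Group G] [Finite G] {ι : A8 →* G} {t : G} {K : Subgroup G}

theorem rel_hom {M : Type*} [Group M] (w : Fin 4 → Fin 4 → M) (sq : ∀ i j, i ≠ j → w i j * w i j = 1)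
    (com : ∀ i j i' j', i ≠ j → i' ≠ j' → i ≠ j' → j ≠ i' → w i j * w i' j' = w i' j' * w i j)
    (cm : ∀ i j l, i ≠ j → j ≠ l → i ≠ l → w i j * w j l * w i j * w j l = w i l) :
    ∃ f : Matrix.SpecialLinearGroup (Fin 4) (ZMod 2) →* M,
      ∀ i j (h : i ≠ j), f (Matrix.SpecialLinearGroup.transvection h 1) = w i j := by
  have two : ∀ u : ZMod 2, u = 0 ∨ u = 1 := by decide
  have e11 : (1 + 1 : ZMod 2) = 0 := rfl
  have R : ClSys.RelA (fun (a : ClSys.OffD 4) (u : ZMod 2) => if u = 0 then 1 else w a.1.1 a.1.2) := by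
    refine ⟨fun a s u => ?_, fun a b s u h1 h2 => ?_, fun a b h s u e => ?_⟩
    · rcases two s with rfl | rfl <;> rcases two u with rfl | rfl <;> simp [e11, sq _ _ a.2]
    · rcases two s with rfl | rfl <;> rcases two u with rfl | rfl <;> simp [com _ _ _ _ a.2 b.2 h1 h2]
    · obtain ⟨⟨i, j⟩, hij⟩ := a
      obtain ⟨⟨j', l⟩, hjl⟩ := b
      dsimp only at e h hij hjl
      subst e
      rcases two s with rfl | rfl <;> rcases two u with rfl | rfl <;> simp
      rw [inv_eq_of_mul_eq_one_right (sq _ _ hij), inv_eq_of_mul_eq_one_right (sq _ _ hjl), cm _ _ _ hij hjl h]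
  obtain ⟨f, hf⟩ := R.exists_hom (by norm_num)
  exact ⟨f, fun i j h => by simpa using hf ⟨(i, j), h⟩ 1⟩

omit [Finite G] in
/-- `A₈ = SL₄(2)` is presented by the Steinberg relations -/
theorem hom_of_rel (w : Fin 4 → Fin 4 → G) (sq : ∀ i j, i ≠ j → w i j * w i j = 1)
    (com : ∀ i j i' j', i ≠ j → i' ≠ j' → i ≠ j' → j ≠ i' → w i j * w i' j' = w i' j' * w i j)
    (cm : ∀ i j l, i ≠ j → j ≠ l → i ≠ l → w i j * w j l * w i j * w j l = w i l) :
    ∃ f : A8 →* G, ∀ i j, i ≠ j → f (x i j) = w i j := by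
  obtain ⟨φ, hφ⟩ := rel_hom w sq com cm
  obtain ⟨θ, hθ⟩ := rel_hom x (fun i j _ => x_sq i j) x_com x_cm
  have hs : Function.Surjective θ := MonoidHom.range_eq_top.1 (gen_x fun i j h => ⟨_, hθ i j h⟩)
  have hb : Function.Bijective θ := (Nat.bijective_iff_surjective_and_card θ).2
    ⟨hs, by rw [card_A8, sl4_card, ZMod.card]; norm_num⟩
  refine ⟨φ.comp (MulEquiv.ofBijective θ hb).symm.toMonoidHom, fun i j h => ?_⟩
  rw [← hθ i j h, ← hφ i j h]
  exact congrArg φ ((MulEquiv.ofBijective θ hb).symm_apply_apply _)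

variable {k : Fin 4 → Fin 4 → G} {c : ℕ}

omit [Finite G] in
theorem rel_i_mem (a : A8) : ι a ∈ G0 ι k := mem_sup_left ⟨a, rfl⟩

omit [Finite G] in
theorem rel_k_mem {i j : Fin 4} (h : i ≠ j) : k i j ∈ G0 ι k := mem_sup_right (subset_closure ⟨i, j, h, rfl⟩)

theorem rel_τ_z : cA τ z = z := τ_x 0 3

theorem rel_exists_n (p : S8) {a n : A8} (h : n * z * n⁻¹ = a) : ∃ m : A8, m * z * m⁻¹ = cA p a := by
  subst h
  by_cases hp : p ∈ PG.alt 8
  · exact ⟨⟨p, hp⟩ * n, Subtype.ext (by simp [cA_val, mul_assoc])⟩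
  · have h1 : p * n ∉ PG.alt 8 := fun h => hp (by simpa using mul_mem h (inv_mem n.2))
    have h2 : τ * (z : S8) * τ⁻¹ = z := congrArg Subtype.val rel_τ_z
    refine ⟨⟨p * n * τ, mul_odd h1 τ_odd⟩, Subtype.ext ?_⟩
    change p * n * τ * (z : S8) * (p * n * τ)⁻¹ = p * ((n : S8) * z * (n : S8)⁻¹) * p⁻¹
    conv_rhs => rw [← h2]
    group

omit [Finite G] in
theorem Kp.rel_act {a : A8} {w g : G} {p : S8} (h : Kp ι t a w) (hg : g * t = t * g) (hp : Ac ι g p) :
    Kp ι t (cA p a) (g * w * g⁻¹) := by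
  refine ⟨?_, fun c hc => ?_, ?_⟩
  · calc _ = g * (w * w) * g⁻¹ := by group
      _ = 1 := by rw [h.sq]; group
  · have e : c = cA p (cA p⁻¹ c) := by rw [← cA_mul, mul_inv_cancel, cA_one]
    have e2 : a = cA p⁻¹ (cA p a) := by rw [← cA_mul, inv_mul_cancel, cA_one]
    have h1 : cA p⁻¹ c * a = a * cA p⁻¹ c := by
      have := congrArg (cH p⁻¹) hc
      rw [map_mul, map_mul, cH_apply, cH_apply, ← e2] at this
      exact this
    have h2 := h.ce _ h1
    rw [e, ← hp]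
    calc _ = g * (w * ι (cA p⁻¹ c)) * g⁻¹ := by group
      _ = _ := by rw [h2]; group
  · have h1 : g⁻¹ * t * g = t := by rw [mul_assoc, ← hg, inv_mul_cancel_left]
    calc _ = g * (w * (g⁻¹ * t * g) * w⁻¹) * g⁻¹ := by group
      _ = g * t * g⁻¹ * (g * ι a * g⁻¹) := by rw [h1, h.mv]; group
      _ = _ := by rw [hp, hg, mul_inv_cancel_right]

omit [Finite G] in
theorem Kp.rel_congr {w : G} (h : Kp ι t z w) {m n : A8} (e : m * z * m⁻¹ = n * z * n⁻¹) :
    ι m * w * (ι m)⁻¹ = ι n * w * (ι n)⁻¹ := by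
  have h1 : n⁻¹ * m * z = z * (n⁻¹ * m) := by
    calc _ = n⁻¹ * (m * z * m⁻¹) * m := by group
      _ = _ := by rw [e]; group
  have h2 := h.ce _ h1
  rw [map_mul, map_inv] at h2
  calc _ = ι n * ((ι n)⁻¹ * ι m * w) * (ι m)⁻¹ := by group
    _ = _ := by rw [← h2]; group

omit [Finite G] in
theorem Kp.rel_t {a : A8} {w : G} (h : Kp ι t a w) (F : Fr0 ι t) : t * w * t⁻¹ = w * ι a := by
  have h1 := h.mv
  rw [inv_eq_of_mul_eq_one_right h.sq] at h1
  rw [inv_eq_of_mul_eq_one_right F.t2, h.ce a rfl]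
  calc _ = t * (w * t * w) * w * (w * w)⁻¹ := by group
    _ = (t * t) * ι a * w := by rw [h1, h.sq]; group
    _ = _ := by rw [F.t2, one_mul]

/-- `C(t)` permutes the hats modulo `L` -/
theorem Hats.conj (H : Hats ι t k c) (F : Fr ι t) {g : G} (hg : g * t = t * g) {i j : Fin 4} (h : i ≠ j) :
    g * k i j * g⁻¹ ∈ G0 ι k := by
  obtain ⟨p, hp⟩ := F.aut g hg
  obtain ⟨m, hm⟩ := rel_exists_n p (nn_z i j h)
  have h0 : ι m * k 0 3 * (ι m)⁻¹ ∈ G0 ι k :=
    mul_mem (mul_mem (rel_i_mem m) (rel_k_mem (by decide))) (inv_mem (rel_i_mem m))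
  rcases F.kp_uniq hm (hm ▸ (H.kp 0 3 (by decide)).conj F.toFr0 m) ((H.co 0 3 (by decide)).conj m)
    ((H.kp i j h).rel_act hg hp) with e | e <;> rw [e]
  exacts [h0, mul_mem h0 (rel_i_mem _)]

theorem Hats.cn (H : Hats ι t k c) (F : Fr ι t) : Cx t ≤ normalizer (G0 ι k : Set G) := by
  intro g hg
  have hg : g * t = t * g := mem_Cx.1 hg
  obtain ⟨p, hp⟩ := F.aut g hg
  have : G0 ι k ≤ (G0 ι k).comap (MulAut.conj g).toMonoidHom := by
    refine sup_le ?_ ((closure_le _).2 ?_)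
    · rintro _ ⟨a, rfl⟩
      change g * ι a * g⁻¹ ∈ G0 ι k
      rw [hp]
      exact rel_i_mem _
    · rintro _ ⟨i, j, h, rfl⟩
      exact H.conj F hg h
  exact mem_normalizer_fintype fun n hn => this hn

omit [Finite G] in
theorem Hats.rel_gr (H : Hats ι t k c) {b : G} (h2 : Ac ι b τ) (e : b * k 0 3 * b⁻¹ = k 0 3) (i j : Fin 4)
    (h : i ≠ j) : b * k i j * b⁻¹ = k j.rev i.rev := by
  have h' : j.rev ≠ i.rev := fun e => h (Fin.rev_injective e).symm
  have h1 : cA τ (nn i j) * z * (cA τ (nn i j))⁻¹ = nn j.rev i.rev * z * (nn j.rev i.rev)⁻¹ := by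
    have := congrArg (cH τ) (nn_z i j h)
    rw [map_mul, map_mul, map_inv, cH_apply, cH_apply, cH_apply, rel_τ_z, τ_x] at this
    rw [this, nn_z _ _ h']
  rw [H.eqv _ _ h, H.eqv _ _ h', ← (H.kp 0 3 (by decide)).rel_congr h1, ← h2]
  conv_rhs => rw [← e]
  group

theorem Hats.gr (H : Hats ι t k c) (F : Fr ι t) {a : G} (h1 : a * t = t * a) (h2 : Ac ι a τ) :
    (∀ i j, i ≠ j → a * k i j * a⁻¹ = k j.rev i.rev) ∨
      ∀ i j, i ≠ j → a * t * k i j * (a * t)⁻¹ = k j.rev i.rev := by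
  have h03 := H.kp 0 3 (by decide)
  have h3 := h03.rel_act h1 h2
  change Kp ι t (cA τ z) _ at h3
  rw [rel_τ_z] at h3
  rcases F.kp_uniq (a := z) (n := 1) (by simp) h03 (H.co 0 3 (by decide)) h3 with e | e
  · exact .inl (H.rel_gr h2 e)
  · refine .inr (H.rel_gr ?_ ?_)
    · simpa using h2.mul (ac_one_iff.2 F.tC)
    · have h4 := h2 z
      rw [rel_τ_z] at h4
      calc _ = a * (t * k 0 3 * t⁻¹) * a⁻¹ := by group
        _ = a * k 0 3 * a⁻¹ * (a * ι z * a⁻¹) := by rw [h03.rel_t F.toFr0]; group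
        _ = _ := by rw [e, h4, mul_assoc, ← map_mul, x_sq, map_one, mul_one]

omit [Finite G] in
theorem Hats.rel_comb (H : Hats ι t k 0) {i j l : Fin 4} (h1 : i ≠ j) (h2 : j ≠ l) (h3 : i ≠ l) :
    Commute (k i j) (k j l * ι (x j l)) := by
  have s1 := (H.kp i j h1).sq
  have s2 := (H.kp j l h2).sq
  have s3 := (H.kp i l h3).sq
  have s4 : ι (x j l) * ι (x j l) = 1 := by rw [← map_mul, x_sq, map_one]
  have e1 := H.kk i j l h1 h2 h3
  rw [pow_zero, mul_one] at e1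
  have e2 := H.kx i j l h1 h2 h3
  have e3 := H.com i l j l h3 h2 h3 h2.symm
  have f1 : k i j * k j l * k i j = k i l * k j l := by rw [← e1, mul_assoc _ (k j l) (k j l), s2, mul_one]
  have f2 : k i j * ι (x j l) * k i j = k i l * ι (x j l) := by
    rw [← e2, mul_assoc _ (ι (x j l)) (ι (x j l)), s4, mul_one]
  calc k i j * (k j l * ι (x j l))
      = k i j * k j l * (k i j * k i j) * ι (x j l) * (k i j * k i j) := by rw [s1]; group
    _ = (k i j * k j l * k i j) * (k i j * ι (x j l) * k i j) * k i j := by simp only [mul_assoc]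
    _ = k j l * (k i l * k i l) * ι (x j l) * k i j := by rw [f1, f2, e3]; simp only [mul_assoc]
    _ = _ := by rw [s3]; group

omit [Finite G] in
theorem Hats.rel_comc (H : Hats ι t k 0) {i j l : Fin 4} (h1 : l ≠ i) (h2 : i ≠ j) (h3 : l ≠ j) :
    Commute (k i j) (k l i * ι (x l i)) := by
  have s1 := (H.kp i j h2).sq
  have s2 := (H.kp l i h1).sq
  have s3 := (H.kp l j h3).sq
  have s4 : ι (x l i) * ι (x l i) = 1 := by rw [← map_mul, x_sq, map_one]
  have e1 := H.kk l i j h1 h2 h3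
  rw [pow_zero, mul_one] at e1
  have e2 := H.xk l i j h1 h2 h3
  have e3 := (H.kp l j h3).ce _ (x_com l i l j h1 h3 h3 h1.symm)
  have f1 : k i j * k l i * k i j = k l i * k l j := by
    rw [← e1, ← mul_assoc, ← mul_assoc, ← mul_assoc, s2, one_mul]
  have f2 : k i j * ι (x l i) * k i j = ι (x l i) * k l j := by
    rw [← e2, ← mul_assoc, ← mul_assoc, ← mul_assoc, s4, one_mul]
  calc k i j * (k l i * ι (x l i))
      = k i j * k l i * (k i j * k i j) * ι (x l i) * (k i j * k i j) := by rw [s1]; group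
    _ = (k i j * k l i * k i j) * (k i j * ι (x l i) * k i j) * k i j := by simp only [mul_assoc]
    _ = k l i * (k l j * k l j) * ι (x l i) * k i j := by rw [f1, f2, ← e3]; simp only [mul_assoc]
    _ = _ := by rw [s3]; group

omit [Finite G] in
theorem Hats.rel_com (H : Hats ι t k 0) {i j i' j' : Fin 4} (h : i ≠ j) (h' : i' ≠ j') :
    Commute (k i j) (k i' j' * ι (x i' j')) := by
  by_cases h1 : i = j' <;> by_cases h2 : j = i'
  · subst h1 h2
    obtain ⟨l, h3, h4⟩ : ∃ l : Fin 4, i ≠ l ∧ l ≠ j := by revert i j; decide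
    have e := H.kk i l j h3 h4 h
    rw [pow_zero, mul_one] at e
    have c1 := H.rel_comc h' h3 h4.symm
    have c2 := H.rel_comb h4 h' h3.symm
    rw [← e]
    exact ((c1.mul_left c2).mul_left c1).mul_left c2
  · subst h1
    exact H.rel_comc h' h (Ne.symm h2)
  · subst h2
    exact H.rel_comb h h' h1
  · exact Commute.mul_right (H.com i j i' j' h h' h1 h2)
      ((H.kp i j h).ce _ (x_com i j i' j' h h' h1 h2).symm)

theorem Hats.prd (H : Hats ι t k 0) (F : Fr ι t) : ∃ ι₁ ι₂, Prd ι t ι₁ ι₂ := by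
  obtain ⟨ι₁, h₁⟩ := hom_of_rel k (fun i j h => (H.kp i j h).sq) H.com
    (fun i j l h1 h2 h3 => by simpa using H.kk i j l h1 h2 h3)
  obtain ⟨ι₂, swp⟩ : ∃ ι₂ : A8 →* G, ∀ a, t * ι₁ a * t⁻¹ = ι₂ a :=
    ⟨(MulAut.conj t).toMonoidHom.comp ι₁, fun _ => rfl⟩
  have h₂ : ∀ i j, i ≠ j → ι₂ (x i j) = k i j * ι (x i j) := fun i j h => by
    rw [← swp, h₁ i j h, (H.kp i j h).rel_t F.toFr0]
  have com : ∀ a b, ι₁ a * ι₂ b = ι₂ b * ι₁ a := by
    have c1 : ∀ i j, i ≠ j → ∀ b, ι₁ (x i j) * ι₂ b = ι₂ b * ι₁ (x i j) := fun i j h b => by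
      have : (centralizer {ι₁ (x i j)}).comap ι₂ = ⊤ := gen_x fun i' j' h' => by
        rw [mem_comap, mem_centralizer_singleton_iff, h₁ i j h, h₂ i' j' h']
        exact (H.rel_com h h').eq.symm
      have hb : b ∈ (centralizer {ι₁ (x i j)}).comap ι₂ := this ▸ mem_top b
      exact (mem_centralizer_singleton_iff.1 hb).symm
    intro a b
    have : (centralizer {ι₂ b}).comap ι₁ = ⊤ := gen_x fun i j h => by
      rw [mem_comap, mem_centralizer_singleton_iff]
      exact c1 i j h b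
    have ha : a ∈ (centralizer {ι₂ b}).comap ι₁ := this ▸ mem_top a
    exact mem_centralizer_singleton_iff.1 ha
  have dia : ∀ a, ι a = ι₁ a * ι₂ a := by
    let f : A8 →* G := MonoidHom.mk' (fun a => ι₁ a * ι₂ a) fun a b => by
      rw [map_mul, map_mul, mul_assoc, mul_assoc, ← mul_assoc (ι₁ b), com b a, mul_assoc]
    have : ι.eqLocus f = ⊤ := gen_x fun i j h => by
      change ι (x i j) = ι₁ (x i j) * ι₂ (x i j)
      rw [h₁ i j h, h₂ i j h, ← mul_assoc, (H.kp i j h).sq, one_mul]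
    intro a
    have ha : a ∈ ι.eqLocus f := this ▸ mem_top a
    exact ha
  refine ⟨ι₁, ι₂, (injective_iff_map_eq_one _).2 fun a ha => F.inj ?_, dia, com, swp, fun a n hn w hw => ?_⟩
  · rw [dia, ← swp, ha, map_one]
    group
  · have e1 : ι n * k 0 3 * (ι n)⁻¹ = ι₁ a := by
      rw [← hn, map_mul, map_mul, map_inv, dia, ← h₁ 0 3 (by decide), mul_assoc (ι₁ n), ← com]
      group
    have aa : a * a = 1 := by
      calc _ = n * (z * z) * n⁻¹ := by rw [← hn]; group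
        _ = 1 := by rw [x_sq]; group
    rcases F.kp_uniq hn (hn ▸ (H.kp 0 3 (by decide)).conj F.toFr0 n) ((H.co 0 3 (by decide)).conj n) hw with e | e
    · exact .inl (e.trans e1)
    · exact .inr (by rw [e, e1, dia, ← mul_assoc, ← map_mul, aa, map_one, one_mul])

theorem Hats.fld (H : Hats ι t k 1) (F : Fr ι t) : ∃ φ, Fld ι t φ :=
  H.fld_of F (H.cn F) fun _ h1 h2 => H.gr F h1 h2

end CfsgLib.A8S
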