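import Cfsg.Agent.Lib.A8S.ModC
import Cfsg.Agent.Lib.AltSec.GLW

/-!
# PSL: `A₈` is not a subgroup of `L₄(q)`, `U₄(q)`, `q` odd (plans/A8S.md)
-/

set_option autoImplicit false
set_option linter.unusedSectionVars false
set_option Elab.async false

namespace CfsgLib.A8S

open Subgroup Cfsg CfsgLib.Tech CfsgLib.W2 CfsgLib.Classical

/-- `2³:7` has no faithful representation of degree `< 7` -/
theorem psl_lin {F V Γ : Type*} [Field F] [AddCommGroup V] [Module F V] [FiniteDimensional F V]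
    [Group Γ] (h2 : (2 : F) ≠ 0) (σ : Γ →* Module.End F V) {g : Γ} {e : ℕ → Γ}
    (hg : ∀ n, g * e n * g⁻¹ = e (n + 1)) (sq : e 0 * e 0 = 1) (c1 : Commute (e 0) (e 1))
    (c2 : Commute (e 0) (e 2)) (h3 : e 3 = e 0 * e 1) (h0 : σ (e 0) ≠ 1) :
    7 ≤ Module.finrank F V := by
  have ind : ∀ {P : Γ → Γ → Γ → Prop} (i j k : ℕ), (∀ a b c, P a b c →
      P (g * a * g⁻¹) (g * b * g⁻¹) (g * c * g⁻¹)) → P (e i) (e j) (e k) →
      ∀ n, P (e (n + i)) (e (n + j)) (e (n + k)) := fun i j k h1 h2 n => by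
    induction n with
    | zero => simpa only [zero_add] using h2
    | succ n ih => simpa only [hg, add_right_comm n _ 1] using h1 _ _ _ ih
  have sq' := ind (P := fun a _ _ => a * a = 1) 0 0 0
    (fun a _ _ h => by rw [conj_mul, h, mul_one, mul_inv_cancel]) sq
  have h3' := ind (P := fun a b c => c = a * b) 0 1 3 (fun a b c h => by rw [conj_mul, h]) h3
  have c12 : Commute (e 1) (e 2) := ind (P := fun a b _ => a * b = b * a) 0 1 0
    (fun a b c h => by rw [conj_mul, conj_mul, h]) c1 1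
  have ap : ∀ a b v, σ a (σ b v) = σ (a * b) v := fun a b v => by rw [map_mul]; rfl
  let s : Bool → F := fun b => if b then -1 else 1
  have sx : ∀ a b, s b * s a = s (xor a b) := by rintro (_ | _) (_ | _) <;> simp [s]
  -- splitting an eigenvector
  have sp : ∀ (n : ℕ) (v : V), v ≠ 0 → ∃ b w, w ≠ 0 ∧ σ (e n) w = s b • w ∧
      ∀ (a : Γ) (c : F), Commute a (e n) → σ a v = c • v → σ a w = c • w := fun n v hv => by
    by_cases h : σ (e n) v = v
    · exact ⟨false, v, hv, by simpa [s] using h, fun _ _ _ h => h⟩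
    · refine ⟨true, v - σ (e n) v, fun e => h (sub_eq_zero.1 e).symm, ?_, fun a c h1 h2 => ?_⟩
      · rw [map_sub, ap, show e n * e n = 1 from sq' n, map_one]; simp [s]
      · rw [map_sub, ap, h1.eq, ← ap, h2, map_smul, smul_sub]
  obtain ⟨u, hu⟩ : ∃ u, σ (e 0) u ≠ u := by
    by_contra! h
    exact h0 (LinearMap.ext h)
  have u0 : σ (e 0) (u - σ (e 0) u) = s true • (u - σ (e 0) u) := by
    rw [map_sub, ap, sq, map_one]; simp [s]
  obtain ⟨b1, w, w0, w1, hw⟩ := sp 1 _ fun e => hu (sub_eq_zero.1 e).symm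
  obtain ⟨b2, v, v0, v2, hv⟩ := sp 2 w w0
  let b : ℕ → Bool × Bool × Bool := fun n =>
    (fun r => (r.2.1, r.2.2, xor r.1 r.2.1))^[n] (true, b1, b2)
  have hb : ∀ n, σ (e n) v = s (b n).1 • v ∧ σ (e (n + 1)) v = s (b n).2.1 • v ∧
      σ (e (n + 2)) v = s (b n).2.2 • v := fun n => by
    induction n with
    | zero => exact ⟨hv _ _ c2 (hw _ _ c1 u0), hv _ _ c12 w1, v2⟩
    | succ n ih =>
      simp only [b, Function.iterate_succ_apply'] at ih ⊢
      refine ⟨ih.2.1, ih.2.2, ?_⟩
      rw [show e (n + 1 + 2) = e n * e (n + 1) from h3' n, ← ap, ih.2.1, map_smul, ih.1, smul_smul, sx]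
  have si : Function.Injective s := fun a b h => by
    have : (-1 : F) ≠ 1 := fun e => h2 (by linear_combination -e)
    cases a <;> cases b
    exacts [rfl, absurd h.symm this, absurd h this, rfl]
  have cj : ∀ n k, e k * (g ^ n)⁻¹ = (g ^ n)⁻¹ * e (n + k) := fun n k => by
    induction n with
    | zero => simp
    | succ n ih => rw [pow_succ', mul_inv_rev, ← mul_assoc, ih, add_right_comm, ← hg]; group
  have := AltSec.card_le_finrank_of_wsp (ι := Fin 7) (fun k : Fin 3 => σ (e k))
    (fun i => ![s (b i).1, s (b i).2.1, s (b i).2.2]) (fun i i' h => ?_) ⊤ fun i =>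
      ⟨σ (g ^ (i : ℕ))⁻¹ v, fun h => v0 ?_, fun k => ?_, trivial⟩
  · simpa using this
  · have e : b i = b i' := Prod.ext (si (congrFun h 0)) (Prod.ext (si (congrFun h 1)) (si (congrFun h 2)))
    simp only [b] at e
    clear * - e
    revert i i' b1 b2
    decide
  · rw [← (σ (g ^ (i : ℕ))).map_zero, ← h, ap, mul_inv_cancel, map_one]; rfl
  · rw [ap, cj, ← ap, ← map_smul]
    congr 1
    fin_cases k
    exacts [(hb i).1, (hb i).2.1, (hb i).2.2]

/-- lifting `2³:7` through a central extension -/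
theorem psl_lift {Γ : Type*} [Group Γ] (f : MulAut Γ) (hf : ∀ c ∈ center Γ, f c = c) {a c z : Γ}
    (hc : c ∈ center Γ) (hz : z ∈ center Γ) (ha : a * a ∈ center Γ) (h1 : a * f a = c * (f a * a))
    (h3 : f (f (f a)) = z * (a * f a)) :
    ∃ e : ℕ → Γ, (∀ n, f (e n) = e (n + 1)) ∧ e 0 * e 0 = 1 ∧ Commute (e 0) (e 1) ∧
      Commute (e 0) (e 2) ∧ e 3 = e 0 * e 1 ∧ e 0 = f a * a⁻¹ := by
  have h12 := congrArg f h1
  have h23 := congrArg f h12
  have h4 := congrArg f h3
  have aa := hf _ ha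
  simp only [map_mul, hf c hc, hf z hz] at h12 h23 h4 aa
  have zc : ∀ u, Commute u z := mem_center_iff.1 hz
  have lz : ∀ u v, u * (z * v) = z * (u * v) := fun u => (zc u).left_comm
  have lc : ∀ u v, u * (c * v) = c * (u * v) := fun u => Commute.left_comm (mem_center_iff.1 hc u)
  refine ⟨fun n => f^[n] (f a * a⁻¹), fun n => (Function.iterate_succ_apply' f _ _).symm, ?_⟩
  simp only [Function.iterate_succ_apply', Function.iterate_zero_apply, map_mul, map_inv, and_true]
  have h20 : f (f a) * a = c * (a * f (f a)) := by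
    refine f.injective ?_
    rw [map_mul, map_mul, map_mul, hf c hc, h3, lz (f a), lz c]
    nth_rw 1 [h1]
    simp only [mul_assoc]
  rw [h4, h3]
  rw [h3] at h23
  clear h3 h4
  generalize f (f a) = a2 at *
  generalize f a = a1 at *
  obtain rfl : c = 1 := by
    rw [lz, ← mul_assoc a2, h20, mul_assoc c, mul_assoc a, ← lc a, ← h12, ← mul_assoc a,
      ← mul_assoc z] at h23
    exact right_eq_mul.1 h23
  rw [one_mul] at h1 h12 h20
  have c01 : Commute a a1 := h1
  have c12 : Commute a1 a2 := h12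
  have c02 : Commute a a2 := h20.symm
  refine ⟨?_, ?_, ?_, ?_⟩
  · rw [mul_assoc, ← mul_assoc a⁻¹, c01.inv_left.eq, mul_assoc, ← mul_assoc, aa]; group
  · exact (c12.mul_right (Commute.refl a1).inv_right).mul_left
      (c02.mul_right c01.inv_right).inv_left
  · exact (((zc a1).mul_right (c01.symm.mul_right (Commute.refl a1))).mul_right c12.inv_right).mul_left
      (((zc a).mul_right ((Commute.refl a).mul_right c01)).mul_right c02.inv_right).inv_left
  · rw [(zc _).symm.eq, (zc (a * a1)).symm.eq, c12.eq, mul_assoc a1 a⁻¹, c01.inv_left.symm.left_comm,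
      ← mul_assoc a1, c12.eq, mul_inv_cancel_right, c02.inv_left.eq]
    group

theorem no_proj {F : Type*} [Field F] (h2 : (2 : F) ≠ 0) {Γ Y : Type*} [Group Γ] [Group Y]
    (ρ : Γ →* Matrix (Fin 4) (Fin 4) F) (hρ : Function.Injective ρ) (π : Γ →* Y)
    (hπ : Function.Surjective π) (hk : ∀ g, π g = 1 → g ∈ center Γ) (j : A8 →* Y)
    (hj : Function.Injective j) : False := by
  obtain ⟨g, hg⟩ := hπ (j (x 3 1 * x 2 3 * x 1 2))
  obtain ⟨a, ha⟩ := hπ (j (x 0 1))
  have k : ∀ {u v : Γ} {p : A8}, π u = j p → π v = j p → u * v⁻¹ ∈ center Γ := fun h1 h2 =>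
    hk _ (by rw [map_mul, map_inv, h1, h2, mul_inv_cancel])
  have m : ∀ {u v : Γ} {p q : A8}, π u = j p → π v = j q → π (u * v) = j (p * q) := fun h1 h2 => by
    rw [map_mul, map_mul, h1, h2]
  have i : ∀ {u : Γ} {p : A8}, π u = j p → π u⁻¹ = j p⁻¹ := fun h1 => by rw [map_inv, map_inv, h1]
  have a1 := m (m hg ha) (i hg)
  obtain ⟨e, h1, h3, h4, h5, h6, h7⟩ := psl_lift (MulAut.conj g)
    (fun c hc => by rw [MulAut.conj_apply, mem_center_iff.1 hc g, mul_inv_cancel_right])
    (k (m ha a1) ((m a1 ha).trans (congrArg j (by decide +kernel))))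
    (k (m (m hg (m (m hg a1) (i hg))) (i hg)) ((m ha a1).trans (congrArg j (by decide +kernel))))
    (hk _ ((m ha ha).trans (by rw [x_sq, map_one]))) (inv_mul_cancel_right _ _).symm
    (inv_mul_cancel_right _ _).symm
  have := psl_lin h2 ((Matrix.toLinAlgEquiv' (R := F) (n := Fin 4)).toMonoidHom.comp ρ) h1 h3 h4 h5 h6
    fun h => ?_
  · simp at this
  have h8 : e 0 = 1 := hρ (Matrix.toLinAlgEquiv'.injective (by rw [map_one, map_one]; exact h))
  have h9 := m a1 (i ha)
  rw [← MulAut.conj_apply, ← h7, h8, map_one, ← j.map_one] at h9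
  exact absurd (hj h9) (by decide +kernel)

theorem psl_two {F : Type*} [Field F] [Fintype F] (h : Odd (Fintype.card F)) : (2 : F) ≠ 0 :=
  Ring.two_ne_zero fun e => Nat.not_even_iff_odd.2 h (Nat.even_iff.2 (FiniteField.even_card_of_char_two e))

theorem psl_inj {F : Type*} [Field F] : Function.Injective (slToMat 4 F) := fun _ _ h => Subtype.ext h

theorem no_psl {F : Type*} [Field F] [Fintype F] (h : Odd (Fintype.card F))
    (j : A8 →* Matrix.ProjectiveSpecialLinearGroup (Fin 4) F) (hj : Function.Injective j) : False :=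
  no_proj (psl_two h) (slToMat 4 F) psl_inj (QuotientGroup.mk' _) (QuotientGroup.mk'_surjective _)
    (fun _ h => (QuotientGroup.eq_one_iff _).1 h) j hj

theorem no_psu {F : Type*} [Field F] [Fintype F] (h : Odd (Fintype.card F)) (q : ℕ)
    (j : A8 →* PSU 4 F q) (hj : Function.Injective j) : False :=
  no_proj (psl_two h) ((slToMat 4 F).comp (SU 4 F q).subtype) (psl_inj.comp Subtype.val_injective)
    (QuotientGroup.mk' _) (QuotientGroup.mk'_surjective _)
    (fun _ h => (QuotientGroup.eq_one_iff _).1 h) j hj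

end CfsgLib.A8S
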