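import Cfsg.Agent.Lib.A8S.Bas
import Cfsg.Agent.S2119
import Cfsg.Agent.Lib.NatSyl.Perm

/-!
# TEN2: the case `A₁₁` does not occur (plans/A8S.md)
-/

set_option autoImplicit false
set_option linter.unusedSectionVars false
set_option Elab.async false

namespace CfsgLib.A8S

open Subgroup Cfsg CfsgLib.Tech CfsgLib.W2 CfsgLib.Classical

universe u

variable {G : Type u} [Group G] [Finite G] {ι : A8 →* G} {t : G} {K : Subgroup G}

namespace TenA

open Equiv Equiv.Perm

theorem exists_θ (g : SLE.Glob K t) (e : K ≃* alternatingGroup (Fin 11)) :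
    ∃ θ : G →* Perm (Fin 11), Function.Injective θ ∧ ∀ k : K, θ k = e k := by
  have := g.nrm
  have hb := Cfsg.Agent.S2119.result 11 (by norm_num) (by norm_num)
  let c := MulEquiv.ofBijective _ hb
  let θ : G →* Perm (Fin 11) :=
    (c.symm.toMonoidHom.comp (MulAut.congr e).toMonoidHom).comp (MulAut.conjNormal (H := K))
  have hθ : ∀ x, MulAut.conjNormal (θ x) = MulAut.congr e (MulAut.conjNormal x) := fun x =>
    c.apply_symm_apply _
  refine ⟨θ, (injective_iff_map_eq_one _).2 fun x hx => ?_, fun k => hb.1 ?_⟩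
  · have h1 := hθ x
    rw [hx, map_one, eq_comm, map_eq_one_iff _ (MulAut.congr e).injective] at h1
    refine mem_bot.1 (g.cen ▸ mem_centralizer_iff.2 fun k hk => ?_)
    have := congrArg Subtype.val (DFunLike.congr_fun h1 ⟨k, hk⟩)
    exact (mul_inv_eq_iff_eq_mul.1 this).symm
  · rw [hθ]
    ext1 a
    obtain ⟨a, rfl⟩ := e.surjective a
    have : MulAut.conjNormal (k : G) a = k * a * k⁻¹ := rfl
    simp only [MulAut.congr_apply, MulEquiv.trans_apply, MulEquiv.symm_apply_apply, this, map_mul, map_inv]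
    rfl

theorem isSwap {s : Perm (Fin 11)} (h2 : s ^ 2 = 1) (h1 : sign s ≠ 1) (h4 : s.support.card ≤ 4) : s.IsSwap := by
  have o : orderOf s = 2 := orderOf_eq_prime h2 (by rintro rfl; simp at h1)
  obtain ⟨n, hn⟩ := cycleType_prime_order (σ := s) (by rw [o]; exact Nat.prime_two)
  rw [o] at hn
  rw [← sum_cycleType, hn, Multiset.sum_replicate, smul_eq_mul] at h4
  rw [sign_of_cycleType, hn, Multiset.sum_replicate, Multiset.card_replicate, smul_eq_mul] at h1
  obtain rfl | rfl : n = 0 ∨ n = 1 := by omega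
  · exact isSwap_iff_cycleType.2 hn
  · exact absurd (by decide) h1

def ρ0 : Perm (Fin 11) := ⟨![1, 2, 3, 4, 5, 6, 7, 8, 0, 9, 10], ![8, 0, 1, 2, 3, 4, 5, 6, 7, 9, 10],
  by decide, by decide⟩

theorem exists_ρ {s : Perm (Fin 11)} (h : s.IsSwap) :
    ∃ ρ : Perm (Fin 11), sign ρ = 1 ∧ Commute ρ s ∧ ρ ^ 9 = 1 ∧ (ρ ^ 3).support.card = 9 := by
  obtain ⟨u, v, huv, rfl⟩ := h
  obtain ⟨c, hc⟩ := isConj_iff.1 (isConj_swap (show (9 : Fin 11) ≠ 10 by decide) huv)
  obtain ⟨a1, a2, a3, a4⟩ : sign ρ0 = 1 ∧ ρ0 * swap 9 10 = swap 9 10 * ρ0 ∧ ρ0 ^ 9 = 1 ∧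
      (ρ0 ^ 3).support.card = 9 := by decide +kernel
  refine ⟨c * ρ0 * c⁻¹, by simp [a1], ?_, by rw [conj_pow, a3]; simp, by rw [conj_pow, card_support_conj, a4]⟩
  rw [← hc, Commute, SemiconjBy, conj_mul, conj_mul, a2]

end TenA

open TenA Equiv Equiv.Perm in
theorem Fr.not_eleven (F : Fr ι t) (g : SLE.Glob K t) (ht : t ∉ K)
    (e : K ≃* alternatingGroup (Fin 11)) : False := by
  obtain ⟨θ, hi, hk⟩ := exists_θ g e
  have lift : ∀ σ : Perm (Fin 11), sign σ = 1 → ∃ k ∈ K, θ k = σ := fun σ h =>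
    ⟨e.symm ⟨σ, h⟩, (e.symm ⟨σ, h⟩).2, by rw [hk, MulEquiv.apply_symm_apply]⟩
  obtain ⟨b7, b1⟩ : (x 1 2 * x 2 3 * x 3 1) ^ 7 = 1 ∧ x 1 2 * x 2 3 * x 3 1 ≠ 1 := by decide +kernel
  set b := x 1 2 * x 2 3 * x 3 1
  have : Fact (Nat.Prime 7) := ⟨by norm_num⟩
  have o7 : orderOf (θ (ι b)) = 7 := orderOf_eq_prime (by rw [← map_pow, ← map_pow, b7, map_one, map_one])
    fun h => b1 (F.inj (hi (by rw [h, map_one, map_one])))
  have cy : (θ (ι b)).IsCycle := isCycle_of_prime_order' (by rw [o7]; norm_num) (by rw [o7]; simp)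
  have s7 : (θ (ι b)).support.card = 7 := cy.orderOf.symm.trans o7
  have fx : ∀ c, CL ι c → ∀ p : ℕ, p.Prime → ¬ p ∣ 7 → c ^ p = 1 → (θ c).support.card ≤ 4 := by
    intro c hc p hp h7 hcp
    have d : Disjoint (θ c).support (θ (ι b)).support := Finset.disjoint_right.2 fun i hi' => notMem_support.2
      (NatSyl.fix_of_comm cy ((show Commute c (ι b) from hc b).map θ) hp (by rw [← map_pow, hcp, map_one])
        (by rwa [s7]) hi')
    have := Finset.card_le_univ ((θ c).support ∪ (θ (ι b)).support)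
    rw [Finset.card_union_of_disjoint d, s7, Fintype.card_fin] at this
    omega
  have t2 : t ^ 2 = 1 := by rw [sq, F.t2]
  obtain ⟨ρ, r1, r2, r3, r4⟩ := exists_ρ (isSwap (s := θ t) (by rw [← map_pow, t2, map_one])
    (fun h => by
      obtain ⟨k, hk', e'⟩ := lift _ h
      exact ht (hi e' ▸ hk'))
    (fx t F.tC 2 Nat.prime_two (by norm_num) t2))
  obtain ⟨r, -, rfl⟩ := lift ρ r1
  have r9 : r ^ 9 = 1 := hi (by rw [map_pow, r3, map_one])
  obtain ⟨p, hp⟩ := F.aut r (hi (by rw [map_mul, map_mul, r2.eq]))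
  have p9 : p ^ 9 = 1 := by
    have h1 := hp.pow 9
    rw [r9] at h1
    exact h1.unique F.inj (ac_one_iff.2 fun a => by simp)
  have h3 := hp.pow 3
  rw [pow_nine p9, ac_one_iff] at h3
  have := fx _ h3 3 Nat.prime_three (by norm_num) (by rw [← pow_mul, r9])
  rw [map_pow, r4] at this
  omega

end CfsgLib.A8S
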