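import Cfsg.Agent.Lib.A8S.Orb
import Cfsg.Agent.Lib.A8S.Psl
import Cfsg.Agent.Lib.A8S.TenA
import Cfsg.Agent.S2919
import Cfsg.Agent.S2119
import Cfsg.Agent.Lib.NatSyl.Perm
import Cfsg.Agent.Lib.Transfer.Thompson

/-!
# TEN: the case `A₁₀` (plans/A8S.md)
-/

set_option autoImplicit false
set_option linter.unusedSectionVars false
set_option Elab.async false

namespace CfsgLib.A8S

open Subgroup Cfsg CfsgLib.Tech CfsgLib.W2 CfsgLib.Classical

universe u

variable {G : Type u} [Group G] [Finite G] {ι : A8 →* G} {t : G} {K : Subgroup G}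

theorem ten_z : x 0 1 * x 1 3 * (x 0 1 * x 1 3) = z := by decide +kernel

omit [Finite G] in
theorem ten_z1 (hi : Function.Injective ι) : ι z ≠ 1 :=
  fun e => x_ne 0 3 (by decide) (hi (e.trans ι.map_one.symm))

theorem Fr.ten_le (F : Fr ι t) {a : G} (ha : Out ι t a) : sO ι t a W8 ≤ Cx t := by
  intro w hw
  obtain ⟨b, -, h⟩ := (F.mem_sO ha τ_W).1 hw
  have h1 : ι b ∈ Cx t := mem_Cx.2 (F.tC b).symm
  have h2 : t ∈ Cx t := mem_Cx.2 rfl
  have h3 : a ∈ Cx t := mem_Cx.2 ha.ct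
  rcases h with rfl | rfl | rfl | rfl
  exacts [h1, mul_mem h2 h1, mul_mem h3 h1, mul_mem h2 (mul_mem h3 h1)]

theorem Fr.ten_syl (F : Fr ι t) (h : ¬ IsConj t (t * ι z)) {a : G} (ha : Out ι t a) :
    IsSylowIn 2 (sO ι t a W8) ⊤ := by
  have hc : Nat.card (sO ι t a W8) = 2 ^ 8 := by
    rw [F.card_sO ha τ_W, card_even.2.2.2.2.2]; rfl
  obtain ⟨T, hT⟩ := exists_isSylowIn 2 (Cx t)
  refine F.syl_of (hT.of_card_le (IsPGroup.of_card hc) (F.ten_le ha) ?_)
    (sup_le le_sup_left (le_sup_right.trans le_sup_right)) h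
  rw [hc]
  exact F.card_le hT.pgroup hT.le

/-- a Sylow 2-subgroup of `K` is `D₈ ≀ 2` -/
theorem Fr.syl_K (F : Fr ι t) (g : SLE.Glob K t) (h : ¬ IsConj t (t * ι z)) :
    t ∉ K ∧ ∃ P : Sylow 2 K, Nonempty ((P : Subgroup K) ≃* W8) := by
  obtain ⟨a, ha, h1, h2⟩ := F.exists_out h g
  have hT := F.ten_syl h ha
  have hle := F.ten_le ha
  have tT : t ∈ sO ι t a W8 := mem_sup_left (mem_zpowers t)
  have aT : a ∈ sO ι t a W8 := mem_sup_right (mem_sup_left (mem_zpowers a))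
  have iT : img ι W8 ≤ sO ι t a W8 := le_sup_right.trans le_sup_right
  have hi : (zpowers a ⊔ img ι W8).relIndex (sO ι t a W8) = 2 := by
    refine relIndex_eq_two_iff_exists_notMem_and'.2
      ⟨t, tT, fun e => F.no_conj h ha h1 h2 e (IsConj.refl t), fun w hw => ?_⟩
    obtain ⟨b, hb, h⟩ := (F.mem_sO ha τ_W).1 hw
    have k1 : ι b ∈ zpowers a ⊔ img ι W8 := mem_sup_right (i_mem_img hb)
    have k2 : a * ι b ∈ zpowers a ⊔ img ι W8 := mul_mem (mem_sup_left (mem_zpowers a)) k1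
    rcases h with rfl | rfl | rfl | rfl
    · exact .inr k1
    · exact .inl (by rwa [← mul_assoc, F.t2, one_mul])
    · exact .inr k2
    · exact .inl (by rwa [← mul_assoc, F.t2, one_mul])
  have ht : t ∉ K := by
    rcases Transfer.thompson_transfer (by rw [← relIndex_top_right]; exact hT.not_dvd) hi
      (ord_two F.t2 F.t1) with ⟨N, n1, n2, n3⟩ | ⟨c, hc⟩
    · refine fun e => n3 ((g.eq_bot_or_le n1).resolve_left (fun e => ?_) e)
      have := mul_self_mem_of_index_two n2 (ι (x 0 1 * x 1 3))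
      rw [← map_mul, ten_z, e, mem_bot] at this
      exact ten_z1 F.inj this
    · exact (F.no_conj h ha h1 h2 hc (isConj_iff.2 ⟨c, rfl⟩)).elim
  have := g.nrm
  have hS : IsSylowIn 2 (sO ι t a W8 ⊓ K) K := by
    simpa using hT.inf_of_le_normalizer (N := K) (by rw [normalizer_eq_top])
  obtain ⟨π, hπ⟩ := F.exists_π
  let f0 : (sO ι t a W8 ⊓ K : Subgroup G) →* S8 := π.comp (inclusion (inf_le_left.trans hle))
  have hf : ∀ w : (sO ι t a W8 ⊓ K : Subgroup G), Ac ι w (f0 w) :=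
    fun w => hπ (inclusion (inf_le_left.trans hle) w)
  let f : (sO ι t a W8 ⊓ K : Subgroup G) →* W8 :=
    f0.codRestrict W8 fun w => ac_W F.inj hT.pgroup iT w.2.1 (hf w)
  have hb : Function.Bijective f := by
    constructor
    · rw [injective_iff_map_eq_one]
      intro w hw
      have e : f0 w = 1 := congrArg Subtype.val hw
      have k := hf w
      rw [e, ac_one_iff] at k
      rcases F.two w k (mem_Cx.1 (hle w.2.1)) (isPGroup_zpowers_of_mem hT.pgroup w.2.1) with k | k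
      · exact Subtype.ext k
      · exact (ht (k ▸ w.2.2)).elim
    · rintro ⟨p, hp⟩
      suffices ∃ w ∈ sO ι t a W8, Ac ι w p by
        obtain ⟨w, w1, w2⟩ := this
        rcases g.gen w with k | k
        · exact ⟨⟨w, w1, k⟩, Subtype.ext ((hf _).unique F.inj w2)⟩
        · refine ⟨⟨w * t, mul_mem w1 tT, k⟩, Subtype.ext ((hf _).unique F.inj ?_)⟩
          simpa using w2.mul (ac_one_iff.2 F.tC)
      by_cases he : p ∈ PG.alt 8
      · exact ⟨ι ⟨p, he⟩, iT (i_mem_img hp), ac_i ⟨p, he⟩⟩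
      · refine ⟨a * ι ⟨τ * p, mul_odd τ_odd he⟩, mul_mem aT (iT (i_mem_img (mul_mem τ_W hp))), ?_⟩
        have := ha.ac.mul (ac_i (ι := ι) ⟨τ * p, mul_odd τ_odd he⟩)
        rwa [← mul_assoc, τ_sq, one_mul] at this
  exact ⟨ht, hS.toSylow, ⟨(subgroupOfEquivOfLe hS.le).trans (MulEquiv.ofBijective f hb)⟩⟩

theorem Fr.ten (F : Fr ι t) (g : SLE.Glob K t) (h : ¬ IsConj t (t * ι z)) :
    t ∉ K ∧ Nonempty (K ≃* alternatingGroup (Fin 10)) := by
  obtain ⟨ht, P, ⟨e⟩⟩ := F.syl_K g h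
  refine ⟨ht, ?_⟩
  have := g.simple
  let j : A8 →* K := ι.codRestrict K fun a => F.le_K g ⟨a, rfl⟩
  have hj : Function.Injective j := fun a b e => F.inj (congrArg Subtype.val e)
  have h2 : pResidual 2 K = ⊤ := by
    refine Transfer.pResidual_two_eq_top_iff.2 fun M hM => ?_
    rcases (normal_of_index_eq_two hM).eq_bot_or_eq_top with e | e
    · have := mul_self_mem_of_index_two hM (j (x 0 1 * x 1 3))
      rw [← map_mul, ten_z, e, mem_bot] at this
      exact ten_z1 hj this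
    · rw [e, index_top] at hM
      omega
  have hz : orderOf (j z) = 2 := ord_two (by rw [← map_mul, x_sq, map_one]) (ten_z1 hj)
  have hO : oddCore K = ⊥ := by
    refine (inferInstance : (oddCore K).Normal).eq_bot_or_eq_top.resolve_right fun e => ?_
    have := Core.coprime_card_pPrimeCore 2 K
    rw [show pPrimeCore 2 K = ⊤ from e, card_top, Nat.coprime_two_right] at this
    exact Nat.not_even_iff_odd.mpr this (even_iff_two_dvd.2 (hz ▸ orderOf_dvd_natCard _))
  obtain ⟨N, n1, n2, n3⟩ := Cfsg.Agent.S2919.result h2 P fun Q =>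
    ⟨e.trans (((PG.E 8).symm.subgroupMap W8).trans
      (Sylow.equiv (syl_W8.toSylowTop.mapSurjective (f := (PG.E 8).symm.toMonoidHom)
        (PG.E 8).symm.surjective) Q))⟩
  let q : K ≃* K ⧸ oddCore K :=
    ((QuotientGroup.quotientMulEquivOfEq hO).trans QuotientGroup.quotientBot).symm
  have : IsSimpleGroup (K ⧸ oddCore K) := q.symm.isSimpleGroup
  have hN : N = ⊤ := by
    refine n1.eq_bot_or_eq_top.resolve_left fun e => ?_
    rw [e, index_bot, ← Nat.card_congr q.toEquiv] at n2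
    exact Nat.not_even_iff_odd.mpr n2 (even_iff_two_dvd.2 (hz ▸ orderOf_dvd_natCard _))
  subst hN
  let r : K ≃* (⊤ : Subgroup (K ⧸ oddCore K)) := q.trans topEquiv.symm
  rcases n3 with ⟨⟨s⟩⟩ | ⟨⟨s⟩⟩ | ⟨E, _, _, n, c1, c2, ⟨s⟩⟩ | ⟨E, _, _, n, c1, c2, ⟨s⟩⟩
  · exact ⟨r.trans s⟩
  · exact (F.not_eleven g ht (r.trans s)).elim
  · exact (no_psl (by rw [c1, Nat.odd_iff]; omega) ((r.trans s).toMonoidHom.comp j)
      ((r.trans s).injective.comp hj)).elim
  · exact (no_psu (by rw [c1]; exact (Nat.odd_iff.2 (by omega)).pow) n ((r.trans s).toMonoidHom.comp j)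
      ((r.trans s).injective.comp hj)).elim

end CfsgLib.A8S
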