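import Cfsg.Agent.Lib.A8S.RelB
import Cfsg.Agent.Lib.Classical.SLCard

/-!
# MATF (first half): computations in `SL₄(4)` (plans/A8S.md)
-/

set_option autoImplicit false
set_option linter.unusedSectionVars false
set_option Elab.async false

namespace CfsgLib.A8S

open Subgroup Cfsg CfsgLib.Tech CfsgLib.W2 CfsgLib.Classical

/-- normal form of the elements of `UΓ` -/
noncomputable def ut (a b c d e f : GF4) : Γ :=
  tv 0 1 a * tv 2 3 c * (tv 1 2 b * tv 0 2 d * tv 1 3 e * tv 0 3 f)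

/-- a unitriangular matrix -/
def mfU (a b c d e f : GF4) : Matrix (Fin 4) (Fin 4) GF4 :=
  !![1, a, d, f; 0, 1, b, e; 0, 0, 1, c; 0, 0, 0, 1]

theorem mf_val {i j : Fin 4} (h : i ≠ j) (u : GF4) : (tv i j u).1 = 1 + Matrix.single i j u := by
  rw [rel2_tv h]; rfl

theorem mfU_mul (a b c d e f a' b' c' d' e' f' : GF4) : mfU a b c d e f * mfU a' b' c' d' e' f' =
    mfU (a + a') (b + b') (c + c') (d + d' + a * b') (e + e' + b * c') (f + f' + a * e' + d * c') := by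
  ext i j : 1
  fin_cases i <;> fin_cases j <;> simp [mfU, Matrix.mul_apply, Fin.sum_univ_four] <;> ring

theorem mfU_one : mfU 0 0 0 0 0 0 = 1 := by
  ext i j : 1
  fin_cases i <;> fin_cases j <;> simp [mfU]

theorem mfU_tv (u : GF4) : (tv 0 1 u).1 = mfU u 0 0 0 0 0 ∧ (tv 1 2 u).1 = mfU 0 u 0 0 0 0 ∧
    (tv 2 3 u).1 = mfU 0 0 u 0 0 0 ∧ (tv 0 2 u).1 = mfU 0 0 0 u 0 0 ∧ (tv 1 3 u).1 = mfU 0 0 0 0 u 0 ∧
    (tv 0 3 u).1 = mfU 0 0 0 0 0 u := by
  refine ⟨?_, ?_, ?_, ?_, ?_, ?_⟩ <;> rw [mf_val (by decide)] <;> ext i j : 1 <;>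
    fin_cases i <;> fin_cases j <;> simp [mfU]

theorem ut_val (a b c d e f : GF4) : (ut a b c d e f).1 = mfU a b c (d + a * b) e (f + a * e) := by
  simp only [ut, Matrix.SpecialLinearGroup.coe_mul, (mfU_tv _).1, (mfU_tv _).2.1, (mfU_tv _).2.2.1,
    (mfU_tv _).2.2.2.1, (mfU_tv _).2.2.2.2.1, (mfU_tv _).2.2.2.2.2, mfU_mul, add_zero, zero_add, mul_zero,
    zero_mul]

theorem mfU_inj {a b c d e f a' b' c' d' e' f' : GF4} (h : mfU a b c d e f = mfU a' b' c' d' e' f') :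
    a = a' ∧ b = b' ∧ c = c' ∧ d = d' ∧ e = e' ∧ f = f' :=
  ⟨congrFun₂ h 0 1, congrFun₂ h 1 2, congrFun₂ h 2 3, congrFun₂ h 0 2, congrFun₂ h 1 3, congrFun₂ h 0 3⟩

theorem tv_mem {i j : Fin 4} (h : i < j) (u : GF4) : tv i j u ∈ UΓ :=
  subset_closure ⟨i, j, u, h, rfl⟩

theorem ut_mem (a b c d e f : GF4) : ut a b c d e f ∈ UΓ :=
  mul_mem (mul_mem (tv_mem (by decide) _) (tv_mem (by decide) _)) (mul_mem (mul_mem (mul_mem
    (tv_mem (by decide) _) (tv_mem (by decide) _)) (tv_mem (by decide) _)) (tv_mem (by decide) _))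

theorem mem_UΓ' {m : Γ} : m ∈ UΓ ↔ ∃ a b c d e f, m.1 = mfU a b c d e f := by
  refine ⟨fun h => ?_, fun ⟨a, b, c, d, e, f, h⟩ => ?_⟩
  · have k : ∀ i j : Fin 4, i < j → ∀ u, ∃ a b c d e f, (tv i j u).1 = mfU a b c d e f := fun i j hij u => by
      have := mfU_tv u
      fin_cases i <;> fin_cases j <;> first
        | exact absurd hij (by decide)
        | exact ⟨_, _, _, _, _, _, this.1⟩
        | exact ⟨_, _, _, _, _, _, this.2.1⟩
        | exact ⟨_, _, _, _, _, _, this.2.2.1⟩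
        | exact ⟨_, _, _, _, _, _, this.2.2.2.1⟩
        | exact ⟨_, _, _, _, _, _, this.2.2.2.2.1⟩
        | exact ⟨_, _, _, _, _, _, this.2.2.2.2.2⟩
    induction h using closure_induction'' with
    | mem x hx => obtain ⟨i, j, u, h, rfl⟩ := hx; exact k i j h u
    | inv_mem x hx =>
      obtain ⟨i, j, u, h, rfl⟩ := hx
      rw [rel2_tv h.ne, Matrix.SpecialLinearGroup.transvection_inv, ← rel2_tv h.ne]
      exact k i j h _
    | one => exact ⟨_, _, _, _, _, _, mfU_one.symm⟩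
    | mul x y _ _ hx hy =>
      obtain ⟨a, b, c, d, e, f, hx⟩ := hx
      obtain ⟨a', b', c', d', e', f', hy⟩ := hy
      exact ⟨_, _, _, _, _, _, by rw [Matrix.SpecialLinearGroup.coe_mul, hx, hy, mfU_mul]⟩
  · rw [show m = ut a b c (d - a * b) e (f - a * e) from Subtype.ext (by
      rw [h, ut_val, sub_add_cancel, sub_add_cancel])]
    exact ut_mem _ _ _ _ _ _

theorem mem_UΓ {m : Γ} : m ∈ UΓ ↔ ∃ a b c d e f, m = ut a b c d e f := by
  refine ⟨fun h => ?_, fun ⟨a, b, c, d, e, f, h⟩ => h ▸ ut_mem _ _ _ _ _ _⟩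
  obtain ⟨a, b, c, d, e, f, h⟩ := mem_UΓ'.1 h
  exact ⟨a, b, c, d - a * b, e, f - a * e, Subtype.ext (by rw [h, ut_val, sub_add_cancel, sub_add_cancel])⟩

theorem card_UΓ : Nat.card UΓ = 2 ^ 12 := by
  rw [← Nat.card_eq_of_bijective (fun v : GF4 × GF4 × GF4 × GF4 × GF4 × GF4 =>
    (⟨_, ut_mem v.1 v.2.1 v.2.2.1 v.2.2.2.1 v.2.2.2.2.1 v.2.2.2.2.2⟩ : UΓ)) ⟨?_, ?_⟩]
  · have : Nat.card GF4 = 4 := by rw [← card_GF4, Nat.card_eq_fintype_card]
    simp only [Nat.card_prod, this]; norm_num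
  · rintro ⟨a, b, c, d, e, f⟩ ⟨a', b', c', d', e', f'⟩ h
    have h1 : (ut a b c d e f).1 = (ut a' b' c' d' e' f').1 := congrArg (fun m : UΓ => m.1.1) h
    rw [ut_val, ut_val] at h1
    obtain ⟨rfl, rfl, rfl, h2, rfl, h3⟩ := mfU_inj h1
    rw [add_right_cancel h2, add_right_cancel h3]
  · rintro ⟨m, hm⟩
    obtain ⟨a, b, c, d, e, f, rfl⟩ := mem_UΓ.1 hm
    exact ⟨(a, b, c, d, e, f), rfl⟩

theorem card_Γ : Nat.card Γ = 2 ^ 12 * 240975 := by
  rw [sl_card, card_GF4]; decide +kernel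

theorem syl_UΓ : IsSylowIn 2 UΓ ⊤ := by
  refine ⟨le_top, IsPGroup.of_card card_UΓ, ?_⟩
  have := UΓ.card_mul_index
  rw [card_UΓ, card_Γ] at this
  rw [relIndex_top_right, Nat.eq_of_mul_eq_mul_left (by norm_num) this]
  norm_num

theorem σ_tv (i j : Fin 4) (u : GF4) : σΓ (tv i j u) = tv i j (star u) := rel2_σ i j u

theorem exists_gr : ∃ γ, IsGr γ := by
  have rv : ∀ {i j : Fin 4}, i ≠ j → j.rev ≠ i.rev := fun h e => h (Fin.rev_injective e).symm
  have R := ClSys.relA_slSys (n := 4) (F := GF4)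
  have H : ClSys.RelA fun (a : ClSys.OffD 4) (u : GF4) =>
      (ClSys.slSys 4 GF4).x ⟨(a.1.2.rev, a.1.1.rev), rv a.2⟩ u :=
    { add := fun a t u => R.add _ t u
      comm := fun a b t u h1 h2 => R.comm _ _ t u (rv h2.symm) (rv h1.symm)
      chain := fun a b h t u e => by
        have k := R.chain ⟨(b.1.2.rev, b.1.1.rev), rv b.2⟩ ⟨(a.1.2.rev, a.1.1.rev), rv a.2⟩ (rv h) u t
          (congrArg Fin.rev e.symm)
        have n : ∀ w : GF4, -w = w := by decide
        rw [← inv_inj]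
        simp only [ClSys.slSys_x] at k ⊢
        conv_rhs => rw [Matrix.SpecialLinearGroup.transvection_inv, n, mul_comm t]
        simpa only [mul_inv_rev, inv_inv, mul_assoc] using k }
  obtain ⟨γ, hγ⟩ := H.exists_hom (by norm_num)
  refine ⟨γ, fun i j u => ?_⟩
  by_cases h : i ≠ j
  · rw [rel2_tv h, rel2_tv (rv h)]
    exact hγ ⟨(i, j), h⟩ u
  · obtain rfl := not_not.1 h
    rw [tv, tv, dif_neg h, dif_neg (by simp), map_one]

theorem σ_mem {m : Γ} (h : m ∈ UΓ) : σΓ m ∈ UΓ := by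
  refine (show UΓ ≤ UΓ.comap σΓ from (closure_le _).2 ?_) h
  rintro _ ⟨i, j, u, h, rfl⟩
  exact mem_comap.2 (σ_tv i j u ▸ tv_mem h _)

theorem IsGr.mem {γ : Γ →* Γ} (hγ : IsGr γ) {m : Γ} (h : m ∈ UΓ) : γ m ∈ UΓ := by
  refine (show UΓ ≤ UΓ.comap γ from (closure_le _).2 ?_) h
  rintro _ ⟨i, j, u, h, rfl⟩
  exact mem_comap.2 (hγ i j u ▸ tv_mem (Fin.rev_lt_rev.2 h) _)

theorem σ_val (m : Γ) : (σΓ m).1 = m.1.map star := rfl

theorem mf_lin {w : GF4} (h : w + star w = 1) (a b c d e f : GF4) :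
    mfU (star w * a) (star w * b) (star w * c) (star w * d) (star w * e) (star w * f) =
      w • (1 : Matrix (Fin 4) (Fin 4) GF4) + star w • mfU a b c d e f := by
  ext i j : 1
  fin_cases i <;> fin_cases j <;> simp [mfU, h]

theorem mf_star (w : GF4) (A : Matrix (Fin 4) (Fin 4) GF4) :
    (w • (1 : Matrix (Fin 4) (Fin 4) GF4) + star w • A).map star =
      star w • (1 : Matrix (Fin 4) (Fin 4) GF4) + w • A.map star := by
  ext i j : 1
  simp [Matrix.one_apply, apply_ite star]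

theorem mf_h90 {A B : Matrix (Fin 4) (Fin 4) GF4} (w : GF4) (h : A * A.map star = 1)
    (e : B = w • (1 : Matrix (Fin 4) (Fin 4) GF4) + star w • A) : A * B.map star = B := by
  rw [e, mf_star, Matrix.mul_add, Matrix.mul_smul, Matrix.mul_smul, h, Matrix.mul_one, add_comm]

/-- Hilbert 90 for the field automorphism -/
theorem h90 {u : Γ} (hu : u ∈ UΓ) (h : u * σΓ u = 1) : ∃ v ∈ UΓ, u = v * (σΓ v)⁻¹ := by
  obtain ⟨a, b, c, d, e, f, hu⟩ := mem_UΓ'.1 hu
  obtain ⟨w, h1⟩ : ∃ w : GF4, w + star w = 1 := ⟨⟨0, 1⟩, by decide⟩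
  have e1 := ut_val (star w * a) (star w * b) (star w * c) (star w * d - star w * a * (star w * b))
      (star w * e) (star w * f - star w * a * (star w * e))
  rw [sub_add_cancel, sub_add_cancel, mf_lin h1, ← hu] at e1
  have e3 : u.1 * u.1.map star = 1 := by
    rw [← σ_val, ← Matrix.SpecialLinearGroup.coe_mul, h, Matrix.SpecialLinearGroup.coe_one]
  have e4 := mf_h90 w e3 e1
  rw [← σ_val, ← Matrix.SpecialLinearGroup.coe_mul] at e4
  have e5 := Subtype.ext e4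
  have hv := ut_mem (star w * a) (star w * b) (star w * c) (star w * d - star w * a * (star w * b))
      (star w * e) (star w * f - star w * a * (star w * e))
  generalize ut _ _ _ _ _ _ = v at e5 hv
  refine ⟨v, hv, ?_⟩
  rw [eq_mul_inv_iff_mul_eq]
  exact e5

/-- fixed points of the field automorphism -/
theorem fix_σ {m : Γ} (h : σΓ m = m) : m ∈ closure {g | ∃ i j, i ≠ j ∧ g = tv i j 1} := by
  have k : ∀ w : GF4, star w = w → algebraMap (ZMod 2) GF4 w.re = w := by decide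
  have e : (algebraMap (ZMod 2) GF4).mapMatrix (m.1.map QuadraticAlgebra.re) = m.1 := by
    ext i j : 1
    exact k _ (congrFun₂ (congrArg Subtype.val h) i j)
  have d : (m.1.map QuadraticAlgebra.re).det = 1 := (algebraMap (ZMod 2) GF4).injective (by
    rw [RingHom.map_det, e, map_one, m.2])
  rw [show m = Matrix.SpecialLinearGroup.map (algebraMap (ZMod 2) GF4) ⟨_, d⟩ from Subtype.ext e.symm]
  refine sl_transvection_induction (fun n => Matrix.SpecialLinearGroup.map (algebraMap (ZMod 2) GF4) n ∈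
    closure {g | ∃ i j, i ≠ j ∧ g = tv i j 1}) (by rw [map_one]; exact one_mem _) (fun i j hij c => ?_)
    (fun A B h1 h2 => by rw [map_mul]; exact mul_mem h1 h2) _
  rcases rel2_cases c with rfl | rfl
  · rw [Matrix.SpecialLinearGroup.transvection_coeff_zero, map_one]; exact one_mem _
  · refine subset_closure ⟨i, j, hij, ?_⟩
    rw [rel2_tv hij]
    refine Matrix.SpecialLinearGroup.ext _ _ fun a b => ?_
    simp only [Matrix.SpecialLinearGroup.map_apply_coe, RingHom.mapMatrix_apply, Matrix.map_apply,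
      Matrix.SpecialLinearGroup.transvection_coe, Matrix.add_apply, map_add, Matrix.one_apply,
      Matrix.single_apply, apply_ite (algebraMap (ZMod 2) GF4), map_one, map_zero]

theorem center_Γ : center Γ = ⊥ := rel2_center

theorem perf_Γ : (⊤ : Subgroup Γ) ≤ ⁅(⊤ : Subgroup Γ), ⊤⁆ :=
  (sl_commutator_eq_top (ι := Fin 4) (F := GF4) (by simp)).ge

end CfsgLib.A8S
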