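import Cfsg.Agent.Lib.A8S.Defs

/-!
# MATF2: computations in the unitriangular group of `SL₄(4)` (plans/A8S.md)
-/

set_option autoImplicit false
set_option linter.unusedSectionVars false
set_option Elab.async false

namespace CfsgLib.A8S.MatFB

open Subgroup Cfsg CfsgLib.Tech CfsgLib.W2 CfsgLib.Classical

/-- unitriangular matrices -/
def um (a b c d e f : GF4) : Γ :=
  ⟨!![1, a, d, f; 0, 1, b, e; 0, 0, 1, c; 0, 0, 0, 1], by
    simp [Matrix.det_succ_column_zero, Fin.sum_univ_succ]⟩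

theorem um_mul (a b c d e f a' b' c' d' e' f' : GF4) : um a b c d e f * um a' b' c' d' e' f' =
    um (a + a') (b + b') (c + c') (d + a * b' + d') (e + b * c' + e') (f + a * e' + d * c' + f') := by
  refine Subtype.ext ?_
  change (um a b c d e f).1 * (um a' b' c' d' e' f').1 = _
  refine Matrix.ext fun i j => ?_
  fin_cases i <;> fin_cases j <;> simp [um, Matrix.mul_apply, Fin.sum_univ_four] <;> ring

theorem um_one : um 0 0 0 0 0 0 = 1 := by
  refine Subtype.ext (Matrix.ext fun i j => ?_)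
  fin_cases i <;> fin_cases j <;> simp [um]

theorem um_inj {a b c d e f a' b' c' d' e' f' : GF4} (h : um a b c d e f = um a' b' c' d' e' f') :
    a = a' ∧ b = b' ∧ c = c' ∧ d = d' ∧ e = e' ∧ f = f' :=
  have k := fun i j => congrFun (congrFun (congrArg Subtype.val h) i) j
  ⟨k 0 1, k 1 2, k 2 3, k 0 2, k 1 3, k 0 3⟩

theorem tv_eq (u : GF4) : tv 0 1 u = um u 0 0 0 0 0 ∧ tv 1 2 u = um 0 u 0 0 0 0 ∧ tv 2 3 u = um 0 0 u 0 0 0 ∧
    tv 0 2 u = um 0 0 0 u 0 0 ∧ tv 1 3 u = um 0 0 0 0 u 0 ∧ tv 0 3 u = um 0 0 0 0 0 u := by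
  refine ⟨?_, ?_, ?_, ?_, ?_, ?_⟩ <;> refine Subtype.ext (Matrix.ext fun i j => ?_) <;>
    fin_cases i <;> fin_cases j <;> simp [um, tv, Matrix.SpecialLinearGroup.transvection, Matrix.transvection]

theorem um_eq (a b c d e f : GF4) :
    um a b c d e f = tv 0 3 f * tv 1 3 e * tv 2 3 c * (tv 0 2 d * tv 1 2 b) * tv 0 1 a := by
  simp [tv_eq, um_mul]

theorem um_mem (a b c d e f : GF4) : um a b c d e f ∈ UΓ := by
  have k : ∀ {i j : Fin 4} (u : GF4), i < j → tv i j u ∈ UΓ := fun u h => subset_closure ⟨_, _, u, h, rfl⟩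
  rw [um_eq]
  exact mul_mem (mul_mem (mul_mem (mul_mem (k _ (by decide)) (k _ (by decide))) (k _ (by decide)))
    (mul_mem (k _ (by decide)) (k _ (by decide)))) (k _ (by decide))

theorem exists_um {m : Γ} (h : m ∈ UΓ) : ∃ a b c d e f, m = um a b c d e f := by
  induction h using closure_induction with
  | mem m hm =>
    obtain ⟨i, j, u, h, rfl⟩ := hm
    obtain ⟨h1, h2, h3, h4, h5, h6⟩ := tv_eq u
    fin_cases i <;> fin_cases j <;> first | exact absurd h (by decide) | exact ⟨_, _, _, _, _, _, by assumption⟩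
  | one => exact ⟨_, _, _, _, _, _, um_one.symm⟩
  | mul _ _ _ _ h1 h2 =>
    obtain ⟨a, b, c, d, e, f, rfl⟩ := h1
    obtain ⟨a', b', c', d', e', f', rfl⟩ := h2
    exact ⟨_, _, _, _, _, _, um_mul ..⟩
  | inv _ _ h1 =>
    obtain ⟨a, b, c, d, e, f, rfl⟩ := h1
    refine ⟨-a, -b, -c, a * b - d, b * c - e, a * e + d * c - a * b * c - f, inv_eq_of_mul_eq_one_right ?_⟩
    rw [um_mul, ← um_one]
    congr 1 <;> ring

theorem σ_um (a b c d e f : GF4) :
    σΓ (um a b c d e f) = um (star a) (star b) (star c) (star d) (star e) (star f) := by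
  refine Subtype.ext (Matrix.ext fun i j => ?_)
  change star ((um a b c d e f).1 i j) = _
  fin_cases i <;> fin_cases j <;> simp [um]

theorem γ_um {γ : Γ →* Γ} (hγ : IsGr γ) (a b c d e f : GF4) :
    γ (um a b c d e f) = um c b a (e + c * b) (d + b * a) (f + c * d + (e + c * b) * a) := by
  rw [um_eq]
  simp only [map_mul, hγ _ _ _]
  simp [tv_eq, um_mul]

theorem exists_el {P : Type} [AddCommGroup P] (F : P → Γ) (h : ∀ p q, F (p + q) = F p * F q)
    (h2 : ∀ p : P, p + p = 0) (hi : Function.Injective F) :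
    ∃ X : Subgroup Γ, El X ∧ Nat.card X = Nat.card P ∧ ∀ m, m ∈ X ↔ ∃ p, F p = m := by
  let φ : Multiplicative P →* Γ := MonoidHom.mk' (fun p => F p.toAdd) fun p q => h _ _
  refine ⟨φ.range, ?_, (Nat.card_congr (MonoidHom.ofInjective (f := φ) hi).toEquiv).symm, fun m => Iff.rfl⟩
  rintro _ ⟨p, rfl⟩
  rw [← map_mul]
  exact (congrArg φ (h2 p.toAdd)).trans φ.map_one

theorem exists_64 (F : GF4 × GF4 × GF4 → Γ) (h : ∀ p q, F (p + q) = F p * F q) (hi : Function.Injective F)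
    {R : Γ → Prop} (hR : ∀ p, R (F p)) : ∃ X : Subgroup Γ, El X ∧ 64 ≤ Nat.card X ∧ ∀ m ∈ X, R m := by
  obtain ⟨X, h1, h2, h3⟩ := exists_el F h (by decide +kernel) hi
  refine ⟨X, h1, by simp [h2, Nat.card_eq_fintype_card, card_GF4], fun m hm => ?_⟩
  obtain ⟨p, rfl⟩ := (h3 m).1 hm
  exact hR p

theorem two : (2 : GF4) = 0 := by decide

/-- a primitive cube root of unity -/
def w : GF4 := ⟨0, 1⟩

set_option synthInstance.maxSize 2000 in
set_option synthInstance.maxHeartbeats 200000 in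
theorem h90g_aux : ∀ a c : GF4, a + star c = 0 → ∀ b : GF4, b + star b = 0 → ∀ d e : GF4,
    d + a * star b + (star e + star c * star b) = 0 → ∀ f : GF4,
    f + a * (star d + star b * star a) + d * star a + (star f + star c * star d + (star e + star c * star b) * star a) = 0 →
    ∃ b' d' f' : GF4, b + star b' = b' ∧ c + star a = 0 ∧ d + a * star b' = d' ∧
      e + b * star a + (star d' + star b' * star a) = 0 ∧
      f + a * (star d' + star b' * star a) + d * star a + star f' = f' := by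
  decide +kernel

/-- Hilbert 90 for the graph-field automorphism -/
theorem h90g {γ : Γ →* Γ} (hγ : IsGr γ) {u : Γ} (hu : u ∈ UΓ) (h : u * γ (σΓ u) = 1) :
    ∃ v ∈ UΓ, u = v * (γ (σΓ v))⁻¹ := by
  obtain ⟨a, b, c, d, e, f, rfl⟩ := exists_um hu
  rw [σ_um, γ_um hγ, um_mul, ← um_one] at h
  obtain ⟨h1, h2, -, h4, -, h6⟩ := um_inj h
  obtain ⟨b', d', f', k1, k2, k3, k4, k5⟩ := h90g_aux a c h1 b h2 d e h4 f h6
  refine ⟨um a b' 0 d' 0 f', um_mem a b' 0 d' 0 f', ?_⟩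
  rw [eq_mul_inv_iff_mul_eq]
  rw [σ_um, γ_um hγ, um_mul]
  congr 1 <;> simp [*]

/-- graph involutions centralise an `E₆₄` -/
theorem gr64 {γ : Γ →* Γ} (hγ : IsGr γ) {u : Γ} (hu : u ∈ UΓ) (h : u * γ u = 1) :
    ∃ X : Subgroup Γ, El X ∧ 64 ≤ Nat.card X ∧ ∀ m ∈ X, u * γ m * u⁻¹ = m := by
  obtain ⟨a, b, c, d, e, f, rfl⟩ := exists_um hu
  rw [γ_um hγ, um_mul, ← um_one] at h
  obtain rfl : a = c := by linear_combination (um_inj h).1 - c * two
  refine exists_64 (fun p => um 0 p.1 0 (p.2.1 + a * p.1) p.2.1 p.2.2) (fun p q => ?_) (fun p q e => ?_) fun p => ?_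
  · rw [um_mul]
    congr 1 <;> simp only [Prod.fst_add, Prod.snd_add] <;> ring
  · obtain ⟨-, h1, -, -, h2, h3⟩ := um_inj e
    exact Prod.ext h1 (Prod.ext h2 h3)
  · rw [mul_inv_eq_iff_eq_mul, γ_um hγ, um_mul, um_mul]
    congr 1 <;> ring

/-- inner involutions centralise an `E₆₄` -/
theorem in64 {u : Γ} (hu : u ∈ UΓ) (h : u * u = 1) :
    ∃ X : Subgroup Γ, El X ∧ 64 ≤ Nat.card X ∧ ∀ m ∈ X, u * m = m * u := by
  obtain ⟨a, b, c, d, e, f, rfl⟩ := exists_um hu
  rw [um_mul, ← um_one] at h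
  obtain ⟨-, -, -, h1, h2, h3⟩ := um_inj h
  replace h1 : a * b = 0 := by linear_combination h1 - d * two
  replace h2 : b * c = 0 := by linear_combination h2 - e * two
  replace h3 : a * e + d * c = 0 := by linear_combination h3 - f * two
  have key : ∀ F : GF4 × GF4 × GF4 → Γ, (∀ p q, F (p + q) = F p * F q) → Function.Injective F →
      ∀ p, F p = um a b c d e f → ∃ X : Subgroup Γ, El X ∧ 64 ≤ Nat.card X ∧
        ∀ m ∈ X, um a b c d e f * m = m * um a b c d e f := fun F k1 k2 p k3 =>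
    exists_64 F k1 k2 fun q => by rw [← k3, ← k1, ← k1, add_comm]
  by_cases ha : a = 0 <;> by_cases hc : c = 0
  · subst ha hc
    refine exists_64 (fun p => um 0 p.1 0 p.2.1 0 p.2.2) (fun p q => ?_) (fun p q e => ?_) fun p => ?_
    · simp [um_mul]
    · obtain ⟨-, h1, -, h2, -, h3⟩ := um_inj e
      exact Prod.ext h1 (Prod.ext h2 h3)
    · simp [um_mul, add_comm]
  · subst ha
    obtain rfl : b = 0 := (mul_eq_zero.1 h2).resolve_right hc
    obtain rfl : d = 0 := by simpa [hc] using h3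
    refine key (fun p => um 0 0 p.1 0 p.2.1 p.2.2) (fun p q => by simp [um_mul]) (fun p q e => ?_) (c, e, f) rfl
    obtain ⟨-, -, h1, -, h2, h3⟩ := um_inj e
    exact Prod.ext h1 (Prod.ext h2 h3)
  · subst hc
    obtain rfl : b = 0 := (mul_eq_zero.1 h1).resolve_left ha
    obtain rfl : e = 0 := by simpa [ha] using h3
    refine key (fun p => um p.1 0 0 p.2.1 0 p.2.2) (fun p q => by simp [um_mul]) (fun p q e => ?_) (a, d, f) rfl
    obtain ⟨h1, -, -, h2, -, h3⟩ := um_inj e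
    exact Prod.ext h1 (Prod.ext h2 h3)
  · obtain rfl : b = 0 := (mul_eq_zero.1 h1).resolve_left ha
    refine key (fun p => um (p.1 * a) 0 (p.2.1 * c) (p.1 * d) (p.2.1 * e) p.2.2) (fun p q => ?_) (fun p q e => ?_)
      (1, 1, f) (by simp)
    · rw [um_mul]
      simp only [Prod.fst_add, Prod.snd_add]
      congr 1
      all_goals first | ring1 | linear_combination -(p.1 * q.2.1) * h3
    · obtain ⟨h1, -, h2, -, -, h3⟩ := um_inj e
      exact Prod.ext (mul_right_cancel₀ ha h1) (Prod.ext (mul_right_cancel₀ hc h2) h3)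

/-- the element of order 5 -/
def f5 : Γ := ⟨!![star w, w, 0, 0; 1, 1, 0, 0; 0, 0, w, star w; 0, 0, 1, 1], by decide +kernel⟩

/-- the `E₁₆` -/
def e16 (p : ZMod 2 × GF4 × ZMod 2) : Γ := um 0 ⟨p.1, 0⟩ 0 p.2.1 (star p.2.1) ⟨p.2.2, 0⟩

/-- the action of `f5` on the `E₁₆` -/
def g5 (p : ZMod 2 × GF4 × ZMod 2) : ZMod 2 × GF4 × ZMod 2 :=
  ((p.2.1 + ⟨p.2.2, 0⟩ + ⟨p.1, 0⟩ + star p.2.1).re,
    star w * (p.2.1 + ⟨p.2.2, 0⟩) + w * (⟨p.1, 0⟩ + star p.2.1),
    (star w * (p.2.1 * star w + ⟨p.2.2, 0⟩ * w) + w * (⟨p.1, 0⟩ * star w + star p.2.1 * w)).re)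

theorem f5_e16 (p : ZMod 2 × GF4 × ZMod 2) : f5 * e16 p = e16 (g5 p) * f5 := by
  refine Subtype.ext ?_
  revert p
  decide +kernel

theorem f5_eq : f5 = tv 0 1 w * tv 2 3 (star w) * (tv 1 0 1 * tv 3 2 1) ∧
    f5 = tv 2 3 (star w) * tv 0 1 w * (tv 3 2 1 * tv 1 0 1) :=
  ⟨Subtype.ext (by decide +kernel), Subtype.ext (by decide +kernel)⟩

theorem σ_tv (i j : Fin 4) (u : GF4) : σΓ (tv i j u) = tv i j (star u) := by
  refine Subtype.ext ?_
  revert i j u
  decide +kernel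

/-- the centraliser of the graph-field automorphism contains `2⁴ : 5` -/
theorem five {γ : Γ →* Γ} (hγ : IsGr γ) : ∃ (X : Subgroup Γ) (f : Γ), El X ∧ Nat.card X = 16 ∧
    (∀ m ∈ X, γ (σΓ m) = m) ∧ γ (σΓ f) = f ∧ (∀ m ∈ X, f * m * f⁻¹ ∈ X) ∧
    ∃ m ∈ X, f ^ 24 * m ≠ m * f ^ 24 := by
  have hi : Function.Injective e16 := fun p q e => by
    obtain ⟨-, h1, -, h2, -, h3⟩ := um_inj e
    exact Prod.ext (congrArg QuadraticAlgebra.re h1) (Prod.ext h2 (congrArg QuadraticAlgebra.re h3))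
  obtain ⟨X, h1, h2, h3⟩ := exists_el e16 (fun p q => by
    rw [e16, e16, e16, um_mul]
    congr 1 <;> revert p q <;> decide +kernel) (by decide +kernel) hi
  have hn : ∀ (n : ℕ) p, f5 ^ n * e16 p = e16 (g5^[n] p) * f5 ^ n := fun n => by
    induction n with
    | zero => simp
    | succ n ih => intro p; rw [pow_succ, mul_assoc, f5_e16, ← mul_assoc, ih, mul_assoc, Function.iterate_succ_apply]
  refine ⟨X, f5, h1, by simp [h2, Nat.card_eq_fintype_card, card_GF4], fun m hm => ?_, ?_, fun m hm => ?_,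
    e16 (1, 0, 0), (h3 _).2 ⟨_, rfl⟩, fun h => ?_⟩
  · obtain ⟨p, rfl⟩ := (h3 m).1 hm
    rw [e16, σ_um, γ_um hγ]
    clear hm
    congr 1 <;> revert p <;> decide +kernel
  · conv_lhs => rw [f5_eq.1]
    conv_rhs => rw [f5_eq.2]
    simp only [map_mul, σ_tv, hγ _ _ _, star_star, star_one]
    rfl
  · obtain ⟨p, rfl⟩ := (h3 m).1 hm
    exact (h3 _).2 ⟨g5 p, by rw [f5_e16, mul_inv_cancel_right]⟩
  · rw [hn, mul_left_inj] at h
    exact absurd (hi h) (by decide +kernel)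

end CfsgLib.A8S.MatFB
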