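import Cfsg.Agent.Lib.A8S.Mod
import Cfsg.Agent.Lib.ClSys.SLPres
import Cfsg.Agent.Lib.A8S.MatFA
import Cfsg.Agent.Lib.A8S.MatFB

/-!
# MATF: computations in `SL₄(4)` (plans/A8S.md)
-/

set_option autoImplicit false
set_option linter.unusedSectionVars false
set_option Elab.async false

namespace CfsgLib.A8S

open Subgroup Cfsg CfsgLib.Tech CfsgLib.W2 CfsgLib.Classical

/-- Hilbert 90 for the graph-field automorphism -/
theorem h90g {γ : Γ →* Γ} (hγ : IsGr γ) {u : Γ} (hu : u ∈ UΓ) (h : u * γ (σΓ u) = 1) :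
    ∃ v ∈ UΓ, u = v * (γ (σΓ v))⁻¹ := MatFB.h90g hγ hu h

/-- graph involutions centralise an `E₆₄` -/
theorem gr64 {γ : Γ →* Γ} (hγ : IsGr γ) {u : Γ} (hu : u ∈ UΓ) (h : u * γ u = 1) :
    ∃ X : Subgroup Γ, El X ∧ 64 ≤ Nat.card X ∧ ∀ m ∈ X, u * γ m * u⁻¹ = m := MatFB.gr64 hγ hu h

/-- inner involutions centralise an `E₆₄` -/
theorem in64 {u : Γ} (hu : u ∈ UΓ) (h : u * u = 1) :
    ∃ X : Subgroup Γ, El X ∧ 64 ≤ Nat.card X ∧ ∀ m ∈ X, u * m = m * u := MatFB.in64 hu h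

/-- the centraliser of the graph-field automorphism contains `2⁴ : 5` -/
theorem five {γ : Γ →* Γ} (hγ : IsGr γ) : ∃ (X : Subgroup Γ) (f : Γ), El X ∧ Nat.card X = 16 ∧
    (∀ m ∈ X, γ (σΓ m) = m) ∧ γ (σΓ f) = f ∧ (∀ m ∈ X, f * m * f⁻¹ ∈ X) ∧
    ∃ m ∈ X, f ^ 24 * m ≠ m * f ^ 24 := MatFB.five hγ

end CfsgLib.A8S
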