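import Cfsg.Agent.Lib.A8S.Defs
import Cfsg.Agent.S2119

/-!
# MOD: small computations in `S₈` (plans/A8S.md)
-/

set_option autoImplicit false
set_option linter.unusedSectionVars false
set_option Elab.async false

namespace CfsgLib.A8S

open Subgroup Cfsg CfsgLib.Tech CfsgLib.W2 CfsgLib.Classical

theorem x_sq : ∀ i j, x i j * x i j = 1 := by decide +kernel
theorem x_ne : ∀ i j, i ≠ j → x i j ≠ 1 := by decide +kernel
theorem x_com : ∀ i j i' j', i ≠ j → i' ≠ j' → i ≠ j' → j ≠ i' → x i j * x i' j' = x i' j' * x i j := by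
  decide +kernel
theorem x_cm : ∀ i j l, i ≠ j → j ≠ l → i ≠ l → x i j * x j l * x i j * x j l = x i l := by
  decide +kernel
theorem nn_z : ∀ i j, i ≠ j → nn i j * z * (nn i j)⁻¹ = x i j := by decide +kernel
theorem nn03 : nn 0 3 = 1 := by decide +kernel
theorem τ_x : ∀ i j, cA τ (x i j) = x j.rev i.rev := by decide +kernel
theorem τ_sq : τ * τ = 1 := by decide +kernel
theorem τ_odd : τ ∉ PG.alt 8 := by decide +kernel
theorem τ_W : τ ∈ W8 := by decide +kernel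
theorem x_W : ∀ i j, i < j → (x i j : S8) ∈ W8 := by decide +kernel
theorem y_E : (y : S8) ∈ E8 ∧ (z : S8) ∈ E8 ∧ y * y = 1 ∧ y ≠ 1 ∧ y ≠ z := by decide +kernel

theorem card_A8 : Nat.card A8 = 20160 := by
  have h : 2 * Nat.card A8 = Nat.factorial 8 := AG.two_mul_card (n := 8)
  have h2 : Nat.factorial 8 = 40320 := by decide
  omega

theorem simple_A8 : IsSimpleGroup A8 := by
  have : IsSimpleGroup (alternatingGroup (Fin 8)) := alternatingGroup.isSimpleGroup (by simp)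
  exact (PG.altE 8).symm.isSimpleGroup

open scoped commutatorElement in
theorem perf_A8 : (⊤ : Subgroup A8) ≤ ⁅(⊤ : Subgroup A8), ⊤⁆ := by
  have := simple_A8
  rcases (inferInstance : (⁅(⊤ : Subgroup A8), (⊤ : Subgroup A8)⁆ :
    Subgroup A8).Normal).eq_bot_or_eq_top with h | h
  · exfalso
    have h1 : ⁅x 0 1, x 1 2⁆ ∈ (⁅(⊤ : Subgroup A8), (⊤ : Subgroup A8)⁆ : Subgroup A8) :=
      commutator_mem_commutator (mem_top _) (mem_top _)
    rw [h, mem_bot, commutatorElement_eq_one_iff_mul_comm] at h1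
    revert h1
    decide +kernel
  · exact h.ge

/-- products of two odd permutations are even -/
theorem mul_odd {p q : S8} (hp : p ∉ PG.alt 8) (hq : q ∉ PG.alt 8) : p * q ∈ PG.alt 8 := by
  obtain ⟨σ, rfl⟩ := (PG.E 8).surjective p
  obtain ⟨ρ, rfl⟩ := (PG.E 8).surjective q
  rw [← map_mul]
  rw [PG.E_mem_alt, Equiv.Perm.mem_alternatingGroup] at hp hq ⊢
  rw [map_mul, (Int.units_eq_one_or _).resolve_left hp, (Int.units_eq_one_or _).resolve_left hq]
  simp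

/-- words for the 3-cycles -/
def wd (j : Fin 8) : List (Fin 4 × Fin 4) :=
  ![[], [], [(0, 3), (1, 0), (0, 1), (0, 2), (2, 3), (3, 2)], [(0, 1), (1, 0), (3, 2), (2, 3)],
    [(1, 3), (2, 0), (0, 2), (3, 1)], [(0, 1), (0, 2), (2, 0), (3, 1), (1, 3), (2, 3)],
    [(1, 0), (0, 1), (2, 0), (2, 3), (3, 2), (2, 1)],
    [(0, 2), (1, 0), (2, 0), (3, 1), (3, 2), (1, 3)]] j

theorem wd_ok : ∀ j : Fin 8, j ≠ 0 → j ≠ 1 →
    ((((wd j).map fun ij => x ij.1 ij.2).prod : A8) : S8) = PG.E 8 (Pres.cyc j 0 1) ∧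
      ∀ ij ∈ wd j, ij.1 ≠ ij.2 := by
  decide +kernel

/-- the root elements generate -/
theorem gen_x {S : Subgroup A8} (h : ∀ i j, i ≠ j → x i j ∈ S) : S = ⊤ := by
  have h1 : PG.alt 8 ≤ S.map (PG.alt 8).subtype := by
    refine PG.alt_le (a := 0) (b := 1) (by decide) fun j h1 h2 => ?_
    rw [← (wd_ok j h1 h2).1]
    refine mem_map_of_mem (PG.alt 8).subtype (S.list_prod_mem ?_)
    intro a ha
    obtain ⟨ij, hij, e⟩ := List.mem_map.1 ha
    rw [← e]
    exact h _ _ ((wd_ok j h1 h2).2 ij hij)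
  refine eq_top_iff.2 fun a _ => ?_
  obtain ⟨b, hb, e⟩ := h1 a.2
  rwa [← Subtype.ext e]

theorem cA_E (σ : Equiv.Perm (Fin 8)) (a : alternatingGroup (Fin 8)) :
    cA (PG.E 8 σ) (PG.altE 8 a) = PG.altE 8 (MulAut.conjNormal σ a) := by
  refine Subtype.ext ?_
  rw [cA_val, PG.altE_val, PG.altE_val, MulAut.conjNormal_apply, map_mul, map_mul, map_inv]

theorem cA_inj {p q : S8} (h : ∀ a, cA p a = cA q a) : p = q := by
  obtain ⟨σ, rfl⟩ := (PG.E 8).surjective p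
  obtain ⟨ρ, rfl⟩ := (PG.E 8).surjective q
  refine congrArg _ ((Cfsg.Agent.S2119.result 8 (by norm_num) (by norm_num)).1 ?_)
  refine MulEquiv.ext fun a => (PG.altE 8).injective ?_
  rw [← cA_E, ← cA_E, h]

/-- every automorphism of `A₈` is induced by `S₈` (S2119) -/
theorem aut_A8 (α : A8 ≃* A8) : ∃ p : S8, ∀ a, α a = cA p a := by
  obtain ⟨σ, hσ⟩ := (Cfsg.Agent.S2119.result 8 (by norm_num) (by norm_num)).2
    (((PG.altE 8).trans α).trans (PG.altE 8).symm)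
  refine ⟨PG.E 8 σ, fun a => ?_⟩
  obtain ⟨b, rfl⟩ := (PG.altE 8).surjective a
  rw [cA_E, hσ]
  simp

theorem supp_of_sq {σ : Equiv.Perm (Fin 8)} (h : σ * σ = 1) :
    σ.support.card = σ.cycleType.card * 2 := by
  have : Fact (Nat.Prime 2) := ⟨Nat.prime_two⟩
  rw [← Equiv.Perm.sum_cycleType,
    Equiv.Perm.cycleType_of_pow_prime_eq_one (p := 2) (by rw [pow_two, h])]
  simp

theorem isConj_of_sq {σ ρ : Equiv.Perm (Fin 8)} (h : σ * σ = 1) (h' : ρ * ρ = 1)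
    (e : σ.support.card = ρ.support.card) : IsConj σ ρ := by
  have : Fact (Nat.Prime 2) := ⟨Nat.prime_two⟩
  rw [supp_of_sq h, supp_of_sq h'] at e
  rw [Equiv.Perm.isConj_iff_cycleType_eq,
    Equiv.Perm.cycleType_of_pow_prime_eq_one (σ := σ) (p := 2) (by rw [pow_two, h]),
    Equiv.Perm.cycleType_of_pow_prime_eq_one (σ := ρ) (p := 2) (by rw [pow_two, h']),
    show σ.cycleType.card = ρ.cycleType.card by omega]

/-- representatives of the classes of involutions -/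
def rp (k : Fin 5) : Equiv.Perm (Fin 8) :=
  ![1, Equiv.swap 0 1, Equiv.swap 0 1 * Equiv.swap 2 3,
    Equiv.swap 0 1 * Equiv.swap 2 3 * Equiv.swap 4 5,
    Equiv.swap 0 1 * Equiv.swap 2 3 * Equiv.swap 4 5 * Equiv.swap 6 7] k

theorem rp_ok : ∀ k : Fin 5, rp k * rp k = 1 ∧ (rp k).support.card = k * 2 := by
  decide +kernel

theorem rp_E : ∀ k : Fin 5, τ * PG.E 8 (rp k) * τ⁻¹ = PG.E 8 (rp k) ∧
    (PG.E 8 (rp k) = 1 ∨ PG.E 8 (rp k) = z ∨ PG.E 8 (rp k) = y ∨ PG.E 8 (rp k) = τ ∨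
      PG.E 8 (rp k) = τ * ys) := by
  decide +kernel

/-- the classes of involutions of `S₈` under `A₈` -/
theorem inv_cls {p : S8} (h : p * p = 1) : ∃ l : A8, l * p * l⁻¹ = 1 ∨ l * p * l⁻¹ = z ∨
    l * p * l⁻¹ = y ∨ l * p * l⁻¹ = τ ∨ l * p * l⁻¹ = τ * ys := by
  obtain ⟨σ, rfl⟩ := (PG.E 8).surjective p
  have hσ : σ * σ = 1 := (PG.E 8).injective (by rw [map_mul, h, map_one])
  have h1 := supp_of_sq hσ
  have h2 : σ.support.card ≤ 8 := (Finset.card_le_univ _).trans (by simp)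
  let k : Fin 5 := ⟨σ.cycleType.card, by omega⟩
  obtain ⟨c, hc⟩ := isConj_iff.1 (isConj_of_sq hσ (rp_ok k).1 (h1.trans (rp_ok k).2.symm))
  have hc' : PG.E 8 c * PG.E 8 σ * (PG.E 8 c)⁻¹ = PG.E 8 (rp k) := by
    rw [← hc, map_mul, map_mul, map_inv]
  obtain ⟨l, hl⟩ : ∃ l : A8, (l : S8) * PG.E 8 σ * (l : S8)⁻¹ = PG.E 8 (rp k) := by
    by_cases he : PG.E 8 c ∈ PG.alt 8
    · exact ⟨⟨_, he⟩, hc'⟩
    · refine ⟨⟨_, mul_odd τ_odd he⟩, ?_⟩
      rw [← (rp_E k).1, ← hc']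
      simp only [mul_inv_rev, mul_assoc]
  refine ⟨l, ?_⟩
  have hl' : (l : S8) * PG.E 8 σ * ((l⁻¹ : A8) : S8) = PG.E 8 (rp k) := hl
  rw [hl']
  exact (rp_E k).2

/-- the even part of `F8` -/
noncomputable def f8L : List A8 := [1, y, y2, y3, y * y2, y * y3, y2 * y3, y * y2 * y3]

theorem f8L_ok : (1 ∈ f8L ∧ f8L.Nodup ∧ (∀ a ∈ f8L, ∀ b ∈ f8L, a * b ∈ f8L) ∧
    ∀ a ∈ f8L, a * a = 1) ∧ ∀ a ∈ f8L, cA 1 a = a ∧ cA z a = a ∧ cA y a = a ∧ cA τ a = a ∧
      cA (τ * ys) a = a := by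
  decide +kernel

/-- the even part of `F8` as a subgroup -/
noncomputable def f8 : Subgroup A8 where
  carrier := {a | a ∈ f8L}
  one_mem' := f8L_ok.1.1
  mul_mem' ha hb := f8L_ok.1.2.2.1 _ ha _ hb
  inv_mem' {a} ha := by
    rw [inv_eq_of_mul_eq_one_right (f8L_ok.1.2.2.2 a ha)]
    exact ha

theorem card_f8 : Nat.card f8 = 8 := by
  have h : (f8 : Set A8) = (f8L.toFinset : Set A8) := by
    ext a
    simp only [List.coe_toFinset]
    rfl
  rw [← SetLike.coe_sort_coe, h, Nat.card_coe_set_eq, Set.ncard_coe_finset,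
    List.toFinset_card_of_nodup f8L_ok.1.2.1]
  rfl

/-- every involution centralises an elementary abelian group of order 8 of `A₈` -/
theorem cen_eight {p : S8} (h : p * p = 1) : ∃ X : Subgroup A8, El X ∧ Nat.card X = 8 ∧
    ∀ a ∈ X, cA p a = a := by
  obtain ⟨l, hl⟩ := inv_cls h
  have key : ∀ a ∈ f8, cA ((l : S8) * p * (l : S8)⁻¹) a = a := by
    intro a ha
    have h0 := f8L_ok.2 a ha
    rcases hl with e | e | e | e | e
    · exact (congrArg (fun q => cA q a) e).trans h0.1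
    · exact (congrArg (fun q => cA q a) e).trans h0.2.1
    · exact (congrArg (fun q => cA q a) e).trans h0.2.2.1
    · exact (congrArg (fun q => cA q a) e).trans h0.2.2.2.1
    · exact (congrArg (fun q => cA q a) e).trans h0.2.2.2.2
  refine ⟨f8.map (MulAut.conj l⁻¹).toMonoidHom, ?_, ?_, ?_⟩
  · rintro _ ⟨a, ha, rfl⟩
    rw [← map_mul, f8L_ok.1.2.2.2 a ha, map_one]
  · rw [card_map_of_injective (MulAut.conj l⁻¹).injective, card_f8]
  · rintro _ ⟨a, ha, rfl⟩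
    have h1 := congrArg Subtype.val (key a ha)
    refine Subtype.ext ?_
    rw [cA_val] at h1 ⊢
    change p * (((l : S8))⁻¹ * a * ((l : S8))⁻¹⁻¹) * p⁻¹ = ((l : S8))⁻¹ * a * ((l : S8))⁻¹⁻¹
    conv_rhs => rw [← h1]
    group

theorem pow_nine {p : S8} (h : p ^ 9 = 1) : p ^ 3 = 1 := by
  obtain ⟨σ, rfl⟩ := (PG.E 8).surjective p
  have hσ : σ ^ 9 = 1 := (PG.E 8).injective (by rw [map_pow, h, map_one])
  suffices h3 : orderOf σ ∣ 3 by rw [← map_pow, orderOf_dvd_iff_pow_eq_one.1 h3, map_one]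
  rw [← Equiv.Perm.lcm_cycleType, Multiset.lcm_dvd]
  intro c hc
  have h1 : c ∣ 9 := (Equiv.Perm.dvd_of_mem_cycleType hc).trans (orderOf_dvd_of_pow_eq_one hσ)
  have h0 : 2 ≤ c := Equiv.Perm.two_le_of_mem_cycleType hc
  have h2 : c ≤ 8 := (Equiv.Perm.le_card_support_of_mem_cycleType hc).trans
    ((Finset.card_le_univ _).trans (by simp))
  interval_cases c <;> omega

end CfsgLib.A8S
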