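import Cfsg.Agent.Lib.A8S.Defs

/-!
# MODB, first part: the elements and orders of `E1, E3, E8, F8, M8` (plans/A8S.md)
-/

set_option autoImplicit false
set_option linter.unusedSectionVars false
set_option Elab.async false

namespace CfsgLib.A8S

open Subgroup Cfsg CfsgLib.Tech CfsgLib.W2 CfsgLib.Classical

/-- the codes of the elements of `C(z)` -/
def mbL : List ℕ :=
  [1144132807, 1144132838, 1144164551, 1144164582, 1144200325, 1144200356, 1144232069, 1144232100,
   1176638663, 1176638694, 1176670407, 1176670438, 1176706181, 1176706212, 1176737925, 1176737956,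
   1213271239, 1213271270, 1213302983, 1213303014, 1213406275, 1213406306, 1213438019, 1213438050,
   1245777095, 1245777126, 1245808839, 1245808870, 1245912131, 1245912162, 1245943875, 1245943906,
   1282477189, 1282477220, 1282508933, 1282508964, 1282544707, 1282544738, 1282576451, 1282576482,
   1314983045, 1314983076, 1315014789, 1315014820, 1315050563, 1315050594, 1315082307, 1315082338,
   34430129351, 34430129382, 34430161095, 34430161126, 34430196869, 34430196900, 34430228613,
   34430228644, 34462635207, 34462635238, 34462666951, 34462666982, 34462702725, 34462702756,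
   34462734469, 34462734500, 34499267783, 34499267814, 34499299527, 34499299558, 34499402819,
   34499402850, 34499434563, 34499434594, 34531773639, 34531773670, 34531805383, 34531805414,
   34531908675, 34531908706, 34531940419, 34531940450, 34568473733, 34568473764, 34568505477,
   34568505508, 34568541251, 34568541282, 34568572995, 34568573026, 34600979589, 34600979620,
   34601011333, 34601011364, 34601047107, 34601047138, 34601078851, 34601078882, 71941887175,
   71941887206, 71941918919, 71941918950, 71941954693, 71941954724, 71941986437, 71941986468,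
   71974393031, 71974393062, 71974424775, 71974424806, 71974460549, 71974460580, 71974492293,
   71974492324, 72080164039, 72080164070, 72080195783, 72080195814, 72080366593, 72080366624,
   72080398337, 72080398368, 72112669895, 72112669926, 72112701639, 72112701670, 72112872449,
   72112872480, 72112904193, 72112904224, 72149369989, 72149370020, 72149401733, 72149401764,
   72149505025, 72149505056, 72149536769, 72149536800, 72181875845, 72181875876, 72181907589,
   72181907620, 72182010881, 72182010912, 72182042625, 72182042656, 105227883719, 105227883750,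
   105227915463, 105227915494, 105227951237, 105227951268, 105227982981, 105227983012,
   105260389575, 105260389606, 105260421319, 105260421350, 105260457093, 105260457124,
   105260488837, 105260488868, 105366160583, 105366160614, 105366192327, 105366192358,
   105366363137, 105366363168, 105366394881, 105366394912, 105398666439, 105398666470,
   105398698183, 105398698214, 105398868993, 105398869024, 105398900737, 105398900768,
   105435366533, 105435366564, 105435398277, 105435398308, 105435501569, 105435501600,
   105435533313, 105435533344, 105467872389, 105467872420, 105467904133, 105467904164,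
   105468007425, 105468007456, 105468039169, 105468039200, 142808779975, 142808780006,
   142808811719, 142808811750, 142808915011, 142808915042, 142808946755, 142808946786,
   142841285831, 142841285862, 142841317575, 142841317606, 142841420867, 142841420898,
   142841452611, 142841452642, 142877918407, 142877918438, 142877950151, 142877950182,
   142878120961, 142878120992, 142878152705, 142878152736, 142910424263, 142910424294,
   142910456007, 142910456038, 142910626817, 142910626848, 142910658561, 142910658592,
   143016330307, 143016330338, 143016362051, 143016362082, 143016397825, 143016397856,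
   143016429569, 143016429600, 143048836163, 143048836194, 143048867907, 143048867938,
   143048903681, 143048903712, 143048935425, 143048935456, 176094776519, 176094776550,
   176094808263, 176094808294, 176094911555, 176094911586, 176094943299, 176094943330,
   176127282375, 176127282406, 176127314119, 176127314150, 176127417411, 176127417442,
   176127449155, 176127449186, 176163914951, 176163914982, 176163946695, 176163946726,
   176164117505, 176164117536, 176164149249, 176164149280, 176196420807, 176196420838,
   176196452551, 176196452582, 176196623361, 176196623392, 176196655105, 176196655136,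
   176302326851, 176302326882, 176302358595, 176302358626, 176302394369, 176302394400,
   176302426113, 176302426144, 176334832707, 176334832738, 176334864451, 176334864482,
   176334900225, 176334900256, 176334931969, 176334932000, 213675740293, 213675740324,
   213675772037, 213675772068, 213675807811, 213675807842, 213675839555, 213675839586,
   213708246149, 213708246180, 213708277893, 213708277924, 213708313667, 213708313698,
   213708345411, 213708345442, 213744878725, 213744878756, 213744910469, 213744910500,
   213745013761, 213745013792, 213745045505, 213745045536, 213777384581, 213777384612,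
   213777416325, 213777416356, 213777519617, 213777519648, 213777551361, 213777551392,
   213814084675, 213814084706, 213814116419, 213814116450, 213814152193, 213814152224,
   213814183937, 213814183968, 213846590531, 213846590562, 213846622275, 213846622306,
   213846658049, 213846658080, 213846689793, 213846689824, 246961736837, 246961736868,
   246961768581, 246961768612, 246961804355, 246961804386, 246961836099, 246961836130,
   246994242693, 246994242724, 246994274437, 246994274468, 246994310211, 246994310242,
   246994341955, 246994341986, 247030875269, 247030875300, 247030907013, 247030907044,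
   247031010305, 247031010336, 247031042049, 247031042080, 247063381125, 247063381156,
   247063412869, 247063412900, 247063516161, 247063516192, 247063547905, 247063547936,
   247100081219, 247100081250, 247100112963, 247100112994, 247100148737, 247100148768,
   247100180481, 247100180512, 247132587075, 247132587106, 247132618819, 247132618850,
   247132654593, 247132654624, 247132686337, 247132686368]

/-- a test for codes of elements of `C(z)` -/
noncomputable def mbT (a : ℕ) : Bool :=
  allN (fun i => Nat.beq (Mathieu.app (z : S8).1 (Mathieu.app a i)) (Mathieu.app a (Mathieu.app (z : S8).1 i))) 8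

/-- the elements of `C(z)` -/
noncomputable def mbS : List S8 := mbL.map PG.pe

theorem mb_all : allP 8 (fun a => Bool.rec true (mbL.any (Nat.beq a)) (mbT a)) 8 0 0 = true := by
  decide +kernel

theorem mb_mem {p : S8} (h : (z : S8) * p = p * z) : p ∈ mbS := by
  have h1 := PG.forall_of_allP mb_all p
  have h2 : mbT p.1 = true := by
    obtain ⟨σ, rfl⟩ := (PG.E 8).surjective p
    obtain ⟨ζ, hζ⟩ := (PG.E 8).surjective (z : S8)
    rw [← hζ, ← map_mul, ← map_mul, (PG.E 8).apply_eq_iff_eq] at h
    rw [mbT, allN_iff, ← hζ]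
    intro i hi
    rw [CG.eqv_val, CG.eqv_val, app_pc' σ hi, app_pc' ζ hi, app_pc, app_pc, ← Equiv.Perm.mul_apply, h,
      Equiv.Perm.mul_apply, Nat.beq_refl]
  rw [h2] at h1
  obtain ⟨a, ha, e⟩ := List.any_eq_true.1 h1
  exact List.mem_map.2 ⟨a, ha, by rw [← Nat.eq_of_beq_eq_true e, PG.pe_val]⟩

theorem mb_nodup : mbS.Nodup := by
  refine List.Nodup.of_map Subtype.val ?_
  rw [show mbS.map Subtype.val = mbL by decide +kernel]
  exact (List.isChain_iff_pairwise.1 (by decide +kernel : mbL.IsChain (· < ·))).imp ne_of_lt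

theorem mb_card (Q : S8 → Prop) [DecidablePred Q] (h : ∀ p, Q p → (z : S8) * p = p * z) :
    Nat.card {p // Q p} = mbS.countP fun p => decide (Q p) := by
  rw [List.countP_eq_length_filter, ← List.toFinset_card_of_nodup (mb_nodup.filter _)]
  exact Nat.subtype_card _ fun p => by simpa using fun hp => mb_mem (h p hp)

theorem mb_card' (X : Subgroup S8) [DecidablePred (· ∈ X)] (h : ∀ p ∈ X, (z : S8) * p = p * z) :
    Nat.card (X.subgroupOf (PG.alt 8)) = mbS.countP fun p => decide (p ∈ X ∧ p ∈ PG.alt 8) := by
  rw [← card_map_of_injective (PG.alt 8).subtype_injective, subgroupOf_map_subtype]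
  exact mb_card (fun p => p ∈ X ∧ p ∈ PG.alt 8) fun p hp => h p hp.1

theorem mb_E1 (p : S8) (h : p ∈ E1) : (z : S8) * p = p * z := h _ (by simp)
theorem mb_E3 (p : S8) (h : p ∈ E3) : (z : S8) * p = p * z := h _ (by simp)
theorem mb_E8 (p : S8) (h : p ∈ E8) : (z : S8) * p = p * z := h _ (by simp)
theorem mb_F8 (p : S8) (h : p ∈ F8) : (z : S8) * p = p * z := by
  have h1 : Commute (y : S8) p := h _ (by simp)
  have h2 : Commute (y2 : S8) p := h _ (by simp)
  have h3 : Commute (y3 : S8) p := h _ (by simp)
  rw [show (z : S8) = y * y2 * y3 by decide +kernel]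
  exact (h1.mul_left h2).mul_left h3
theorem mb_M8 (p : S8) (h : p ∈ M8) : (z : S8) * p = p * z := by
  have h1 : Commute (y : S8) p := h _ (by simp)
  have h2 : Commute ((y : S8) * z) p := h _ (by simp)
  rw [show (z : S8) = y * (y * z) by decide +kernel]
  exact h1.mul_left h2

/-- the elements of `E1` -/
theorem E1_cases {p : S8} (h : p ∈ E1) : ∃ i < 2, ∃ j < 2, ∃ k < 2,
    p = (x 0 1 ^ i * x 0 2 ^ j * x 0 3 ^ k : A8) :=
  (by decide +kernel : ∀ p ∈ mbS, p ∈ E1 → ∃ i < 2, ∃ j < 2, ∃ k < 2,
    p = (x 0 1 ^ i * x 0 2 ^ j * x 0 3 ^ k : A8)) p (mb_mem (mb_E1 p h)) h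

theorem E3_cases {p : S8} (h : p ∈ E3) : ∃ i < 2, ∃ j < 2, ∃ k < 2,
    p = (x 0 3 ^ i * x 1 3 ^ j * x 2 3 ^ k : A8) :=
  (by decide +kernel : ∀ p ∈ mbS, p ∈ E3 → ∃ i < 2, ∃ j < 2, ∃ k < 2,
    p = (x 0 3 ^ i * x 1 3 ^ j * x 2 3 ^ k : A8)) p (mb_mem (mb_E3 p h)) h

theorem E8_cases {p : S8} (h : p ∈ E8) : ∃ i < 2, ∃ j < 2, ∃ k < 2, ∃ l < 2,
    p = (x 0 2 ^ i * x 0 3 ^ j * x 1 2 ^ k * x 1 3 ^ l : A8) :=
  (by decide +kernel : ∀ p ∈ mbS, p ∈ E8 → ∃ i < 2, ∃ j < 2, ∃ k < 2, ∃ l < 2,
    p = (x 0 2 ^ i * x 0 3 ^ j * x 1 2 ^ k * x 1 3 ^ l : A8)) p (mb_mem (mb_E8 p h)) h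

theorem F8_cases {p : S8} (h : p ∈ F8) : ∃ i < 2, ∃ j < 2, ∃ k < 2, ∃ l < 2,
    p = τ ^ i * (y ^ j * y2 ^ k * y3 ^ l : A8) :=
  (by decide +kernel : ∀ p ∈ mbS, p ∈ F8 → ∃ i < 2, ∃ j < 2, ∃ k < 2, ∃ l < 2,
    p = τ ^ i * (y ^ j * y2 ^ k * y3 ^ l : A8)) p (mb_mem (mb_F8 p h)) h

theorem M8_cases {p : S8} (h : p ∈ M8) : ∃ i < 2, ∃ j < 2, ∃ k < 2, ∃ l < 2,
    p = τ ^ i * (y ^ j * (y * z) ^ k * y4 ^ l : A8) :=
  (by decide +kernel : ∀ p ∈ mbS, p ∈ M8 → ∃ i < 2, ∃ j < 2, ∃ k < 2, ∃ l < 2,
    p = τ ^ i * (y ^ j * (y * z) ^ k * y4 ^ l : A8)) p (mb_mem (mb_M8 p h)) h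

theorem el_E1 : El E1 ∧ Nat.card E1 = 8 ∧ E1 ≤ PG.alt 8 ∧ E1 ≤ W8 := by
  have h := fun p hp => (by decide +kernel : ∀ p ∈ mbS, p ∈ E1 → p * p = 1 ∧ p ∈ PG.alt 8 ∧ p ∈ W8) p
    (mb_mem (mb_E1 p hp)) hp
  exact ⟨fun p hp => (h p hp).1, (mb_card _ mb_E1).trans (by decide +kernel),
    fun p hp => (h p hp).2.1, fun p hp => (h p hp).2.2⟩

theorem el_E3 : El E3 ∧ Nat.card E3 = 8 ∧ E3 ≤ PG.alt 8 ∧ E3 ≤ W8 := by
  have h := fun p hp => (by decide +kernel : ∀ p ∈ mbS, p ∈ E3 → p * p = 1 ∧ p ∈ PG.alt 8 ∧ p ∈ W8) p
    (mb_mem (mb_E3 p hp)) hp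
  exact ⟨fun p hp => (h p hp).1, (mb_card _ mb_E3).trans (by decide +kernel),
    fun p hp => (h p hp).2.1, fun p hp => (h p hp).2.2⟩

theorem el_E8 : El E8 ∧ Nat.card E8 = 16 ∧ E8 ≤ PG.alt 8 ∧ E8 ≤ W8 := by
  have h := fun p hp => (by decide +kernel : ∀ p ∈ mbS, p ∈ E8 → p * p = 1 ∧ p ∈ PG.alt 8 ∧ p ∈ W8) p
    (mb_mem (mb_E8 p hp)) hp
  exact ⟨fun p hp => (h p hp).1, (mb_card _ mb_E8).trans (by decide +kernel),
    fun p hp => (h p hp).2.1, fun p hp => (h p hp).2.2⟩

theorem el_F8 : El F8 ∧ Nat.card F8 = 16 ∧ τ ∈ F8 ∧ F8 ≤ W8 := by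
  have h := fun p hp => (by decide +kernel : ∀ p ∈ mbS, p ∈ F8 → p * p = 1 ∧ p ∈ W8) p
    (mb_mem (mb_F8 p hp)) hp
  exact ⟨fun p hp => (h p hp).1, (mb_card _ mb_F8).trans (by decide +kernel), by decide +kernel,
    fun p hp => (h p hp).2⟩

theorem el_M8 : El M8 ∧ Nat.card M8 = 16 ∧ τ ∈ M8 ∧ M8 ≤ W8 := by
  have h := fun p hp => (by decide +kernel : ∀ p ∈ mbS, p ∈ M8 → p * p = 1 ∧ p ∈ W8) p
    (mb_mem (mb_M8 p hp)) hp
  exact ⟨fun p hp => (h p hp).1, (mb_card _ mb_M8).trans (by decide +kernel), by decide +kernel,
    fun p hp => (h p hp).2⟩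

/-- orders of the even parts -/
theorem card_even : Nat.card (E1.subgroupOf (PG.alt 8)) = 8 ∧ Nat.card (E3.subgroupOf (PG.alt 8)) = 8 ∧
    Nat.card (E8.subgroupOf (PG.alt 8)) = 16 ∧ Nat.card (F8.subgroupOf (PG.alt 8)) = 8 ∧
    Nat.card (M8.subgroupOf (PG.alt 8)) = 8 ∧ Nat.card (W8.subgroupOf (PG.alt 8)) = 64 :=
  ⟨(mb_card' _ mb_E1).trans (by decide +kernel), (mb_card' _ mb_E3).trans (by decide +kernel),
    (mb_card' _ mb_E8).trans (by decide +kernel), (mb_card' _ mb_F8).trans (by decide +kernel),
    (mb_card' _ mb_M8).trans (by decide +kernel),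
    (mb_card' W8 fun _ h => (mem_W8.1 h).1).trans (by decide +kernel)⟩

end CfsgLib.A8S
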