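import Cfsg.Agent.Lib.A8S.Mod

/-!
# MODB2: the centraliser of `z` and the Sylow subgroup `W8` (plans/A8S.md)
-/

set_option autoImplicit false
set_option linter.unusedSectionVars false
set_option Elab.async false
set_option maxRecDepth 100000

namespace CfsgLib.A8S

open Subgroup Cfsg CfsgLib.Tech CfsgLib.W2 CfsgLib.Classical

/-- the codes of the elements of `C(z)` -/
def Lz : List ℕ := [
  1144132807, 1144132838, 1144164551, 1144164582, 1144200325, 1144200356, 1144232069, 1144232100,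
  1176638663, 1176638694, 1176670407, 1176670438, 1176706181, 1176706212, 1176737925, 1176737956,
  1213271239, 1213271270, 1213302983, 1213303014, 1213406275, 1213406306, 1213438019, 1213438050,
  1245777095, 1245777126, 1245808839, 1245808870, 1245912131, 1245912162, 1245943875, 1245943906,
  1282477189, 1282477220, 1282508933, 1282508964, 1282544707, 1282544738, 1282576451, 1282576482,
  1314983045, 1314983076, 1315014789, 1315014820, 1315050563, 1315050594, 1315082307, 1315082338,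
  34430129351, 34430129382, 34430161095, 34430161126, 34430196869, 34430196900, 34430228613,
  34430228644, 34462635207, 34462635238, 34462666951, 34462666982, 34462702725, 34462702756,
  34462734469, 34462734500, 34499267783, 34499267814, 34499299527, 34499299558, 34499402819,
  34499402850, 34499434563, 34499434594, 34531773639, 34531773670, 34531805383, 34531805414,
  34531908675, 34531908706, 34531940419, 34531940450, 34568473733, 34568473764, 34568505477,
  34568505508, 34568541251, 34568541282, 34568572995, 34568573026, 34600979589, 34600979620,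
  34601011333, 34601011364, 34601047107, 34601047138, 34601078851, 34601078882, 71941887175,
  71941887206, 71941918919, 71941918950, 71941954693, 71941954724, 71941986437, 71941986468,
  71974393031, 71974393062, 71974424775, 71974424806, 71974460549, 71974460580, 71974492293,
  71974492324, 72080164039, 72080164070, 72080195783, 72080195814, 72080366593, 72080366624,
  72080398337, 72080398368, 72112669895, 72112669926, 72112701639, 72112701670, 72112872449,
  72112872480, 72112904193, 72112904224, 72149369989, 72149370020, 72149401733, 72149401764,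
  72149505025, 72149505056, 72149536769, 72149536800, 72181875845, 72181875876, 72181907589,
  72181907620, 72182010881, 72182010912, 72182042625, 72182042656, 105227883719, 105227883750,
  105227915463, 105227915494, 105227951237, 105227951268, 105227982981, 105227983012, 105260389575,
  105260389606, 105260421319, 105260421350, 105260457093, 105260457124, 105260488837, 105260488868,
  105366160583, 105366160614, 105366192327, 105366192358, 105366363137, 105366363168, 105366394881,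
  105366394912, 105398666439, 105398666470, 105398698183, 105398698214, 105398868993, 105398869024,
  105398900737, 105398900768, 105435366533, 105435366564, 105435398277, 105435398308, 105435501569,
  105435501600, 105435533313, 105435533344, 105467872389, 105467872420, 105467904133, 105467904164,
  105468007425, 105468007456, 105468039169, 105468039200, 142808779975, 142808780006, 142808811719,
  142808811750, 142808915011, 142808915042, 142808946755, 142808946786, 142841285831, 142841285862,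
  142841317575, 142841317606, 142841420867, 142841420898, 142841452611, 142841452642, 142877918407,
  142877918438, 142877950151, 142877950182, 142878120961, 142878120992, 142878152705, 142878152736,
  142910424263, 142910424294, 142910456007, 142910456038, 142910626817, 142910626848, 142910658561,
  142910658592, 143016330307, 143016330338, 143016362051, 143016362082, 143016397825, 143016397856,
  143016429569, 143016429600, 143048836163, 143048836194, 143048867907, 143048867938, 143048903681,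
  143048903712, 143048935425, 143048935456, 176094776519, 176094776550, 176094808263, 176094808294,
  176094911555, 176094911586, 176094943299, 176094943330, 176127282375, 176127282406, 176127314119,
  176127314150, 176127417411, 176127417442, 176127449155, 176127449186, 176163914951, 176163914982,
  176163946695, 176163946726, 176164117505, 176164117536, 176164149249, 176164149280, 176196420807,
  176196420838, 176196452551, 176196452582, 176196623361, 176196623392, 176196655105, 176196655136,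
  176302326851, 176302326882, 176302358595, 176302358626, 176302394369, 176302394400, 176302426113,
  176302426144, 176334832707, 176334832738, 176334864451, 176334864482, 176334900225, 176334900256,
  176334931969, 176334932000, 213675740293, 213675740324, 213675772037, 213675772068, 213675807811,
  213675807842, 213675839555, 213675839586, 213708246149, 213708246180, 213708277893, 213708277924,
  213708313667, 213708313698, 213708345411, 213708345442, 213744878725, 213744878756, 213744910469,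
  213744910500, 213745013761, 213745013792, 213745045505, 213745045536, 213777384581, 213777384612,
  213777416325, 213777416356, 213777519617, 213777519648, 213777551361, 213777551392, 213814084675,
  213814084706, 213814116419, 213814116450, 213814152193, 213814152224, 213814183937, 213814183968,
  213846590531, 213846590562, 213846622275, 213846622306, 213846658049, 213846658080, 213846689793,
  213846689824, 246961736837, 246961736868, 246961768581, 246961768612, 246961804355, 246961804386,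
  246961836099, 246961836130, 246994242693, 246994242724, 246994274437, 246994274468, 246994310211,
  246994310242, 246994341955, 246994341986, 247030875269, 247030875300, 247030907013, 247030907044,
  247031010305, 247031010336, 247031042049, 247031042080, 247063381125, 247063381156, 247063412869,
  247063412900, 247063516161, 247063516192, 247063547905, 247063547936, 247100081219, 247100081250,
  247100112963, 247100112994, 247100148737, 247100148768, 247100180481, 247100180512, 247132587075,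
  247132587106, 247132618819, 247132618850, 247132654593, 247132654624, 247132686337, 247132686368]

/-- test on the image of `i` -/
def czT (a i : ℕ) : Bool :=
  Nat.beq (Mathieu.app 213814152193 (Mathieu.app a i)) (Mathieu.app a (Mathieu.app 213814152193 i))

theorem cz_enum : allP 8 (fun a => !(czT a 0 && czT a 2 && czT a 4 && czT a 6) || Lz.elem a) 8 0 0 = true := by
  decide +kernel

theorem z_code : (z : S8).1 = 213814152193 := by decide +kernel

theorem app_mul (a b : S8) {i : ℕ} (hi : i < 8) :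
    Mathieu.app (a * b).1 i = Mathieu.app a.1 (Mathieu.app b.1 i) :=
  Mathieu.app_pack (f := fun i => Mathieu.app a.1 (Mathieu.app b.1 i)) (fun _ _ => Mathieu.app_lt _ _) hi

theorem mem_Lz {p : S8} (h : (z : S8) * p = p * z) : p.1 ∈ Lz := by
  have h1 : ∀ i < 8, czT p.1 i = true := fun i hi => by
    rw [czT, Nat.beq_eq, ← z_code, ← app_mul _ _ hi, ← app_mul _ _ hi, h]
  have := PG.forall_of_allP cz_enum p
  rw [h1 0 (by omega), h1 2 (by omega), h1 4 (by omega), h1 6 (by omega)] at this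
  simpa using this

/-- a property of all elements of `C(z)` -/
theorem forall_Cz {P : S8 → Prop} (h : ∀ a ∈ Lz, P (PG.pe a)) {p : S8} (hp : (z : S8) * p = p * z) :
    P p := by
  simpa only [PG.pe_val] using h _ (mem_Lz hp)

theorem Lz_nodup : Lz.Nodup :=
  (List.isChain_iff_pairwise.1 (by decide +kernel : Lz.IsChain (· < ·))).imp ne_of_lt

theorem Lz_val : ∀ a ∈ Lz, (PG.pe a : S8).1 = a := by decide +kernel

/-- counting inside `C(z)` -/
theorem card_of_list (P : S8 → Prop) [DecidablePred P] (h : ∀ p, P p → (z : S8) * p = p * z) :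
    Nat.card {p // P p} = (Lz.filter fun a => decide (P (PG.pe a))).length := by
  rw [← List.toFinset_card_of_nodup (Lz_nodup.filter _), ← Nat.card_eq_finsetCard]
  refine Nat.card_congr ⟨fun p => ⟨p.1.1, ?_⟩, fun a => ⟨PG.pe a.1, ?_⟩, fun p => ?_, fun a => ?_⟩
  · rw [List.mem_toFinset, List.mem_filter, PG.pe_val]
    exact ⟨mem_Lz (h _ p.2), decide_eq_true p.2⟩
  · exact of_decide_eq_true (List.mem_filter.1 (List.mem_toFinset.1 a.2)).2
  · exact Subtype.ext (PG.pe_val _)
  · exact Subtype.ext (Lz_val _ (List.mem_filter.1 (List.mem_toFinset.1 a.2)).1)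

theorem card_sub_alt (X : Subgroup S8) :
    Nat.card (X.subgroupOf (PG.alt 8)) = Nat.card {p : S8 // p ∈ X ∧ p ∈ PG.alt 8} :=
  Nat.card_congr ⟨fun a => ⟨a.1.1, a.2, a.1.2⟩, fun p => ⟨⟨p.1, p.2.2⟩, p.2.1⟩, fun _ => rfl, fun _ => rfl⟩

theorem card_W8 : Nat.card W8 = 128 :=
  (card_of_list (· ∈ W8) fun _ h => h.1).trans (by decide +kernel)

theorem card_U8 : Nat.card (W8.subgroupOf (PG.alt 8)) = 64 :=
  (card_sub_alt W8).trans ((card_of_list (fun p => p ∈ W8 ∧ p ∈ PG.alt 8) fun _ h => h.1.1).trans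
    (by decide +kernel))

theorem card_S8 : Nat.card S8 = 40320 := by
  rw [← Nat.card_congr (PG.E 8).toEquiv, Nat.card_perm, Nat.card_fin]
  rfl

theorem syl_W8 : IsSylowIn 2 W8 ⊤ := by
  refine ⟨le_top, IsPGroup.of_card (n := 7) card_W8, ?_⟩
  have := W8.card_mul_index
  rw [card_W8, card_S8] at this
  rw [relIndex_top_right]
  omega

theorem syl_U8 : IsSylowIn 2 (W8.subgroupOf (PG.alt 8)) ⊤ := by
  refine ⟨le_top, IsPGroup.of_card (n := 6) card_U8, ?_⟩
  have := (W8.subgroupOf (PG.alt 8)).card_mul_index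
  rw [card_U8, card_A8] at this
  rw [relIndex_top_right]
  omega

/-- the generators of `C_L(z)` -/
noncomputable def gz (i : ℕ) : A8 := if i = 0 then x 0 1 else if i = 1 then x 1 2 else if i = 2 then x 2 3 else x 2 1

/-- words -/
noncomputable def wz : List ℕ → A8
  | [] => 1
  | i :: w => gz i * wz w

theorem wz_mem {S : Subgroup A8} : ∀ {w : List ℕ}, (∀ i ∈ w, gz i ∈ S) → wz w ∈ S
  | [], _ => S.one_mem
  | _ :: _, h => S.mul_mem (h _ List.mem_cons_self) (wz_mem fun i hi => h i (List.mem_cons_of_mem _ hi))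

/-- the even elements of `C(z)` as words -/
def Tz : List (ℕ × List ℕ) := [
  (1144132807, [2, 1, 0, 1, 2]), (1144164582, [2, 1, 2, 1, 0]), (1144200325, [0, 1]),
  (1144232100, [1, 2, 0, 1, 2, 1]), (1176638694, [2, 1, 0, 1, 0]), (1176670407, [1, 2, 1]),
  (1176706212, [0, 1, 2, 0]), (1176737925, [1, 0, 1, 2, 1, 0]), (1213271239, [1, 3, 0, 1]),
  (1213303014, [0, 1, 3, 2, 0, 1, 2]), (1213406275, [1, 3, 2, 1, 0, 1, 2]),
  (1213438050, [2, 1, 3, 0]), (1245777126, [0, 1, 3, 1, 2]), (1245808839, [0, 1, 3, 2, 0, 1, 0]),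
  (1245912162, [1, 2, 1, 0, 1, 3]), (1245943875, [2, 1, 3, 2]),
  (1282477189, [3, 1, 2, 1, 0, 1, 2]), (1282508964, [3, 2, 1, 2, 0]), (1282544707, [3, 1, 0, 1]),
  (1282576482, [0, 1, 2, 1, 3]), (1314983076, [3, 1, 2, 1, 0, 1, 0]), (1315014789, [3, 2, 1]),
  (1315050594, [1, 0, 1, 3, 2]), (1315082307, [3, 0, 1, 2, 1, 0]), (34430129382, [0, 1, 2, 1, 0]),
  (34430161095, [1, 0, 1, 2, 0]), (34430196900, [2, 1]), (34430228613, [1, 2, 1, 0, 1, 0]),
  (34462635207, [2, 0, 1, 2, 1]), (34462666982, [1, 0, 1]), (34462702725, [2, 1, 2, 0]),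
  (34462734500, [1, 2, 1, 0, 1, 2]), (34499267814, [1, 3, 2, 1]),
  (34499299527, [2, 1, 3, 2, 0, 1, 0]), (34499402850, [1, 3, 0, 1, 2, 1, 0]),
  (34499434563, [0, 1, 3, 2]), (34531773639, [2, 1, 3, 1, 0]),
  (34531805414, [2, 1, 3, 2, 0, 1, 2]), (34531908675, [1, 0, 1, 2, 1, 3]),
  (34531940450, [0, 1, 3, 0]), (34568473764, [3, 1, 0, 1, 2, 1, 0]),
  (34568505477, [3, 0, 1, 2, 0]), (34568541282, [3, 1, 2, 1]), (34568572995, [2, 1, 0, 1, 3]),
  (34600979589, [3, 1, 2, 0, 1, 2, 1]), (34601011364, [3, 0, 1]), (34601047107, [1, 2, 1, 3, 0]),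
  (34601078882, [3, 2, 1, 0, 1, 2]), (71941887175, [1, 0]), (71941918950, [2, 0, 1, 2]),
  (71941954693, [1, 2, 1, 0, 1, 2, 1]), (71941986468, [2, 1, 2, 0, 1]), (71974393062, [1, 2]),
  (71974424775, [2, 0, 1, 0]), (71974460580, [1, 0, 1, 2, 1, 0, 1]),
  (71974492293, [0, 1, 2, 0, 1]), (72080164039, [2, 1, 0, 1, 3, 2, 1]),
  (72080195814, [0, 1, 2, 1, 3, 0, 1]), (72080366593, [3]), (72080398368, [1, 2, 0, 1, 3]),
  (72112669926, [3, 1, 2, 1, 0, 1]), (72112701639, [3, 1, 0, 1, 2, 1]), (72112872480, [3, 2, 0]),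
  (72112904193, [3, 0, 1, 2, 0, 1, 0]), (72149369989, [0, 1, 3, 1]), (72149401764, [2, 1, 3, 1]),
  (72149505025, [2, 1, 0, 1, 2, 1, 3, 0]), (72149536800, [1, 3, 1, 2, 0, 1, 2, 0]),
  (72181875876, [1, 3, 0, 1, 2]), (72181907589, [1, 3, 2, 1, 0]),
  (72182010912, [0, 1, 3, 2, 1, 0, 1]), (72182042625, [1, 3, 1, 2, 0, 1]),
  (105227883750, [1, 0, 1, 2, 0, 1]), (105227915463, [0, 1, 2, 1, 0, 1]),
  (105227951268, [1, 2, 0, 1, 0]), (105227982981, [2]), (105260389575, [2, 1, 2, 1, 0, 1]),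
  (105260421350, [2, 1, 0, 1, 2, 1]), (105260457093, [1, 2, 0, 1, 2]), (105260488868, [0]),
  (105366160614, [3, 2, 1, 0]), (105366192327, [3, 0, 1, 2]), (105366363168, [3, 1, 2, 0, 1]),
  (105366394881, [1, 0, 1, 3, 2, 1, 0, 1]), (105398666439, [3, 2, 1, 2]),
  (105398698214, [3, 0, 1, 0]), (105398868993, [3, 1, 2, 0, 1, 2, 0]),
  (105398900768, [3, 1, 2, 1, 0, 1, 2, 1, 0]), (105435366564, [0, 1, 3, 2, 0, 1]),
  (105435398277, [2, 1, 3, 2, 0, 1]), (105435501600, [2, 0, 1, 3, 2, 0]),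
  (105435533313, [1, 3, 2, 0]), (105467872389, [0, 1, 3, 2, 0, 1, 2, 0]),
  (105467904164, [2, 1, 3, 2, 0, 1, 2, 0]), (105468007425, [2, 0, 1, 3]), (105468039200, [1, 3]),
  (142808779975, [2, 1, 0, 1, 2, 1, 3]), (142808811750, [2, 0, 1, 3, 0]),
  (142808915011, [1, 3, 1, 0]), (142808946786, [1, 3, 2, 0, 1, 2]),
  (142841285862, [0, 1, 2, 1, 0, 1, 3]), (142841317575, [2, 0, 1, 3, 2]),
  (142841420898, [1, 3, 1, 2]), (142841452611, [1, 3, 2, 0, 1, 0]), (142877918407, [1, 0, 1, 3]),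
  (142877950182, [1, 2, 1, 3]), (142878120961, [3, 2, 1, 0, 1, 2, 1, 0]),
  (142878152736, [3, 2, 0, 1, 2, 0]), (142910424294, [3, 1, 0, 1, 2]),
  (142910456007, [3, 1, 2, 1, 0]), (142910626848, [3, 0, 1, 2, 1, 0, 1, 0]),
  (142910658561, [3, 2, 0, 1]), (143016330307, [2, 1, 0, 1, 2, 0]),
  (143016362082, [2, 0, 1, 2, 1, 0]), (143016397825, [1]), (143016429600, [2, 1, 2, 1, 0, 1, 0]),
  (143048836194, [2, 1, 0, 1]), (143048867907, [0, 1, 2, 1]), (143048903712, [1, 2, 0]),
  (143048935425, [1, 0, 1, 2, 0, 1, 0]), (176094776550, [1, 3, 1, 2, 0, 1, 0]),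
  (176094808263, [1, 3, 2]), (176094911586, [0, 1, 3, 2, 1]),
  (176094943299, [2, 0, 1, 3, 2, 0, 1, 0]), (176127282375, [1, 3, 1, 2, 0, 1, 2]),
  (176127314150, [1, 3, 0]), (176127417411, [2, 1, 3, 0, 1]),
  (176127449186, [1, 3, 2, 1, 0, 1, 2, 1]), (176163914982, [3, 0, 1, 2, 1]),
  (176163946695, [3, 2, 1, 0, 1]), (176164117536, [1, 0, 1, 3, 2, 1, 0]),
  (176164149249, [3, 1, 2, 0]), (176196420807, [0, 1, 2, 1, 3, 0]),
  (176196452582, [2, 1, 0, 1, 3, 2]), (176196623361, [1, 2, 0, 1, 3, 1]), (176196655136, [3, 1]),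
  (176302326882, [1, 2, 1, 0]), (176302358595, [1, 0, 1, 2]), (176302394400, [2, 0, 1]),
  (176302426113, [0, 1, 2, 1, 0, 1, 0]), (176334832707, [2, 1, 2, 1]),
  (176334864482, [1, 0, 1, 0]), (176334900225, [2, 0, 1, 2, 0]),
  (176334932000, [2, 1, 0, 1, 2, 1, 0]), (213675740293, [3, 0]),
  (213675772068, [3, 1, 2, 0, 1, 2]), (213675807811, [3, 2, 1, 0, 1, 2, 1]),
  (213675839586, [1, 2, 1, 3, 0, 1]), (213708246180, [3, 2]), (213708277893, [3, 1, 2, 0, 1, 0]),
  (213708313698, [3, 0, 1, 2, 1, 0, 1]), (213708345411, [1, 0, 1, 3, 2, 1]),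
  (213744878725, [1, 2, 1, 0, 1, 3, 2]), (213744910500, [1, 0, 1, 2, 1, 3, 0]),
  (213745013761, [1, 3, 1]), (213745045536, [2, 0, 1, 3, 1]), (213777384612, [1, 3, 2, 1, 0, 1]),
  (213777416325, [1, 3, 0, 1, 2, 1]), (213777519648, [1, 3, 1, 2, 0]),
  (213777551361, [0, 1, 3, 2, 1, 0]), (213814084675, [0, 1, 0]), (213814116450, [2, 1, 2]),
  (213814152193, [1, 2, 1, 0, 1, 2, 1, 0]), (213814183968, [1, 2, 0, 1, 2, 0]),
  (213846590562, [0, 1, 2]), (213846622275, [2, 1, 0]), (213846658080, [1, 0, 1, 2, 1, 0, 1, 0]),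
  (213846689793, [1, 2, 0, 1]), (246961736868, [3, 0, 1, 2, 0, 1]),
  (246961768581, [3, 1, 0, 1, 2, 1, 0, 1]), (246961804386, [3, 2, 0, 1, 0]),
  (246961836099, [3, 1, 2]), (246994242693, [1, 2, 0, 1, 3, 0]),
  (246994274468, [3, 1, 2, 1, 0, 1, 2, 1]), (246994310211, [3, 2, 0, 1, 2]),
  (246994341986, [3, 1, 0]), (247030875300, [2, 1, 3, 2, 0]), (247030907013, [0, 1, 3, 2, 0]),
  (247031010336, [1, 3, 2, 0, 1]), (247031042049, [2, 0, 1, 3, 2, 0, 1]),
  (247063381125, [2, 1, 3]), (247063412900, [0, 1, 3]), (247063516161, [1, 3, 2, 0, 1, 2, 0]),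
  (247063547936, [1, 3, 2, 1, 0, 1, 2, 1, 0]), (247100081250, [1, 0, 1, 2, 1]),
  (247100112963, [1, 2, 1, 0, 1]), (247100148768, [0, 1, 2, 0, 1, 0]), (247100180481, [2, 0]),
  (247132587075, [1, 2, 0, 1, 2, 1, 0]), (247132618850, [1, 2, 1, 0, 1, 2, 0]),
  (247132654593, [2, 1, 2, 0, 1, 0]), (247132686368, [])]

theorem Tz_val : ∀ t ∈ Tz, (wz t.2).1.1 = t.1 := by decide +kernel

theorem Tz_all : ∀ a ∈ Lz, (PG.pe a : S8) ∈ PG.alt 8 →
    ∃ t ∈ Tz, t.1 = (PG.pe a : S8).1 ∧ ((PG.pe a : S8) ∈ W8 → ∀ i ∈ t.2, i < 3) := by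
  decide +kernel

theorem exists_wz {a : A8} (ha : a * z = z * a) :
    ∃ w, wz w = a ∧ ((a : S8) ∈ W8 → ∀ i ∈ w, i < 3) := by
  obtain ⟨t, ht, e, h⟩ := forall_Cz (P := fun p => p ∈ PG.alt 8 →
    ∃ t ∈ Tz, t.1 = p.1 ∧ (p ∈ W8 → ∀ i ∈ t.2, i < 3)) Tz_all (congrArg Subtype.val ha.symm) a.2
  exact ⟨t.2, Subtype.ext (Subtype.ext ((Tz_val t ht).trans e)), h⟩

/-- `U = ⟨x01, x12, x23⟩` -/
theorem gen_U {S : Subgroup A8} (h1 : x 0 1 ∈ S) (h2 : x 1 2 ∈ S) (h3 : x 2 3 ∈ S) {a : A8}
    (ha : (a : S8) ∈ W8) : a ∈ S := by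
  obtain ⟨w, rfl, h⟩ := exists_wz (a := a) (Subtype.ext ha.1.symm)
  refine wz_mem fun i hi => ?_
  have := h ha i hi
  interval_cases i
  exacts [h1, h2, h3]

/-- `C_L(z) = ⟨x01, x12, x23, x21⟩` -/
theorem gen_Cz {S : Subgroup A8} (h1 : x 0 1 ∈ S) (h2 : x 1 2 ∈ S) (h3 : x 2 3 ∈ S) (h4 : x 2 1 ∈ S)
    {a : A8} (ha : a * z = z * a) : a ∈ S := by
  obtain ⟨w, rfl, -⟩ := exists_wz ha
  refine wz_mem fun i _ => ?_
  unfold gz
  split_ifs
  exacts [h1, h2, h3, h4]

theorem cen_Q_aux : ∀ a ∈ Lz, (PG.pe a : S8) ∈ cen [x 0 1, x 0 2, x 1 3, x 2 3] →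
    (PG.pe a : S8) = 1 ∨ (PG.pe a : S8) = z := by
  decide +kernel

/-- `C(Q) = ⟨z⟩` for `Q = ⟨x01, x02, x13, x23⟩` -/
theorem cen_Q {p : S8} (h : p ∈ cen [x 0 1, x 0 2, x 1 3, x 2 3]) : p = 1 ∨ p = z := by
  have h1 : Commute (x 0 1 : S8) p := h _ (by simp)
  have h2 : Commute (x 1 3 : S8) p := h _ (by simp)
  have h3 : (z : S8) = x 0 1 * x 1 3 * x 0 1 * x 1 3 :=
    congrArg Subtype.val (x_cm 0 1 3 (by decide) (by decide) (by decide)).symm
  exact forall_Cz (P := fun p => p ∈ cen [x 0 1, x 0 2, x 1 3, x 2 3] → p = 1 ∨ p = z) cen_Q_aux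
    (h3 ▸ ((h1.mul_left h2).mul_left h1).mul_left h2) h

theorem mem_W8_aux : ∀ a ∈ Lz, (cA (PG.pe a) (x 1 2) : S8) ∈ W8 → (PG.pe a : S8) ∈ W8 := by
  decide +kernel

/-- `N(U) = W` -/
theorem mem_W8_of {p : S8} (h : ∀ a : A8, (a : S8) ∈ W8 → (cA p a : S8) ∈ W8) : p ∈ W8 := by
  have h1 : ∀ i j, i < j → (x i j : S8) * (p⁻¹ * z * p) = p⁻¹ * z * p * x i j := fun i j hij => by
    have := (h _ (x_W i j hij)).1
    rw [cA_val] at this
    calc _ = p⁻¹ * (p * x i j * p⁻¹ * z) * p := by group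
      _ = _ := by rw [← this]; group
  have h2 : (z : S8) * p = p * z := by
    rcases cen_Q (p := p⁻¹ * z * p) (by
      simp only [mem_cen, List.mem_cons, List.not_mem_nil, or_false]
      rintro _ (rfl | rfl | rfl | rfl) <;> exact h1 _ _ (by decide)) with e | e
    · rw [mul_assoc, inv_mul_eq_one, right_eq_mul] at e
      exact absurd (Subtype.ext e) (x_ne 0 3 (by decide))
    · rwa [mul_assoc, inv_mul_eq_iff_eq_mul] at e
  exact forall_Cz (P := fun p => (cA p (x 1 2) : S8) ∈ W8 → p ∈ W8) mem_W8_aux h2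
    (h _ (x_W 1 2 (by decide)))

theorem conj_z_aux : ∀ a ∈ Lz, (PG.pe a : S8) ∈ E1 ∨ (PG.pe a : S8) ∈ E3 → (PG.pe a : S8) ≠ 1 →
    ∃ l ∈ [
  [0, 1, 2, 3, 4, 5, 6, 7], [0, 2, 1, 3, 4, 6, 5, 7], [0, 2, 1, 3, 4, 7, 6, 5],
  [0, 3, 1, 2, 4, 6, 7, 5], [0, 3, 1, 2, 4, 7, 5, 6], [0, 4, 1, 5, 2, 6, 3, 7],
  [0, 4, 1, 5, 2, 7, 6, 3], [0, 5, 1, 4, 2, 6, 7, 3], [0, 5, 1, 4, 2, 7, 3, 6],
  [0, 6, 1, 7, 2, 4, 3, 5], [0, 6, 1, 7, 2, 5, 4, 3], [0, 7, 1, 6, 2, 4, 5, 3],
  [0, 7, 1, 6, 2, 5, 3, 4]],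
      ((AG.al l * z * (AG.al l)⁻¹ : A8) : S8) = PG.pe a := by
  decide +kernel

/-- the non-trivial elements of `E1` and `E3` are transvections -/
theorem conj_z {a : A8} (h : (a : S8) ∈ E1 ∨ (a : S8) ∈ E3) (h1 : a ≠ 1) : ∃ n : A8, n * z * n⁻¹ = a := by
  obtain ⟨l, -, e⟩ := forall_Cz (P := fun p => p ∈ E1 ∨ p ∈ E3 → p ≠ 1 → ∃ l ∈ _,
    ((AG.al l * z * (AG.al l)⁻¹ : A8) : S8) = p) conj_z_aux (p := a)
    (h.elim (fun h => h _ (by simp)) fun h => h _ (by simp)) h fun e => h1 (Subtype.ext e)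
  exact ⟨_, Subtype.ext e⟩

theorem cA_comm (p : S8) (a b : A8) :
    (cA p b : S8) * cA p a = cA p a * cA p b ↔ (b : S8) * a = a * b := by
  simp only [cA_val, conj_mul, mul_left_inj, mul_right_inj]

theorem τ_E1 {a : A8} : (cA τ a : S8) ∈ E1 ↔ (a : S8) ∈ E3 := by
  have h1 := cA_comm τ a (x 2 3)
  have h2 := cA_comm τ a (x 1 3)
  have h3 := cA_comm τ a (x 0 3)
  rw [τ_x] at h1 h2 h3
  simp only [E1, E3, mem_cen, List.forall_mem_cons, List.not_mem_nil, IsEmpty.forall_iff, implies_true,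
    and_true]
  rw [← h1, ← h2, ← h3]
  exact ⟨fun h => ⟨h.2.2, h.2.1, h.1⟩, fun h => ⟨h.2.2, h.2.1, h.1⟩⟩

theorem τ_E3 {a : A8} : (cA τ a : S8) ∈ E3 ↔ (a : S8) ∈ E1 := by
  rw [← τ_E1, ← cA_mul, τ_sq, cA_one]

theorem W_Z2_aux : ∀ a ∈ Lz, (PG.pe a : S8) ∈ W8 → ∀ g ∈ [x 0 2, x 1 3, x 0 3],
    cA (PG.pe a) g ∈ [x 0 2, x 1 3, x 0 3, x 0 2 * x 0 3, x 1 3 * x 0 3] := by
  decide +kernel

/-- `W` normalises `⟨x02, x13, x03⟩` -/
theorem W_Z2 {p : S8} (hp : p ∈ W8) {a : A8} (ha : a ∈ closure {x 0 2, x 1 3, x 0 3}) :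
    cA p a ∈ closure {x 0 2, x 1 3, x 0 3} := by
  have h := forall_Cz (P := fun p => p ∈ W8 → ∀ g ∈ [x 0 2, x 1 3, x 0 3],
    cA p g ∈ [x 0 2, x 1 3, x 0 3, x 0 2 * x 0 3, x 1 3 * x 0 3]) W_Z2_aux hp.1 hp
  refine (closure_le ((closure {x 0 2, x 1 3, x 0 3}).comap (cH p))).2 (fun g hg => ?_) ha
  have h1 : x 0 2 ∈ closure ({x 0 2, x 1 3, x 0 3} : Set A8) := subset_closure (by simp)
  have h2 : x 1 3 ∈ closure ({x 0 2, x 1 3, x 0 3} : Set A8) := subset_closure (by simp)
  have h3 : x 0 3 ∈ closure ({x 0 2, x 1 3, x 0 3} : Set A8) := subset_closure (by simp)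
  have h4 := h g (by simpa using hg)
  change cA p g ∈ closure ({x 0 2, x 1 3, x 0 3} : Set A8)
  simp only [List.mem_cons, List.not_mem_nil, or_false] at h4
  rcases h4 with e | e | e | e | e <;> rw [e]
  exacts [h1, h2, h3, mul_mem h1 h3, mul_mem h2 h3]

end CfsgLib.A8S
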