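import Cfsg.Agent.Lib.A8S.Mod
import Cfsg.Agent.Lib.A8S.ModBA
import Cfsg.Agent.Lib.A8S.ModBB

/-!
# MODB: the subgroups `E1, E3, E8, F8, M8, W8` (plans/A8S.md)
-/
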