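import Cfsg.Agent.Lib.A8S.ModB

/-!
# MODC, first half: the normaliser of `E1` (plans/A8S.md)
-/

set_option autoImplicit false
set_option linter.unusedSectionVars false
set_option Elab.async false

namespace CfsgLib.A8S

open Subgroup Cfsg CfsgLib.Tech CfsgLib.W2 CfsgLib.Classical

/-- `m` is an even element of `N(E1)` -/
def NE (m : A8) : Prop := ∀ e : A8, (e : S8) ∈ E1 → ((m * e * m⁻¹ : A8) : S8) ∈ E1

/-- the elements of `E1` -/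
noncomputable def mcV (a : Fin 8) : A8 := x 0 1 ^ (a.1 % 2) * x 0 2 ^ (a.1 / 2 % 2) * x 0 3 ^ (a.1 / 4)

theorem mc_cases {e : A8} (h : (e : S8) ∈ E1) : ∃ a, e = mcV a := by
  obtain ⟨i, hi, j, hj, k, hk, e1⟩ := E1_cases h
  refine ⟨⟨i + 2 * j + 4 * k, by omega⟩, ?_⟩
  rw [Subtype.ext e1, mcV, show (i + 2 * j + 4 * k) % 2 = i by omega,
    show (i + 2 * j + 4 * k) / 2 % 2 = j by omega, show (i + 2 * j + 4 * k) / 4 = k by omega]

theorem mc_iff {m : A8} : NE m ↔ m ∈ normalizer ((E1.subgroupOf (PG.alt 8) : Subgroup A8) : Set A8) :=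
  ⟨fun h => mem_normalizer_fintype h, fun h e he => (mem_normalizer_iff.1 h e).1 he⟩

theorem NE_x : ∀ i j : Fin 4, i ≠ j → j ≠ 0 → NE (x i j) := by
  intro i j h1 h2 e he
  obtain ⟨a, rfl⟩ := mc_cases he
  revert i j a
  decide +kernel

theorem NE.mul {a b : A8} (ha : NE a) (hb : NE b) : NE (a * b) := fun e he => by
  have := ha _ (hb e he)
  rwa [show a * (b * e * b⁻¹) * a⁻¹ = a * b * e * (a * b)⁻¹ by group] at this

theorem NE.inv {a : A8} (ha : NE a) : NE a⁻¹ := mc_iff.2 (inv_mem (mc_iff.1 ha))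

theorem NE_of_z {a : A8} (h : a * z = z * a) : NE a := mc_iff.2 (gen_Cz (mc_iff.1 (NE_x 0 1 (by decide) (by decide)))
    (mc_iff.1 (NE_x 1 2 (by decide) (by decide))) (mc_iff.1 (NE_x 2 3 (by decide) (by decide)))
    (mc_iff.1 (NE_x 2 1 (by decide) (by decide))) h)

/-- a word in the root elements -/
noncomputable def mcW (n : ℕ) : ℕ → A8 :=
  Nat.rec (fun _ => 1) (fun _ ih c => if c % 4 = 0 then 1 else
    x (Fin.ofNat 4 (c / 4)) (Fin.ofNat 4 c) * ih (c / 16)) n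

theorem mc_w (n c : ℕ) : NE (mcW n c) := by
  induction n generalizing c with
  | zero => exact mc_iff.2 (one_mem _)
  | succ n ih =>
    change NE (if c % 4 = 0 then 1 else x (Fin.ofNat 4 (c / 4)) (Fin.ofNat 4 c) * mcW n (c / 16))
    split_ifs with h
    · exact mc_iff.2 (one_mem _)
    · refine NE.mul ?_ (ih _)
      by_cases e : Fin.ofNat 4 (c / 4) = Fin.ofNat 4 c
      · have : ∀ i, x i i = 1 := by decide +kernel
        rw [e, this]; exact mc_iff.2 (one_mem _)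
      · exact NE_x _ _ e fun e1 => h (congrArg Fin.val e1)

/-- the words for the 168 bases -/
def mcT : List ℕ := [0, 0, 0, 0, 0, 0, 0, 0, 0, 0, 0, 0, 0, 0, 0, 0, 0, 0, 0, 0, 0, 0, 0, 0, 0, 0, 0, 0, 0, 0, 0, 0,
  0, 0, 0, 0, 0, 0, 0, 0, 0, 0, 0, 0, 0, 0, 0, 0, 0, 0, 0, 0, 0, 0, 0, 0, 0, 0, 0, 0, 0, 0, 0, 0,
  0, 0, 0, 0, 0, 0, 0, 0, 0, 0, 0, 0, 0, 0, 0, 0, 0, 0, 0, 0, 0, 13, 14, 237, 0, 0, 0, 0, 9, 217,
  158, 233, 0, 0, 3051, 48825, 0, 0, 190, 3049, 0, 0, 47595, 48859, 0, 0, 2974, 3053, 0, 0, 235,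
  3803, 11, 219, 0, 0, 0, 0, 2539, 3769, 185, 189, 0, 0, 0, 0, 0, 0, 0, 0, 0, 0, 0, 0, 0, 0,
  1686, 59030, 54934, 28054, 0, 0, 0, 0, 0, 0, 0, 0, 0, 0, 0, 0, 105, 1753, 3433, 3689, 0,
  12478838, 0, 779927, 0, 779926, 0, 48745, 0, 944502, 0, 448886, 26998, 0, 48489, 0, 0, 519606,
  0, 32475, 0, 46809, 0, 748950, 0, 28055, 0, 59031, 1687, 0, 54935, 0, 0, 0, 0, 0, 0, 0, 0, 0,
  0, 0, 0, 0, 150, 3734, 2534, 3478, 0, 0, 0, 0, 6, 109, 230, 214, 0, 0, 0, 0, 0, 0, 0, 0, 0,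
  781206, 48822, 0, 0, 48790, 3046, 0, 0, 60310, 40630, 0, 2966, 0, 0, 3030, 0, 60854, 3766, 0,
  182, 0, 0, 3510, 0, 781750, 31211, 0, 0, 2925, 47590, 0, 0, 0, 0, 0, 0, 0, 0, 0, 0, 0,
  15433078, 753014, 0, 0, 513686, 32150, 0, 2007, 0, 32118, 0, 125, 0, 2006, 0, 47063, 964567, 0,
  0, 2009, 32105, 0, 0, 0, 0, 0, 0, 0, 0, 0, 0, 0, 964566, 514422, 0, 0, 27550, 47062, 0, 32183,
  0, 32107, 0, 2011, 0, 32182, 0, 32151, 60285, 0, 0, 2941, 440806, 0, 0, 0, 0, 0, 0, 0, 0, 0, 0,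
  0, 761527, 48855, 0, 0, 31206, 486806, 0, 215, 0, 3799, 7, 0, 231, 0, 0, 3031, 40631, 0, 121,
  0, 0, 3705, 0, 0, 48823, 48791, 0, 0, 3047, 48761, 0, 0, 0, 0, 0, 0, 0, 0, 0, 3511, 3767, 0,
  183, 0, 0, 28086, 0, 3479, 0, 3735, 151, 0, 2535, 0, 0, 0, 0, 0, 0, 0, 0, 0, 0, 0, 882326,
  441718, 30358, 32406, 0, 0, 0, 30423, 0, 32471, 0, 1901, 0, 2029, 0, 27607, 55145, 0, 1897, 0,
  0, 2025, 0, 620247, 0, 753303, 0, 38765, 0, 47081, 0, 518518, 879510, 0, 27542, 0, 0, 27606, 0,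
  0, 0, 0, 0, 0, 0, 0, 0, 0, 54969, 32407, 1721, 1725, 0, 0, 0, 0, 0, 0, 0, 0, 0, 0, 0, 0, 40555,
  48502, 1942, 59286, 0, 0, 0, 1751, 0, 3446, 118, 0, 126, 0, 0, 46807, 499383, 0, 0, 30425,
  1950, 0, 0, 56190, 48747, 0, 0, 780182, 2942, 0, 0, 59766, 0, 55670, 2422, 0, 2430, 0, 0, 0,
  3691, 3435, 107, 1755, 0, 0, 0, 0, 0, 0, 0, 0, 0, 0]

theorem mc_tab : ∀ i j k : Fin 8, mcV i ≠ 1 → mcV j ≠ 1 → mcV j ≠ mcV i → mcV k ≠ 1 → mcV k ≠ mcV i →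
    mcV k ≠ mcV j → mcV k ≠ mcV i * mcV j →
    mcW 6 (mcT.getD (64 * i.1 + 8 * j.1 + k.1) 0) * x 0 1 =
        mcV i * mcW 6 (mcT.getD (64 * i.1 + 8 * j.1 + k.1) 0) ∧
      mcW 6 (mcT.getD (64 * i.1 + 8 * j.1 + k.1) 0) * x 0 2 =
        mcV j * mcW 6 (mcT.getD (64 * i.1 + 8 * j.1 + k.1) 0) ∧
      mcW 6 (mcT.getD (64 * i.1 + 8 * j.1 + k.1) 0) * x 0 3 =
        mcV k * mcW 6 (mcT.getD (64 * i.1 + 8 * j.1 + k.1) 0) := by
  decide +kernel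

/-- `N(E1)` induces `GL₃(2)` -/
theorem NE_tr {a b c : A8} (ha : (a : S8) ∈ E1) (hb : (b : S8) ∈ E1) (hc : (c : S8) ∈ E1)
    (h1 : a ≠ 1) (h2 : b ≠ 1) (h3 : b ≠ a) (h4 : c ≠ 1) (h5 : c ≠ a) (h6 : c ≠ b) (h7 : c ≠ a * b) :
    ∃ m, NE m ∧ m * x 0 1 * m⁻¹ = a ∧ m * x 0 2 * m⁻¹ = b ∧ m * x 0 3 * m⁻¹ = c := by
  obtain ⟨i, rfl⟩ := mc_cases ha
  obtain ⟨j, rfl⟩ := mc_cases hb
  obtain ⟨k, rfl⟩ := mc_cases hc
  obtain ⟨e1, e2, e3⟩ := mc_tab i j k h1 h2 h3 h4 h5 h6 h7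
  exact ⟨_, mc_w _ _, mul_inv_eq_of_eq_mul e1, mul_inv_eq_of_eq_mul e2, mul_inv_eq_of_eq_mul e3⟩

theorem NE_tr2 {a b : A8} (ha : (a : S8) ∈ E1) (hb : (b : S8) ∈ E1)
    (h1 : a ≠ 1) (h2 : b ≠ 1) (h3 : b ≠ a) :
    ∃ m, NE m ∧ m * x 0 2 * m⁻¹ = b ∧ m * x 0 3 * m⁻¹ = a := by
  obtain ⟨i, rfl⟩ := mc_cases ha
  obtain ⟨j, rfl⟩ := mc_cases hb
  have key : ∀ i j : Fin 8, mcV i ≠ 1 → mcV j ≠ 1 → mcV j ≠ mcV i → ∃ k : Fin 8, (mcV k : S8) ∈ E1 ∧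
      mcV k ≠ 1 ∧ mcV j ≠ mcV k ∧ mcV i ≠ mcV k ∧ mcV i ≠ mcV k * mcV j := by decide +kernel
  obtain ⟨k, k0, k1, k2, k3, k4⟩ := key i j h1 h2 h3
  obtain ⟨m, hm, -, e2, e3⟩ := NE_tr k0 hb ha k1 h2 k2 h1 k3 h3.symm k4
  exact ⟨m, hm, e2, e3⟩

/-- the solutions of `p ^ 3 = 1` in `C(z)` -/
def mcL3 : List ℕ := [247132686368, 105468039200, 72149536800, 72182010912, 105435501600, 176196655136, 142878152736,
  142910626848, 176164117536, 246994341986, 246961804386, 34531940450, 1245912162, 246961836099,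
  246994310211, 1245943875, 34531908675, 247063412900, 247030875300, 34601011364, 1282508964,
  247030907013, 247063381125, 1315014789, 34568505477, 105398698214, 72112669926, 176127314150,
  142808811750, 72112701639, 105398666439, 142841317575, 176094808263]

/-- the involutions of `W8` other than `z` -/
def mcL2 : List ℕ := [213846689824, 247100180512, 213814183968, 176334932000, 143016429600, 247132654624,
  213846658080, 247100148768, 213814152224, 176334900256, 143016397856, 247132686337,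
  213846689793, 247100180481, 213814183937, 176334931969, 143016429569, 247132654593,
  213846658049, 247100148737, 176334900225, 143016397825, 247132618850, 213846622306,
  247100112994, 213814116450, 176334864482, 143016362082, 247132587075, 213846590531,
  247100081219, 213814084675, 176334832707, 143016330307, 105260488868, 71974460580,
  105227982981, 71941954693, 34462666982, 34430129382, 1176670407, 1144132807]

/-- test for `C(z)` -/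
def mcZ (c : ℕ) : Bool := (List.range 4).all fun i =>
  Nat.beq (Mathieu.app c (2 * i + 1)) (Nat.xor (Mathieu.app c (2 * i)) 1)

theorem mc_z {p : S8} (hp : (z : S8) * p = p * z) : mcZ p.1 = true := by
  have h1 : W2.pcm 8 (z : S8).1 p.1 = W2.pcm 8 p.1 (z : S8).1 := congrArg Subtype.val hp
  have h2 : ∀ i < 8, Mathieu.app (z : S8).1 i = Nat.xor i 1 := by decide +kernel
  have h3 : ∀ i < 4, Nat.xor (2 * i) 1 = 2 * i + 1 := by decide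
  obtain ⟨_, σ, rfl⟩ := p
  simp only [mcZ, List.all_eq_true, List.mem_range, Nat.beq_eq]
  intro i hi
  have h4 := congrArg (Mathieu.app · (2 * i)) h1
  simp only [W2.pcm] at h4
  rw [Mathieu.app_pack (fun _ _ => Mathieu.app_lt _ _) (by omega),
    Mathieu.app_pack (fun _ _ => Mathieu.app_lt _ _) (by omega), h2 (2 * i) (by omega), h3 i hi,
    h2 _ (by rw [app_pc' σ (show 2 * i < 8 by omega)]; exact (σ _).2)] at h4
  exact h4.symm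

theorem mc_enum {p : S8} (hp : (z : S8) * p = p * z) :
    (p ^ 3 = 1 → p.1 ∈ mcL3) ∧ (p ∈ W8 ∧ p * p = 1 ∧ p ≠ 1 ∧ p ≠ z → p.1 ∈ mcL2) := by
  have := PG.forall_of_allP (n := 8) (p := fun c => Bool.rec true
    (decide (((PG.pe c : S8) ^ 3 = 1 → c ∈ mcL3) ∧ ((PG.pe c : S8) ∈ W8 ∧ (PG.pe c : S8) * PG.pe c = 1 ∧
      (PG.pe c : S8) ≠ 1 ∧ (PG.pe c : S8) ≠ z → c ∈ mcL2))) (mcZ c)) (by decide +kernel) p
  rw [mc_z hp] at this
  simpa only [PG.pe_val, decide_eq_true_eq] using this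

theorem mc_main : ∀ a ∈ mcL3, ∀ b ∈ mcL2, let p : S8 := PG.pe a; let q : S8 := PG.pe b
    q * (p * q * p⁻¹) = p * q * p⁻¹ * q →
    (q * (p * q * p⁻¹) * (p * (p * q * p⁻¹) * p⁻¹) = 1 ∨
      q * (p * q * p⁻¹) * (p * (p * q * p⁻¹) * p⁻¹) = z) →
    (q ∈ E1 ∧ p * q * p⁻¹ ∈ E1) ∨ (q ∈ E3 ∧ p * q * p⁻¹ ∈ E3) ∨
      (q ∈ F8 ∧ p * q * p⁻¹ ∈ F8 ∧ q ∈ PG.alt 8) := by
  decide +kernel

/-- the elements of order 3 of `C(z)` and the three invariant groups `E1`, `E3`, `F0` -/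
theorem three_inv {p q : S8} (hp : (z : S8) * p = p * z) (p3 : p ^ 3 = 1) (hq : q ∈ W8) (q2 : q * q = 1)
    (q1 : q ≠ 1) (qz : q ≠ z) (hc : q * (p * q * p⁻¹) = p * q * p⁻¹ * q)
    (h : q * (p * q * p⁻¹) * (p * (p * q * p⁻¹) * p⁻¹) = 1 ∨
      q * (p * q * p⁻¹) * (p * (p * q * p⁻¹) * p⁻¹) = z) :
    (q ∈ E1 ∧ p * q * p⁻¹ ∈ E1) ∨ (q ∈ E3 ∧ p * q * p⁻¹ ∈ E3) ∨
      (q ∈ F8 ∧ p * q * p⁻¹ ∈ F8 ∧ q ∈ PG.alt 8) := by
  have h1 := mc_enum hp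
  have h2 := mc_enum hq.1
  have h3 := h1.1 p3
  have h4 := h2.2 ⟨hq, q2, q1, qz⟩
  have := mc_main _ h3 _ h4
  simp only [PG.pe_val] at this
  exact this hc h

end CfsgLib.A8S
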