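import Cfsg.Agent.Lib.A8S.N9BasB

/-!
# BAS: the frame (port of Lib/A8S to the weak frame, for `A₉`)
-/

set_option autoImplicit false
set_option linter.unusedSectionVars false
set_option Elab.async false

namespace CfsgLib.A8S.N9

open Subgroup Cfsg CfsgLib.Tech CfsgLib.W2 CfsgLib.Classical

universe u

variable {G : Type u} [Group G] [Finite G] {ι : A8 →* G} {t : G} {K : Subgroup G}

namespace Fr

variable (F : Fr ι t)
include F

theorem flip : Fr (flip ι) t := ⟨F.toFr0.flip, fun c h1 h2 h3 => F.two c (CL_flip.1 h1) h2 h3⟩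

omit F in
theorem bas_ct (F : Fr0 ι t) {s : G} (h1 : s * t = t * s) (a : A8) : (ι a)⁻¹ * s * t = t * ((ι a)⁻¹ * s) :=
  (Commute.mul_left (Commute.inv_left (show Commute t (ι a) from F.tC a).symm) h1).eq

/-- a 2-element of `C(t)` inducing an even permutation -/
theorem two_even {s : G} (h1 : s * t = t * s) (h2 : Two s) {a : A8} (h3 : Ac ι s a) :
    s = ι a ∨ s = t * ι a := by
  have c1 := h3.cl (ac_i a)
  obtain ⟨k, hk⟩ := isPGroup_iff_mem.1 h2 s (mem_zpowers s)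
  have a1 : (a : S8) ^ 2 ^ k = 1 := (h3.pow _).unique F.inj (by rw [hk]; exact ac_one_iff.2 fun b => by simp)
  have a2 : ι a ^ 2 ^ k = 1 := by rw [← map_pow, show a ^ 2 ^ k = 1 from Subtype.ext a1, map_one]
  have e := (show Commute _ _ from (c1 a).symm).mul_pow (2 ^ k)
  rw [mul_inv_cancel_left, hk, a2, one_mul] at e
  refine (F.two _ c1 (bas_ct F.toFr0 h1 a) (isPGroup_zpowers_of_pow e.symm)).imp (fun f => ?_) fun f => ?_
  · exact (inv_mul_eq_one.1 f).symm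
  · rw [F.tC, ← f, mul_inv_cancel_left]

theorem od_mul {a b : G} (ha : Od ι t a) (hb : Od ι t b) : Od ι t (a * b) := by
  have := Fact.mk Nat.prime_two
  refine ⟨ha.1.bas_mul hb.1, (Commute.mul_left ha.2.1 hb.2.1).eq, ?_⟩
  let C0 : Subgroup G := centralizer (ι.range : Set G) ⊓ Cx t
  let P : Sylow 2 C0 := default
  have hP : normalizer (P : Set C0) ≤ centralizer (P : Set C0) := fun g _ c hc => by
    obtain ⟨k, hk⟩ := isPGroup_iff_mem.1 P.isPGroup' c hc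
    apply Subtype.ext
    rcases F.two c (CL_iff.2 c.2.1) (mem_Cx.1 c.2.2)
      (isPGroup_zpowers_of_pow (k := k) (congrArg Subtype.val hk)) with f | f
    · simp [f]
    · simpa [f] using (mem_Cx.1 g.2.2).symm
  have k : ∀ a : C0, Odd (orderOf (a : G)) → a ∈ (MonoidHom.transferSylow P hP).ker := fun a h => by
    obtain ⟨k, hk⟩ := P.isPGroup' (MonoidHom.transferSylow P hP a)
    rw [Subgroup.orderOf_coe] at h
    exact orderOf_eq_one_iff.1 (Nat.eq_one_of_dvd_coprimes ((Nat.coprime_two_right.2 h).pow_right k)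
      (orderOf_map_dvd _ a) (orderOf_dvd_of_pow_eq_one hk))
  have m := mul_mem (k ⟨a, CL_iff.1 ha.1, mem_Cx.2 ha.2.1⟩ ha.2.2) (k ⟨b, CL_iff.1 hb.1, mem_Cx.2 hb.2.1⟩ hb.2.2)
  have d := orderOf_dvd_natCard (⟨_, m⟩ : (MonoidHom.transferSylow P hP).ker)
  rw [← Subgroup.orderOf_coe, ← Subgroup.orderOf_coe] at d
  exact Nat.not_even_iff_odd.1 fun e => MonoidHom.not_dvd_card_ker_transferSylow P hP (e.two_dvd.trans d)

theorem od_inv {a : G} (ha : Od ι t a) : Od ι t a⁻¹ :=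
  ⟨fun b => (Commute.inv_left (ha.1 b)).eq, (Commute.inv_left ha.2.1).eq, by rw [orderOf_inv]; exact ha.2.2⟩

/-- `C(L) ∩ C(t) = ⟨t⟩ × O` -/
theorem od_or {c : G} (h1 : CL ι c) (h2 : c * t = t * c) : Od ι t c ∨ Od ι t (t * c) := by
  obtain ⟨k, m, hm, e⟩ := Nat.exists_eq_two_pow_mul_odd (orderOf_pos c).ne'
  have e1 : (c ^ m) ^ 2 ^ k = 1 := by rw [← pow_mul, mul_comm, ← e, pow_orderOf_eq_one]
  refine (F.two _ (h1.bas_pow m) (Commute.pow_left h2 m).eq (isPGroup_zpowers_of_pow e1)).imp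
    (fun f => ⟨h1, h2, hm.of_dvd_nat (orderOf_dvd_of_pow_eq_one f)⟩) fun f =>
      ⟨F.tC.bas_mul h1, by rw [mul_assoc, h2], hm.of_dvd_nat (orderOf_dvd_of_pow_eq_one ?_)⟩
  obtain ⟨j, rfl⟩ := hm
  rw [(show Commute t c from h2.symm).mul_pow, f, pow_succ, pow_mul, pow_two, F.t2, one_pow, one_mul, F.t2]

/-- an element of `C(t)` inducing an even permutation -/
theorem even_dec {s : G} (h1 : s * t = t * s) {a : A8} (h3 : Ac ι s a) :
    ∃ o, Od ι t o ∧ (s = ι a * o ∨ s = t * ι a * o) := by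
  rcases F.od_or (h3.cl (ac_i a)) (bas_ct F.toFr0 h1 a) with h | h
  · exact ⟨_, h, .inl (mul_inv_cancel_left _ _).symm⟩
  · refine ⟨_, h, .inr ?_⟩
    rw [F.tC, mul_assoc, ← mul_assoc t, F.t2, one_mul, mul_inv_cancel_left]

/-- 2-subgroups of `C(t)` have order at most `256` -/
theorem card_le0 {T : Subgroup G} (hT : IsPGroup 2 T) (h : T ≤ Cx t) (hA : ∀ w ∈ T, ∃ p, Ac ι w p) :
    Nat.card T ≤ 256 := by
  have := Fact.mk Nat.prime_two
  obtain ⟨f, hπ⟩ := F.exists_π hA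
  have a1 : Nat.card f.range ≤ 128 :=
    card_W8 ▸ syl_W8.card_le (hT.of_surjective _ f.rangeRestrict_surjective) le_top
  have a2 : Nat.card f.ker ≤ 2 := by
    have m : ∀ g : f.ker, (g.1 : G) ∈ zpowers t := fun g => by
      have := hπ g.1
      rw [show f g.1 = 1 from g.2] at this
      rcases F.two _ (ac_one_iff.1 this) (mem_Cx.1 (h g.1.2)) (isPGroup_zpowers_of_mem hT g.1.2) with e | e
      · exact (show (g.1 : G) = 1 from e) ▸ one_mem _
      · exact (show (g.1 : G) = t from e) ▸ mem_zpowers _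
    refine (Nat.card_le_card_of_injective (fun g : f.ker => (⟨_, m g⟩ : zpowers t))
      fun a b e => Subtype.ext (Subtype.ext (Subtype.mk.inj e))).trans ?_
    rw [Nat.card_zpowers]
    exact Nat.le_of_dvd two_pos (orderOf_dvd_of_pow_eq_one (by rw [pow_two, F.t2]))
  rw [← f.ker.card_mul_index, index_ker]
  exact Nat.mul_le_mul a2 a1

theorem card_le {T : Subgroup G} (hT : IsPGroup 2 T) (h : T ≤ Cx t) : Nat.card T ≤ 256 := by
  obtain ⟨c, c1, c2⟩ := F.a2 T h hT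
  rw [← card_cj c T]
  refine F.card_le0 (isPGroup_cj c hT) (cj_le_iff.2 fun w hw => mul_mem (mul_mem (mem_Cx.2 c1) (h hw))
    (inv_mem (mem_Cx.2 c1))) fun w hw => ?_
  simpa [mul_assoc] using c2 _ (mem_cj.1 hw)

theorem exists_T : ∃ T, IsSylowIn 2 T (Cx t) ∧ sT ι t W8 ≤ T := by
  have := Fact.mk Nat.prime_two
  refine exists_isSylowIn_ge (IsPGroup.of_card (n := 7) (by rw [F.card_sT, card_even.2.2.2.2.2]; rfl)) fun g hg => ?_
  obtain ⟨a, -, rfl | rfl⟩ := F.mem_sT.1 hg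
  · exact mem_Cx.2 (F.tC a).symm
  · exact mem_Cx.2 (by rw [mul_assoc, F.tC])

/-- a 2-subgroup of `C(t)` containing `⟨t⟩ U` -/
theorem T_cases {T : Subgroup G} (hT : IsPGroup 2 T) (h : T ≤ Cx t) (hU : sT ι t W8 ≤ T) :
    T = sT ι t W8 ∨ ∃ a ∈ T, Ac ι a τ ∧ ∀ w ∈ T, w ∈ sT ι t W8 ∨ a * w ∈ sT ι t W8 := by
  have hU' : img ι W8 ≤ T := le_sup_right.trans hU
  have ev : ∀ w ∈ T, ∀ p, Ac ι w p → p ∈ PG.alt 8 → w ∈ sT ι t W8 := fun w hw p hp e =>
    F.mem_sT.2 ⟨⟨p, e⟩, ac_W F.inj hT hU' hw hp,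
      F.two_even (mem_Cx.1 (h hw)) (isPGroup_zpowers_of_mem hT hw) (a := ⟨p, e⟩) hp⟩
  by_cases e : T ≤ sT ι t W8
  · exact .inl (le_antisymm e hU)
  obtain ⟨w, hw, nw⟩ := SetLike.not_le_iff_exists.1 e
  obtain ⟨p, hp⟩ := F.a3 hT h (hU' (i_mem_img (x_W 0 3 (by decide)))) hw
  have o : p⁻¹ ∉ PG.alt 8 := fun o => nw (ev w hw p hp (inv_mem_iff.1 o))
  have m : w * ι ⟨_, mul_odd o τ_odd⟩ ∈ T :=
    mul_mem hw (hU' (i_mem_img (mul_mem (inv_mem (ac_W F.inj hT hU' hw hp)) τ_W)))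
  have ac : Ac ι (w * ι ⟨_, mul_odd o τ_odd⟩) τ := by simpa using hp.mul (ac_i ⟨_, mul_odd o τ_odd⟩)
  refine .inr ⟨_, m, ac, fun v hv => ?_⟩
  obtain ⟨q, hq⟩ := F.a3 hT h (hU' (i_mem_img (x_W 0 3 (by decide)))) hv
  by_cases e : q ∈ PG.alt 8
  · exact .inl (ev v hv q hq e)
  · exact .inr (ev _ (mul_mem m hv) _ (ac.mul hq) (mul_odd τ_odd e))

end Fr

end CfsgLib.A8S.N9
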