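import Cfsg.Agent.Lib.A8S.MatF
import Cfsg.Agent.Lib.A8S.N9Trn
import Cfsg.Agent.Lib.UFP.NU

/-!
# FLDA: fusion in the field case (port of Lib/A8S to the weak frame, for `A₉`)
-/

set_option autoImplicit false
set_option linter.unusedSectionVars false
set_option Elab.async false

namespace CfsgLib.A8S.N9

open Subgroup Cfsg CfsgLib.Tech CfsgLib.W2 CfsgLib.Classical

universe u

variable {G : Type u} [Group G] [Finite G] {ι : A8 →* G} {t : G} {K : Subgroup G}

namespace Fld

variable {φ : Γ →* G} (d : Fld ι t φ) (F : Fr ι t)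
include d F

theorem L_le : ι.range ≤ φ.range := by
  have h : φ.range.comap ι = ⊤ := gen_x fun i j hij => ⟨tv i j 1, d.one i j hij⟩
  rintro _ ⟨a, rfl⟩
  have : a ∈ φ.range.comap ι := h ▸ mem_top a
  exact this

theorem U_le : img ι W8 ≤ UΓ.map φ := by
  rintro _ ⟨a, ha, rfl⟩
  have k : ∀ i j : Fin 4, i < j → x i j ∈ (UΓ.map φ).comap ι := fun i j hij =>
    ⟨tv i j 1, tv_mem hij 1, d.one i j hij.ne⟩
  exact gen_U (S := (UΓ.map φ).comap ι) (k 0 1 (by decide)) (k 1 2 (by decide)) (k 2 3 (by decide)) ha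

theorem fix {m : Γ} (h : φ m * t = t * φ m) : φ m ∈ ι.range := by
  have h1 : σΓ m = m := d.inj (by rw [← d.fld, ← h, mul_inv_cancel_right])
  have h2 : closure {g | ∃ i j, i ≠ j ∧ g = tv i j 1} ≤ ι.range.comap φ := by
    rw [closure_le]
    rintro _ ⟨i, j, hij, rfl⟩
    exact ⟨x i j, (d.one i j hij).symm⟩
  exact h2 (fix_σ h1)

end Fld

end CfsgLib.A8S.N9
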