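import Cfsg.Agent.Auto.Nat_ble_eq_def
import Cfsg.Agent.Lib.A8S.N9Trn
import Cfsg.Agent.Lib.A8S.N9ZZ

/-!
# ORB (first half): the fusion pattern if `t` is not conjugate to `t z` (port of Lib/A8S to the weak frame, for `A₉`)
-/

set_option autoImplicit false
set_option linter.unusedSectionVars false
set_option Elab.async false

namespace CfsgLib.A8S.N9

open Subgroup Cfsg CfsgLib.Tech CfsgLib.W2 CfsgLib.Classical

universe u

variable {G : Type u} [Group G] [Finite G] {ι : A8 →* G} {t : G} {K : Subgroup G}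

namespace Orb

open CfsgLib.A8S.Orb

theorem en_of (F : Fr0 ι t) {n : ℕ} {k : List ℕ} {w l : List (List ℕ)} {Y : Subgroup S8}
    (H : Ok n k w l Y) {X : Subgroup G} (hX : El X) (hc : Nat.card X = 32) {a : G} (ht : t ∈ X)
    (ha : a ∈ X) (hY : img ι Y ≤ X) (ho : ∀ i, oo k i = true → Out ι t a)
    (hs : ∀ g ∈ X, ∃ i, en ι t a k w i = g) {p : List Bool}
    (hp : ∀ c < n, ∀ b : Bool, p.getD (2 * c + b.toNat) false = true ↔
      IsConj t (bp t b * (bp a (Nat.ble 3 c) * ι (A8S.Orb.rp c)))) :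
    En t X (en ι t a k w) (pt p k) := by
  obtain ⟨h1, h2, h3, h4, h5, h6, h7⟩ := H
  have hw : ∀ i, ι (ww w i) ∈ X := fun i => hY (i_mem_img (h3 i))
  refine ⟨fun i j => ?_, fun g => ⟨hs g, ?_⟩, hc, hX, ?_, fun i => ?_⟩
  · have c1 : Commute (bp a (oo k i) * ι (ww w i)) (bp t (b0 j)) :=
      hX.comm (X.mul_mem (bp_mem ha _) (hw i)) (bp_mem ht _)
    have c2 : Commute (ι (ww w i)) (bp a (oo k j)) := hX.comm (hw i) (bp_mem ha _)
    rw [en, en, en, c1.mul_mul_mul_comm, c2.mul_mul_mul_comm, b0_xr, h1, h2, bp_xor F.t2,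
      bp_xor (hX a ha), map_mul]
  · rintro ⟨i, rfl⟩
    exact X.mul_mem (bp_mem ht _) (X.mul_mem (bp_mem ha _) (hw i))
  · rw [en, oo, h5, h6]
    simp [bp, b0]
  · have e1 : pt p k i = p.getD (2 * kk k i + (b0 i).toNat) false := by
      rw [pt, b0]
      rcases Nat.mod_two_eq_zero_or_one i.1 with e | e <;> rw [e] <;> rfl
    rw [e1, hp _ (h4 i)]
    have e2 : ι (ww l i) * (bp a (oo k i) * ι (ww w i)) * (ι (ww l i))⁻¹ =
        bp a (oo k i) * ι (A8S.Orb.rp (kk k i)) := by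
      have h8 := h7 i
      cases e : oo k i
      · rw [e] at h8
        simp only [bp, Bool.false_eq_true, if_false, one_mul] at h8 ⊢
        rw [← map_inv, ← map_mul, ← map_mul]
        exact congrArg ι (Subtype.ext h8)
      · rw [e] at h8
        exact F.conj_out (ho i e) h8
    have c1 : Commute (ι (ww l i)) (bp t (b0 i)) := by
      cases b0 i
      · exact Commute.one_right _
      · exact (F.tC _).symm
    have e3 : ι (ww l i) * en ι t a k w i * (ι (ww l i))⁻¹ =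
        bp t (b0 i) * (bp a (oo k i) * ι (A8S.Orb.rp (kk k i))) := by
      rw [← e2, en, ← mul_assoc, c1.eq]
      simp only [mul_assoc]
    have hc : IsConj (en ι t a k w i) _ := isConj_iff.2 ⟨_, e3⟩
    exact ⟨fun h => h.trans hc.symm, fun h => h.trans hc⟩

theorem pat (F : Fr ι t) (h : ¬ IsConj t (t * ι z)) (a : G) : ∀ c < 5, ∀ b : Bool,
    (po (dc t (ι y)) (dc t (t * ι y)) (dc t a)
      (dc t (t * a)) (dc t (a * ι ys))
      (dc t (t * (a * ι ys)))).getD (2 * c + b.toNat) false = true ↔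
      IsConj t (bp t b * (bp a (Nat.ble 3 c) * ι (A8S.Orb.rp c))) := by
  intro c hc b
  have h1 := F.nz
  have h2 := F.t1
  interval_cases c <;> cases b <;> simp [po, bp, A8S.Orb.rp, -isConj_iff, h, h1, h2, Nat.ble, dc_iff, IsConj.refl]

theorem enA (F : Fr ι t) (h : ¬ IsConj t (t * ι z)) : En t (sT ι t E8) (en ι t 1 kA wA)
    (pt (pa (dc t (ι y)) (dc t (t * ι y))) kA) := by
  refine en_of F.toFr0 okA (F.el_sT el_E8.1) (by rw [F.card_sT, card_even.2.2.1])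
    (mem_sup_left (mem_zpowers t)) (one_mem _) le_sup_right
    (fun i hi => absurd (okA.2.2.2.1 i) (not_lt.2 (Nat.le_of_ble_eq_true hi))) (fun g hg => ?_)
    fun c hc b => ?_
  · obtain ⟨b, hb, hg⟩ := F.mem_sT.1 hg
    obtain ⟨i, hi, j, hj, k, hk, l, hl, e⟩ := E8_cases hb
    rcases hg with rfl | rfl
    · obtain ⟨m, h1, h2, h3⟩ := suA false i hi j hj k hk l hl
      exact ⟨m, by rw [en, h1, h2, Subtype.ext (h3.trans e.symm)]; simp [bp]⟩
    · obtain ⟨m, h1, h2, h3⟩ := suA true i hi j hj k hk l hl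
      exact ⟨m, by rw [en, h1, h2, Subtype.ext (h3.trans e.symm)]; simp [bp]⟩
  · rw [← pat F h 1 c (by omega) b]
    interval_cases c <;> cases b <;> rfl

theorem enO (F : Fr ι t) (h : ¬ IsConj t (t * ι z)) {a : G} (ha : Out ι t a) {k : List ℕ}
    {w l : List (List ℕ)} {Y : Subgroup S8} (H : Ok 5 k w l Y) (h1 : El Y) (h2 : τ ∈ Y)
    (h3 : Nat.card (Y.subgroupOf (PG.alt 8)) = 8)
    (h4 : ∀ b : A8, (b : S8) ∈ Y → ∀ c d, ∃ m, b0 m = c ∧ oo k m = d ∧ (ww w m : S8) = b) :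
    En t (sO ι t a Y) (en ι t a k w)
    (pt (po (dc t (ι y)) (dc t (t * ι y)) (dc t a)
      (dc t (t * a)) (dc t (a * ι ys))
      (dc t (t * (a * ι ys)))) k) := by
  refine en_of F.toFr0 H (F.el_sO ha h2 h1) (by rw [F.card_sO ha h2, h3])
    (mem_sup_left (mem_zpowers t)) (mem_sup_right (mem_sup_left (mem_zpowers a)))
    (le_sup_right.trans le_sup_right) (fun _ _ => ha) (fun g hg => ?_) (pat F h a)
  obtain ⟨b, hb, hg⟩ := (F.mem_sO ha h2).1 hg
  rcases hg with rfl | rfl | rfl | rfl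
  · obtain ⟨m, e1, e2, e3⟩ := h4 b hb false false
    exact ⟨m, by rw [en, e1, e2, Subtype.ext e3]; simp [bp]⟩
  · obtain ⟨m, e1, e2, e3⟩ := h4 b hb true false
    exact ⟨m, by rw [en, e1, e2, Subtype.ext e3]; simp [bp]⟩
  · obtain ⟨m, e1, e2, e3⟩ := h4 b hb false true
    exact ⟨m, by rw [en, e1, e2, Subtype.ext e3]; simp [bp]⟩
  · obtain ⟨m, e1, e2, e3⟩ := h4 b hb true true
    exact ⟨m, by rw [en, e1, e2, Subtype.ext e3]; simp [bp]⟩

theorem suF' (b : A8) (hb : (b : S8) ∈ F8) (c d : Bool) :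
    ∃ m, b0 m = c ∧ oo kF m = d ∧ (ww wF m : S8) = b := by
  obtain ⟨i, hi, j, hj, k, hk, l, hl, e⟩ := F8_cases hb
  rw [e]
  exact suF c d i hi j hj k hk l hl (e ▸ b.2)

theorem suM' (b : A8) (hb : (b : S8) ∈ M8) (c d : Bool) :
    ∃ m, b0 m = c ∧ oo kM m = d ∧ (ww wM m : S8) = b := by
  obtain ⟨i, hi, j, hj, k, hk, l, hl, e⟩ := M8_cases hb
  rw [e]
  exact suM c d i hi j hj k hk l hl (e ▸ b.2)

theorem fin (F : Fr ι t) (h : ¬ IsConj t (t * ι z)) {X : Subgroup G} {e : Fin 32 → G}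
    {P : Fin 32 → Bool} (H : En t X e P) {v : Fin 32}
    (hn : No P v (dc t (ι y)) (dc t (t * ι y))) : False := by
  obtain ⟨g, h1, h2 | ⟨a, ha, h2 | h2⟩⟩ :=
    F.trans H.el H.card ((H.mrk v).1 hn.1) ((H.mem _).2 ⟨v, rfl⟩)
  · exact hn.2.1 (H.mt (enA F h) h2 h1)
  · exact (hn.2.2 _ _ _ _).1
      (H.mt (enO F h ha okF el_F8.1 el_F8.2.2.1 card_even.2.2.2.1 suF') h2 h1)
  · exact (hn.2.2 _ _ _ _).2
      (H.mt (enO F h ha okM el_M8.1 el_M8.2.2.1 card_even.2.2.2.2.1 suM') h2 h1)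

end Orb

open CfsgLib.A8S.Orb

namespace Fr

variable (F : Fr ι t) (h : ¬ IsConj t (t * ι z))
include F h

theorem ny : ¬ IsConj t (ι y) ∧ ¬ IsConj t (t * ι y) := by
  by_contra hc
  refine Orb.fin F h (Orb.enA F h) (Orb.noA _ _ ?_)
  rw [Bool.or_eq_true, Orb.dc_iff, Orb.dc_iff]
  tauto

/-- at most one of the four outer classes is fused with `t` -/
theorem one_cls {a : G} (ha : Out ι t a) :
    (¬ IsConj t a ∧ ¬ IsConj t (a * ι ys)) ∨ ¬ IsConj t (t * a) ∧ ¬ IsConj t (t * (a * ι ys)) := by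
  by_contra hc
  have H := Orb.enO F h ha Orb.okF el_F8.1 el_F8.2.2.1 card_even.2.2.2.1 Orb.suF'
  refine Orb.fin F h H (v := if Orb.dc t a = true then 2 else 14) ?_
  rw [Orb.dc_false (F.ny h).1, Orb.dc_false (F.ny h).2]
  refine Orb.noF _ _ _ _ ?_
  simp only [Bool.and_eq_true, Bool.or_eq_true, Orb.dc_iff]
  tauto

end Fr

end CfsgLib.A8S.N9
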