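import Cfsg.Agent.Lib.A8S.N9PPa

/-!
# PP: the group `O₂(N(⟨t⟩ E₁))` (port of Lib/A8S to the weak frame, for `A₉`), second half
-/

set_option autoImplicit false
set_option linter.unusedSectionVars false
set_option Elab.async false

namespace CfsgLib.A8S.N9

open Subgroup Cfsg CfsgLib.Tech CfsgLib.W2 CfsgLib.Classical

universe u

variable {G : Type u} [Group G] [Finite G] {ι : A8 →* G} {t : G} {K : Subgroup G}

theorem pp_e2 {e : A8} (he : (e : S8) ∈ E1) : e * e = 1 := Subtype.ext (el_E1.1 e he)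

theorem pp_ec {e e' : A8} (he : (e : S8) ∈ E1) (he' : (e' : S8) ∈ E1) : e * e' = e' * e :=
  Subtype.ext (El.comm el_E1.1 he he')

theorem pp_mul {e e' : A8} (he : (e : S8) ∈ E1) (he' : (e' : S8) ∈ E1) : ((e * e' : A8) : S8) ∈ E1 :=
  mul_mem he he'

theorem pp_zE : (z : S8) ∈ E1 ∧ (x 0 2 : S8) ∈ E1 ∧ (x 0 1 : S8) ∈ E1 ∧ z ≠ 1 ∧ x 0 2 ≠ 1 ∧ x 0 1 ≠ 1 ∧
    z ≠ x 0 2 ∧ x 0 1 ≠ x 0 2 ∧ z * x 0 2 ≠ 1 ∧ x 1 2 * x 2 1 * z = z * (x 1 2 * x 2 1) := by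
  decide +kernel

theorem pp_rho : ∀ i < 2, ∀ j < 2, ∀ k < 2, ∀ e : A8, e = x 0 1 ^ i * x 0 2 ^ j * x 0 3 ^ k →
    (e⁻¹ * (x 1 2 * x 2 1 * e * (x 1 2 * x 2 1)⁻¹) = 1 ∨
      (z * e)⁻¹ * (x 1 2 * x 2 1 * e * (x 1 2 * x 2 1)⁻¹) = 1) → e = 1 ∨ e = z := by
  intro i hi j hj k hk e he
  subst he
  interval_cases i <;> interval_cases j <;> interval_cases k <;> decide +kernel

/-- `N(E1)` is transitive on the involutions of `E1` -/
theorem pp_tr1 {a : A8} (ha : (a : S8) ∈ E1) (a1 : a ≠ 1) : ∃ m, NE m ∧ m * z * m⁻¹ = a := by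
  obtain ⟨-, c2, c3, -, c5, c6, -, c8, -⟩ := pp_zE
  by_cases e : a = x 0 2
  · obtain ⟨m, m1, -, m2⟩ := NE_tr2 ha c3 a1 c6 (e ▸ c8)
    exact ⟨m, m1, m2⟩
  · obtain ⟨m, m1, -, m2⟩ := NE_tr2 ha c2 a1 c5 (Ne.symm e)
    exact ⟨m, m1, m2⟩

omit [Finite G] in
theorem pp_odd_two {o : G} (ho : Odd (orderOf o)) (k : ℕ) (h : o ^ 2 ^ k = 1) : o = 1 :=
  orderOf_eq_one_iff.1 (Nat.Coprime.eq_one_of_dvd
    (Nat.Coprime.pow_right k (Nat.coprime_two_right.2 ho)) (orderOf_dvd_of_pow_eq_one h))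

omit [Finite G] in
theorem pp_b_one {b o : G} {N : ℕ} (hb : b * b = 1) (hc : Commute b o) (ho : Odd (orderOf o))
    (hN : Odd N) (h : (b * o) ^ N = 1) : b = 1 := by
  obtain ⟨k, rfl⟩ := hN
  rw [hc.mul_pow, pow_succ b, pow_mul b, sq b, hb, one_pow, one_mul] at h
  have e := eq_inv_of_mul_eq_one_right h
  have := pp_odd_two (ho.of_dvd_nat (orderOf_pow_dvd (2 * k + 1))) 1 (by
    rw [pow_one, e, sq, ← mul_inv_rev, hb, inv_one])
  rwa [this, mul_one] at h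

/-- a translation -/
structure PTr (ι : A8 →* G) (t : G) (a : A8) (v : G) : Prop where
  ce : ∀ e : A8, (e : S8) ∈ E1 → v * ι e = ι e * v
  mv : v * t * v⁻¹ = t * ι a

omit [Finite G] in
theorem Vx.ptr {a : A8} {v : G} (h : Vx ι t a v) : PTr ι t a v := ⟨h.ce, h.mv⟩

omit [Finite G] in
theorem PTr.mul {a b : A8} {v w : G} (h1 : PTr ι t a v) (h2 : PTr ι t b w) (hb : (b : S8) ∈ E1) :
    PTr ι t (a * b) (v * w) := by
  refine ⟨fun e he => by rw [mul_assoc, h2.ce e he, ← mul_assoc, h1.ce e he, mul_assoc], ?_⟩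
  calc v * w * t * (v * w)⁻¹ = v * (w * t * w⁻¹) * v⁻¹ := by group
    _ = v * t * v⁻¹ * (v * ι b * v⁻¹) := by rw [h2.mv]; group
    _ = t * ι (a * b) := by rw [h1.mv, h1.ce b hb, mul_inv_cancel_right, map_mul, mul_assoc]

theorem PTr.conj {a m : A8} {v : G} (F : Fr0 ι t) (h : PTr ι t a v) (hm : NE m) :
    PTr ι t (m * a * m⁻¹) (ι m * v * (ι m)⁻¹) := by
  have c : (ι m)⁻¹ * t * ι m = t := by rw [mul_assoc, F.tC m, inv_mul_cancel_left]
  refine ⟨fun e he => ?_, ?_⟩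
  · have := h.ce _ (hm.inv e he)
    simp only [map_mul, map_inv, inv_inv] at this
    calc ι m * v * (ι m)⁻¹ * ι e = ι m * (v * ((ι m)⁻¹ * ι e * ι m)) * (ι m)⁻¹ := by group
      _ = _ := by rw [this]; group
  · calc ι m * v * (ι m)⁻¹ * t * (ι m * v * (ι m)⁻¹)⁻¹
        = ι m * (v * ((ι m)⁻¹ * t * ι m) * v⁻¹) * (ι m)⁻¹ := by group
      _ = _ := by
        rw [c, h.mv, ← mul_assoc, ← F.tC m, map_mul, map_mul, map_inv]; group

omit [Finite G] in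
/-- the square of `v t` -/
theorem PTr.sq_t {a : A8} {v : G} (F : Fr0 ι t) (h : PTr ι t a v) {e : A8} (he : v * v = ι e) :
    v * t * (v * t) = ι (a * e) := by
  calc v * t * (v * t) = v * t * v⁻¹ * (v * v) * t := by group
    _ = t * (ι (a * e) * t) := by rw [h.mv, he, map_mul]; group
    _ = _ := by rw [← F.tC, ← mul_assoc, F.t2, one_mul]

namespace Fr

variable (F : Fr ι t)
include F

theorem pp_co {e : A8} : CO ι t (ι e) ∧ CO ι t (t * ι e) :=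
  ⟨fun _ ho => (ho.1 e).symm, fun o ho => by
    rw [mul_assoc, ← ho.1 e, ← mul_assoc, ← ho.2.1, mul_assoc]⟩

theorem pp_sq {e : A8} (he : (e : S8) ∈ E1) : ι e * ι e = 1 ∧ t * ι e * (t * ι e) = 1 := by
  have a : ι e * ι e = 1 := by rw [← map_mul, pp_e2 he, map_one]
  exact ⟨a, by rw [mul_assoc, ← mul_assoc (ι e), ← F.tC, mul_assoc, a, mul_one, F.t2]⟩

theorem pp_quo {a : A8} {v w : G} (h1 : PTr ι t a v) (h2 : PTr ι t a w) :
    ∃ e : A8, (e : S8) ∈ E1 ∧ ∃ o, Od ι t o ∧ (w = v * (ι e * o) ∨ w = v * (t * ι e * o)) := by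
  obtain ⟨e, he, o, ho, h⟩ := F.cen_B (c := v⁻¹ * w) (by
    have := h2.mv.trans h1.mv.symm
    calc v⁻¹ * w * t = v⁻¹ * (w * t * w⁻¹) * w := by group
      _ = _ := by rw [this]; group) fun e he =>
    ((Commute.inv_left (h1.ce e he)).mul_left (h2.ce e he) : Commute (v⁻¹ * w) (ι e))
  exact ⟨e, he, o, ho, h.imp (fun h => by rw [← h]; group) fun h => by rw [← h]; group⟩

/-- translations normalise `O` -/
theorem pp_norm {a : A8} (ha : (a : S8) ∈ E1) {v o : G} (h : PTr ι t a v) (ho : Od ι t o) :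
    Od ι t (v * o * v⁻¹) := by
  have c : ∀ e : A8, (e : S8) ∈ E1 → Commute (v * o * v⁻¹) (ι e) := fun e he =>
    (Commute.mul_left (h.ce e he) (ho.1 e)).mul_left (Commute.inv_left (h.ce e he))
  have d : Commute (v * o * v⁻¹) t := by
    have := (Commute.conj (ho.2.1 : Commute o t) v).mul_right (c a ha).inv_right
    rwa [h.mv, mul_inv_cancel_right] at this
  obtain ⟨e, he, o', ho', k⟩ := F.cen_B d c
  have n : (v * o * v⁻¹) ^ orderOf o = 1 := by rw [conj_pow, pow_orderOf_eq_one]; group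
  rcases k with k | k
  · rw [k] at n ⊢
    rwa [pp_b_one (F.pp_sq he).1 (F.pp_co.1 o' ho') ho'.2.2 ho.2.2 n, one_mul]
  · rw [k] at n ⊢
    rwa [pp_b_one (F.pp_sq he).2 (F.pp_co.2 o' ho') ho'.2.2 ho.2.2 n, one_mul]

theorem co_of_tr {v : G} (h1 : ∀ e : A8, (e : S8) ∈ E1 → v * ι e = ι e * v)
    (h2 : v * t * v⁻¹ = t * ι z) (h3 : Two v) : CO ι t v := by
  obtain ⟨c1, c2, -, -, c5, -, -, -, c9, -⟩ := pp_zE
  have hv : PTr ι t z v := ⟨h1, h2⟩
  have a : ∀ m : A8, ∀ o, Od ι t o →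
      ι m * v * (ι m)⁻¹ * o * (ι m * v * (ι m)⁻¹)⁻¹ = v * o * v⁻¹ := fun m o ho => by
    calc ι m * v * (ι m)⁻¹ * o * (ι m * v * (ι m)⁻¹)⁻¹
        = ι m * (v * ((ι m)⁻¹ * (o * ι m)) * v⁻¹) * (ι m)⁻¹ := by group
      _ = _ := by
        rw [ho.1 m, inv_mul_cancel_left, ← (F.pp_norm c1 hv ho).1 m, mul_inv_cancel_right]
  obtain ⟨m1, n1, e1⟩ := pp_tr1 c2 c5
  obtain ⟨m2, n2, e2⟩ := pp_tr1 (pp_mul c1 c2) c9
  have v1 := hv.conj F.toFr0 n1
  have v2 := hv.conj F.toFr0 n2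
  rw [e1] at v1
  rw [e2] at v2
  obtain ⟨b, o0, hb, h0, k⟩ : ∃ b o0, CO ι t b ∧ Od ι t o0 ∧
      v * (ι m1 * v * (ι m1)⁻¹) = ι m2 * v * (ι m2)⁻¹ * (b * o0) := by
    obtain ⟨e, -, o, ho, k | k⟩ := F.pp_quo v2 (hv.mul v1 c2)
    exacts [⟨_, o, F.pp_co.1, ho, k⟩, ⟨_, o, F.pp_co.2, ho, k⟩]
  have b1 : ∀ o, Od ι t o → v * o * v⁻¹ = o0 * o * o0⁻¹ := fun o ho => by
    have ho' := F.od_mul (F.od_mul h0 ho) (F.od_inv h0)
    have e3 : b * (o0 * o * o0⁻¹) * b⁻¹ = o0 * o * o0⁻¹ := by rw [hb _ ho', mul_inv_cancel_right]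
    have e4 : v * (v * o * v⁻¹) * v⁻¹ = v * (o0 * o * o0⁻¹) * v⁻¹ := by
      rw [← a m2 _ ho', ← e3, ← a m1 o ho]
      calc _ = v * (ι m1 * v * (ι m1)⁻¹) * o * (v * (ι m1 * v * (ι m1)⁻¹))⁻¹ := by group
        _ = _ := by rw [k]; group
    exact mul_left_cancel (mul_right_cancel e4)
  have b2 : Commute o0 v := by
    have := b1 o0 h0
    rw [mul_inv_cancel_right, mul_inv_eq_iff_eq_mul] at this
    exact this.symm
  intro o ho
  have b3 : Commute (o0⁻¹ * v) o := by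
    calc o0⁻¹ * v * o = o0⁻¹ * (v * o * v⁻¹) * v := by group
      _ = _ := by rw [b1 o ho]; group
  obtain ⟨k, hk⟩ := h3 ⟨v, mem_zpowers v⟩
  have hk' : v ^ 2 ^ k = 1 := congrArg Subtype.val hk
  have b4 := b3.pow_left (2 ^ k)
  rw [b2.inv_left.mul_pow, hk', mul_one] at b4
  obtain ⟨n, hn⟩ : o0⁻¹ ∈ zpowers (o0⁻¹ ^ 2 ^ k) := mem_zpowers_pow_iff.2
    (Nat.Coprime.pow_left k (Nat.coprime_two_left.2 (F.od_inv h0).2.2))
  have b5 : Commute o0⁻¹ o := by rw [← hn]; exact b4.zpow_left n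
  have := b5.inv_left.mul_left b3
  rwa [inv_inv, mul_inv_cancel_left] at this

theorem ex (h : Mv ι t) : Ex ι t := by
  obtain ⟨c1, -, -, c4, -, -, -, -, -, c10⟩ := pp_zE
  obtain ⟨v, h1, h2, h3⟩ := F.exists_tr h
  have hc := F.co_of_tr h1 h2 h3
  have hv : PTr ι t z v := ⟨h1, h2⟩
  obtain ⟨k, hk⟩ := h3 ⟨v, mem_zpowers v⟩
  have hk' : v ^ 2 ^ k = 1 := congrArg Subtype.val hk
  obtain ⟨e, he, ve⟩ : ∃ e : A8, (e : S8) ∈ E1 ∧ v * v = ι e := by
    have v2 := (hv.mul hv c1).mv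
    rw [pp_e2 c1, map_one, mul_one, mul_inv_eq_iff_eq_mul] at v2
    obtain ⟨e, he, o, ho, q⟩ := F.cen_B v2 (hv.mul hv c1).ce
    have o1 : ∀ b, b * b = 1 → Commute b o → v * v = b * o → o = 1 := fun b b1 b2 b3 =>
      pp_odd_two ho.2.2 (k + 1) (by
        have : (v * v) ^ 2 ^ (k + 1) = 1 := by
          rw [← sq, ← pow_mul, mul_comm, pow_succ, pow_mul, pow_mul, hk', one_pow, one_pow]
        rwa [b3, b2.mul_pow, pow_succ' 2 k, pow_mul b, sq b, b1, one_pow, one_mul, ← pow_succ'] at this)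
    rcases q with q | q
    · exact ⟨e, he, by rw [q, o1 _ (F.pp_sq he).1 (F.pp_co.1 o ho) q, mul_one]⟩
    · rw [o1 _ (F.pp_sq he).2 (F.pp_co.2 o ho) q, mul_one] at q
      have : Commute v t := by
        have := (Commute.mul_right (Commute.refl v) (Commute.refl v)).mul_right
          (Commute.inv_right (h1 e he))
        rwa [q, mul_inv_cancel_right] at this
      rw [this.eq, mul_inv_cancel_right, left_eq_mul, ← map_one ι] at h2
      exact absurd (F.inj h2) c4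
  have hr := hv.conj F.toFr0 (NE_of_z c10)
  rw [c10, mul_inv_cancel_right] at hr
  have sq : ι (x 1 2 * x 2 1) * v * (ι (x 1 2 * x 2 1))⁻¹ * (ι (x 1 2 * x 2 1) * v * (ι (x 1 2 * x 2 1))⁻¹)
      = ι (x 1 2 * x 2 1 * e * (x 1 2 * x 2 1)⁻¹) := by
    rw [map_mul _ _ _⁻¹, map_mul _ _ e, map_inv, ← ve]; group
  have fin : ∀ (d r : A8) (o : G), Od ι t o → ι r = ι d * (o * o) → d⁻¹ * r = 1 := fun d r o ho q =>
    CL.eq_one F.inj (by
      rw [map_mul, map_inv, q, inv_mul_cancel_left]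
      exact (F.od_mul ho ho).1)
  have e1 : e = 1 ∨ e = z := by
    obtain ⟨i, hi, j, hj, l, hl, q⟩ := E1_cases he
    refine pp_rho i hi j hj l hl e (Subtype.ext q) ?_
    obtain ⟨e', he', o, ho, q | q⟩ := F.pp_quo hv hr
    · refine Or.inl (fin _ _ o ho ?_)
      rw [← sq, q, ← ve, ← mul_assoc v,
        (Commute.mul_left (hc o ho) (F.pp_co.1 o ho)).symm.mul_mul_mul_comm,
        (Commute.symm (h1 e' he')).mul_mul_mul_comm, (F.pp_sq he').1, mul_one]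
    · refine Or.inr (fin _ _ o ho ?_)
      rw [← sq, q, ← hv.sq_t F.toFr0 ve, ← mul_assoc v,
        (Commute.mul_left (hc o ho) (F.pp_co.2 o ho)).symm.mul_mul_mul_comm, ← mul_assoc v,
        (Commute.mul_left (h1 e' he') (F.tC e')).symm.mul_mul_mul_comm, (F.pp_sq he').1, mul_one]
  obtain ⟨w, hw⟩ : ∃ w, Vx ι t z w := by
    rcases e1 with rfl | rfl
    · exact ⟨v, by rw [ve, map_one], h1, hc, h2⟩
    · refine ⟨v * t, by rw [hv.sq_t F.toFr0 ve, pp_e2 c1, map_one],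
        fun e he => Commute.mul_left (h1 e he) (F.tC e),
        fun o ho => Commute.mul_left (hc o ho) ho.2.1.symm, ?_⟩
      rw [← h2]; group
  intro a ha a1
  obtain ⟨m, m1, m2⟩ := pp_tr1 ha a1
  exact ⟨_, m2 ▸ hw.conj F.toFr0 m1⟩

theorem vx_mul (h : Ex ι t) {a b : A8} {v w : G} (ha : (a : S8) ∈ E1) (hb : (b : S8) ∈ E1) (a1 : a ≠ 1)
    (b1 : b ≠ 1) (hab : a ≠ b) (h1 : Vx ι t a v) (h2 : Vx ι t b w) :
    Vx ι t (a * b) (v * w) ∨ Vx ι t (a * b) (v * w * t) := by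
  have _ := a1
  have _ := b1
  obtain ⟨u, hu⟩ := h _ (pp_mul ha hb) fun e => hab (by
    rw [eq_inv_of_mul_eq_one_left e, inv_eq_of_mul_eq_one_left (pp_e2 hb)])
  have o1 : ∀ (d : A8) (o : G), (d : S8) ∈ E1 → Od ι t o → v * w * (v * w) = ι d * (o * o) → o = 1 :=
    fun d o hd ho q => by
      have c : Commute v (v * w * (v * w)) := by
        rw [q]
        exact Commute.mul_right (h1.ce d hd) (Commute.mul_right (h1.co o ho) (h1.co o ho))
      have e : v * w * (v * w) * (v * w * (v * w)) = 1 := by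
        calc v * w * (v * w) * (v * w * (v * w))
            = v * w * (v * w) * v * (v * v) * (w * (v * w)) := by rw [h1.sq]; group
          _ = v * (v * w * (v * w)) * (v * v) * (w * (v * w)) := by rw [c.eq]
          _ = v * v * w * v * w * (v * v) * w * v * w := by group
          _ = w * v * (w * w) * v * w := by rw [h1.sq]; group
          _ = 1 := by rw [h2.sq, mul_one, mul_assoc w, h1.sq, mul_one, h2.sq]
      rw [q, (Commute.mul_left (ho.1 d) (ho.1 d)).mul_mul_mul_comm, (F.pp_sq hd).1, one_mul] at e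
      exact pp_odd_two ho.2.2 2 (by rw [← e, ← sq, ← sq, ← pow_mul]; rfl)
  obtain ⟨e, he, o, ho, q | q⟩ := F.pp_quo hu.ptr (h1.ptr.mul h2.ptr hb)
  · have := o1 1 o (one_mem _) ho (by
      rw [q, ← mul_assoc u, (Commute.mul_left (hu.co o ho) (F.pp_co.1 o ho)).symm.mul_mul_mul_comm,
        (Commute.symm (hu.ce e he)).mul_mul_mul_comm, (F.pp_sq he).1, hu.sq, map_one, mul_one])
    rw [this, mul_one] at q
    exact Or.inl (q ▸ hu.mul_i F.toFr0 he)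
  · have := o1 (a * b * 1) o (pp_mul (pp_mul ha hb) (one_mem _)) ho (by
      rw [q, ← hu.ptr.sq_t F.toFr0 (hu.sq.trans (map_one ι).symm), ← mul_assoc u,
        (Commute.mul_left (hu.co o ho) (F.pp_co.2 o ho)).symm.mul_mul_mul_comm, ← mul_assoc u,
        (Commute.mul_left (hu.ce e he) (F.tC e)).symm.mul_mul_mul_comm, (F.pp_sq he).1, mul_one])
    rw [this, mul_one] at q
    refine Or.inr ?_
    rw [q, F.tC e, mul_assoc, mul_assoc, F.t2, mul_one]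
    exact hu.mul_i F.toFr0 he

theorem dich (h : Ex ι t) : TyE ι t ∨ TyC ι t := by
  obtain ⟨c1, c2, -, c4, c5, -, c7, -⟩ := pp_zE
  obtain ⟨v0, hv⟩ := h _ c1 c4
  obtain ⟨w0, hw⟩ := h _ c2 c5
  have key : ∀ (a b : A8) (v w : G), (a : S8) ∈ E1 → (b : S8) ∈ E1 → a ≠ 1 → b ≠ 1 → a ≠ b →
      Vx ι t a v → Vx ι t b w → ∃ m e : A8, NE m ∧ (e : S8) ∈ E1 ∧ m * (z * x 0 2) * m⁻¹ = a * b ∧
        v * w = ι m * (v0 * w0) * (ι m)⁻¹ * ι e := fun a b v w ha hb a1 b1 hab h1 h2 => by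
    obtain ⟨m, m1, m2, m3⟩ := NE_tr2 ha hb a1 b1 hab.symm
    have v1 := hv.conj F.toFr0 m1
    have w1 := hw.conj F.toFr0 m1
    rw [m3] at v1
    rw [m2] at w1
    obtain ⟨e, he, rfl⟩ := F.vx_uniq ha a1 v1 h1
    obtain ⟨e', he', rfl⟩ := F.vx_uniq hb b1 w1 h2
    refine ⟨m, e * e', m1, pp_mul he he', by rw [← m2, ← m3]; group, ?_⟩
    rw [(Commute.symm (w1.ce e he)).mul_mul_mul_comm, map_mul]
    group
  rcases F.vx_mul h c1 c2 c4 c5 c7 hv hw with k | k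
  · refine Or.inl fun a b v w ha hb a1 b1 hab h1 h2 => ?_
    obtain ⟨m, e, m1, he, m2, m3⟩ := key a b v w ha hb a1 b1 hab h1 h2
    rw [m3, ← m2]
    exact (k.conj F.toFr0 m1).mul_i F.toFr0 he
  · refine Or.inr fun a b v w ha hb a1 b1 hab h1 h2 => ?_
    obtain ⟨m, e, m1, he, m2, m3⟩ := key a b v w ha hb a1 b1 hab h1 h2
    have := (k.conj F.toFr0 m1).mul_i F.toFr0 he
    rw [m2] at this
    convert this using 1
    rw [m3, mul_assoc _ (ι e), ← F.tC e, ← map_inv, ← mul_assoc, mul_assoc _ (ι m⁻¹) t, ← F.tC]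
    group

end Fr

end CfsgLib.A8S.N9
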