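import Cfsg.Agent.Lib.A8S.N9ZZ

/-!
# PP: the group `O₂(N(⟨t⟩ E₁))` (port of Lib/A8S to the weak frame, for `A₉`)
-/

set_option autoImplicit false
set_option linter.unusedSectionVars false
set_option Elab.async false

namespace CfsgLib.A8S.N9

open Subgroup Cfsg CfsgLib.Tech CfsgLib.W2 CfsgLib.Classical

universe u

variable {G : Type u} [Group G] [Finite G] {ι : A8 →* G} {t : G} {K : Subgroup G}

omit [Finite G] in
theorem ppa_ce {m : A8} {v : G} (h : ∀ e : A8, (e : S8) ∈ E1 → v * ι e = ι e * v) (hm : NE m)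
    (e : A8) (he : (e : S8) ∈ E1) : ι m * v * (ι m)⁻¹ * ι e = ι e * (ι m * v * (ι m)⁻¹) := by
  have h1 := h _ (hm.inv e he)
  simp only [map_mul, map_inv, inv_inv] at h1
  calc ι m * v * (ι m)⁻¹ * ι e = ι m * (v * ((ι m)⁻¹ * ι e * ι m)) * (ι m)⁻¹ := by group
    _ = _ := by rw [h1]; group

omit [Finite G] in
theorem ppa_mv {a m : A8} {v : G} (F : Fr0 ι t) (h : v * t * v⁻¹ = t * ι a) :
    ι m * v * (ι m)⁻¹ * t * (ι m * v * (ι m)⁻¹)⁻¹ = t * ι (m * a * m⁻¹) := by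
  have h1 : (ι m)⁻¹ * t * ι m = t := by rw [mul_assoc, F.tC m, inv_mul_cancel_left]
  calc ι m * v * (ι m)⁻¹ * t * (ι m * v * (ι m)⁻¹)⁻¹
      = ι m * (v * ((ι m)⁻¹ * t * ι m) * v⁻¹) * (ι m)⁻¹ := by group
    _ = _ := by
      rw [h1, h, ← mul_assoc, ← F.tC m, map_mul, map_mul, map_inv]
      simp only [mul_assoc]

theorem ppa_sq {e : A8} (he : (e : S8) ∈ E1) : e * e = 1 := Subtype.ext (el_E1.1 e he)

theorem ppa_comm {e e' : A8} (he : (e : S8) ∈ E1) (he' : (e' : S8) ∈ E1) : e * e' = e' * e :=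
  Subtype.ext (el_E1.1.comm he he')

theorem ppa_x : (x 0 1 : S8) ∈ E1 ∧ (x 0 2 : S8) ∈ E1 ∧ (x 0 3 : S8) ∈ E1 := by decide +kernel

theorem ppa_ne : x 0 1 ≠ 1 ∧ x 0 2 ≠ 1 ∧ x 0 2 ≠ x 0 1 ∧ x 0 3 ≠ 1 ∧ x 0 3 ≠ x 0 1 ∧ x 0 3 ≠ x 0 2 ∧
    x 0 3 ≠ x 0 1 * x 0 2 := by decide +kernel

theorem Vx.conj {a m : A8} {v : G} (F : Fr0 ι t) (h : Vx ι t a v) (hm : NE m) :
    Vx ι t (m * a * m⁻¹) (ι m * v * (ι m)⁻¹) := by
  refine ⟨?_, ppa_ce h.ce hm, fun o ho => ?_, ppa_mv F h.mv⟩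
  · calc ι m * v * (ι m)⁻¹ * (ι m * v * (ι m)⁻¹) = ι m * (v * v) * (ι m)⁻¹ := by group
      _ = 1 := by rw [h.sq]; group
  · have h1 : Commute (ι m) o := (ho.1 m).symm
    exact (h1.mul_left (h.co o ho)).mul_left h1.inv_left

theorem Vx.mul_i {a e : A8} {v : G} (F : Fr0 ι t) (h : Vx ι t a v) (he : (e : S8) ∈ E1) : Vx ι t a (v * ι e) := by
  refine ⟨?_, fun e' he' => ?_, fun o ho => ?_, ?_⟩
  · calc v * ι e * (v * ι e) = v * (ι e * v) * ι e := by group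
      _ = v * v * ι (e * e) := by rw [← h.ce e he, map_mul]; group
      _ = 1 := by rw [h.sq, ppa_sq he, map_one, mul_one]
  · rw [mul_assoc, ← map_mul, ppa_comm he he', map_mul, ← mul_assoc, h.ce e' he', mul_assoc]
  · exact Commute.mul_left (h.co o ho) (ho.1 e).symm
  · rw [← h.mv, mul_assoc v, ← F.tC e]
    group

namespace Fr

variable (F : Fr ι t)
include F

/-- `C(⟨t⟩ E₁) = ⟨t⟩ × E₁ × O` -/
theorem cen_B {c : G} (h1 : c * t = t * c) (h2 : ∀ e : A8, (e : S8) ∈ E1 → c * ι e = ι e * c) :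
    ∃ e : A8, (e : S8) ∈ E1 ∧ ∃ o, Od ι t o ∧ (c = ι e * o ∨ c = t * ι e * o) := by
  obtain ⟨p, hp⟩ := F.az h1 (h2 _ ppa_x.2.2)
  have h3 : ∀ e : A8, (e : S8) ∈ E1 → (e : S8) * p = p * e := fun e he => by
    have h4 := hp e
    rw [h2 e he, mul_inv_cancel_right] at h4
    have h5 := congrArg Subtype.val (F.inj h4)
    rw [cA_val] at h5
    exact eq_mul_inv_iff_mul_eq.1 h5
  have h6 : p ∈ E1 := mem_cen.2 fun a ha => by
    simp only [List.mem_cons, List.not_mem_nil, or_false] at ha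
    rcases ha with rfl | rfl | rfl
    exacts [h3 _ ppa_x.1, h3 _ ppa_x.2.1, h3 _ ppa_x.2.2]
  exact ⟨⟨p, el_E1.2.2.1 h6⟩, h6, F.even_dec h1 (a := ⟨p, el_E1.2.2.1 h6⟩) hp⟩

theorem vx_uniq {a : A8} (ha : (a : S8) ∈ E1) (a1 : a ≠ 1) {v w : G} (h1 : Vx ι t a v) (h2 : Vx ι t a w) :
    ∃ e : A8, (e : S8) ∈ E1 ∧ w = v * ι e := by
  have h3 : v⁻¹ * w * t = t * (v⁻¹ * w) := by
    calc v⁻¹ * w * t = v⁻¹ * (w * t * w⁻¹) * w := by group
      _ = v⁻¹ * (v * t * v⁻¹) * w := by rw [h2.mv, h1.mv]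
      _ = _ := by group
  obtain ⟨e, he, o, ho, h4⟩ := F.cen_B h3 fun e he =>
    (Commute.mul_left (Commute.inv_left (h1.ce e he)) (h2.ce e he))
  have ov : Commute v o := h1.co o ho
  have oe : Commute (ι e) o := (ho.1 e).symm
  have ot : Commute t o := ho.2.1.symm
  have ve : Commute v (ι e) := h1.ce e he
  have te : Commute t (ι e) := F.tC e
  have ee : ι e * ι e = 1 := by rw [← map_mul, ppa_sq he, map_one]
  refine ⟨e, he, ?_⟩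
  rcases h4 with h4 | h4
  · have h5 : w = v * ι e * o := by rw [mul_assoc, ← h4, mul_inv_cancel_left]
    have h6 := h2.sq
    rw [h5, ← sq, (ov.mul_left oe).mul_pow, ve.mul_pow, sq v, sq (ι e), h1.sq, ee, one_mul,
      one_mul] at h6
    have h7 : orderOf o = 1 := 
      Nat.eq_one_of_dvd_coprimes (Nat.coprime_two_right.2 ho.2.2) dvd_rfl (orderOf_dvd_of_pow_eq_one h6)
    rw [h5, orderOf_eq_one_iff.1 h7, mul_one]
  · exfalso
    have h5 : w = v * t * ι e * o := by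
      rw [mul_assoc, mul_assoc, ← mul_assoc t, ← h4, mul_inv_cancel_left]
    have h6 := h2.sq
    have h7 : v * t * (v * t) = ι a := by
      have h8 := h1.mv
      rw [inv_eq_of_mul_eq_one_right h1.sq] at h8
      rw [← mul_assoc, h8, F.tC a, mul_assoc, F.t2, mul_one]
    rw [h5, ← sq, ((ov.mul_left ot).mul_left oe).mul_pow, (ve.mul_left te).mul_pow, sq (v * t),
      sq (ι e), h7, ee, mul_one] at h6
    refine a1 (CL.eq_one F.inj fun b => ?_)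
    rw [eq_inv_of_mul_eq_one_left h6]
    exact ((show Commute o (ι b) from ho.1 b).pow_left 2).inv_left

/-- a translation -/
theorem exists_tr (h : Mv ι t) : ∃ v, (∀ e : A8, (e : S8) ∈ E1 → v * ι e = ι e * v) ∧
    v * t * v⁻¹ = t * ι z ∧ Two v := by
  obtain ⟨n, hn, hnt⟩ := h
  have cj : ∀ g a : G, IsConj a (g * a * g⁻¹) := fun g a => isConj_iff.2 ⟨g, rfl⟩
  have nd : ∀ e : A8, (e : S8) ∈ E1 → ¬ IsConj t (ι e) := fun e he hc => by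
    by_cases e1 : e = 1
    · rw [e1, map_one, isConj_one_left] at hc
      exact F.t1 hc
    · obtain ⟨l, rfl⟩ := conj_z (.inl he) e1
      rw [map_mul, map_mul, map_inv] at hc
      exact F.nz (hc.trans (cj _ _).symm)
  have tz : ∀ e : A8, (e : S8) ∈ E1 → e ≠ 1 → IsConj (t * ι z) (t * ι e) := fun e he e1 => by
    obtain ⟨l, rfl⟩ := conj_z (.inl he) e1
    refine isConj_iff.2 ⟨ι l, ?_⟩
    rw [map_mul, map_mul, map_inv, ← mul_assoc, ← F.tC l]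
    simp only [mul_assoc]
  have mem : ∀ g ∈ sT ι t E1, ∃ a : A8, (a : S8) ∈ E1 ∧
      (n * g * n⁻¹ = ι a ∨ n * g * n⁻¹ = t * ι a) := fun g hg =>
    F.mem_sT.1 (conj_mem_of_mem_normalizer hn hg)
  obtain ⟨e₀, he₀, h0⟩ := mem t (F.mem_sT.2 ⟨1, one_mem _, .inr (by simp)⟩)
  replace h0 := h0.resolve_left fun h1 => nd e₀ he₀ (h1 ▸ cj n t)
  have e01 : e₀ ≠ 1 := fun h1 => hnt (by rw [h0, h1, map_one, mul_one])
  have act : ∀ e : A8, (e : S8) ∈ E1 → ∃ a : A8, (a : S8) ∈ E1 ∧ n * ι e * n⁻¹ = ι a := fun e he => by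
    obtain ⟨a, ha, h1⟩ := mem (ι e) (F.mem_sT.2 ⟨e, he, .inl rfl⟩)
    refine ⟨a, ha, h1.resolve_right fun h2 => nd e he ?_⟩
    refine IsConj.trans ?_ (h2 ▸ cj n (ι e)).symm
    by_cases a1 : a = 1
    · rw [a1, map_one, mul_one]
    · exact ((h0 ▸ cj n t : IsConj t (t * ι e₀)).trans (tz e₀ he₀ e01).symm).trans (tz a ha a1)
  obtain ⟨a, ha, h1⟩ := act _ ppa_x.1
  obtain ⟨b, hb, h2⟩ := act _ ppa_x.2.1
  obtain ⟨c, hc, h3⟩ := act _ ppa_x.2.2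
  have inj : ∀ {e e' d d' : A8}, n * ι e * n⁻¹ = ι d → n * ι e' * n⁻¹ = ι d' → e ≠ e' → d ≠ d' :=
    fun k1 k2 k3 k4 => k3 (F.inj (by
      rw [← k4, ← k1] at k2
      simpa using k2.symm))
  have one : n * ι 1 * n⁻¹ = ι 1 := by simp
  have h12 : n * ι (x 0 1 * x 0 2) * n⁻¹ = ι (a * b) := by
    rw [map_mul, map_mul, ← h1, ← h2]; group
  obtain ⟨n1, n2, n3, n4, n5, n6, n7⟩ := ppa_ne
  obtain ⟨m, hm, m1, m2, m3⟩ := NE_tr ha hb hc (inj h1 one n1) (inj h2 one n2) (inj h2 h1 n3)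
    (inj h3 one n4) (inj h3 h1 n5) (inj h3 h2 n6) (inj h3 h12 n7)
  have fix : ∀ {e d : A8}, n * ι e * n⁻¹ = ι d → m * e * m⁻¹ = d →
      Commute ((ι m)⁻¹ * n) (ι e) := fun {e d} k1 k2 => by
    rw [← k2, map_mul, map_mul, map_inv] at k1
    change (ι m)⁻¹ * n * ι e = ι e * ((ι m)⁻¹ * n)
    calc (ι m)⁻¹ * n * ι e = (ι m)⁻¹ * (n * ι e * n⁻¹) * n := by group
      _ = _ := by rw [k1]; group
  have ce0 : ∀ e : A8, (e : S8) ∈ E1 → (ι m)⁻¹ * n * ι e = ι e * ((ι m)⁻¹ * n) := fun e he => by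
    obtain ⟨i, -, j, -, k, -, e1⟩ := E1_cases he
    rw [Subtype.ext e1, map_mul, map_mul, map_pow, map_pow, map_pow]
    exact (((fix h1 m1).pow_right i).mul_right ((fix h2 m2).pow_right j)).mul_right
      ((fix h3 m3).pow_right k)
  have mv0 : (ι m)⁻¹ * n * t * ((ι m)⁻¹ * n)⁻¹ = t * ι (m⁻¹ * e₀ * m⁻¹⁻¹) := by
    calc (ι m)⁻¹ * n * t * ((ι m)⁻¹ * n)⁻¹ = (ι m)⁻¹ * (n * t * n⁻¹) * ι m := by group
      _ = _ := by
        rw [h0, ← mul_assoc, ← map_inv, ← F.tC m⁻¹, inv_inv, map_mul, map_mul]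
        simp only [mul_assoc]
  have he₁ := hm.inv e₀ he₀
  have e11 : m⁻¹ * e₀ * m⁻¹⁻¹ ≠ 1 := fun h4 => e01 (conj_eq_one_iff.1 h4)
  generalize m⁻¹ * e₀ * m⁻¹⁻¹ = e₁ at mv0 he₁ e11
  generalize (ι m)⁻¹ * n = v₀ at mv0 ce0
  obtain ⟨l, hl, l3⟩ : ∃ l, NE l ∧ l * x 0 3 * l⁻¹ = e₁ := by
    by_cases h4 : x 0 1 = e₁
    · obtain ⟨l, k1, -, k2⟩ := NE_tr2 he₁ ppa_x.2.1 e11 n2 (h4 ▸ n3)
      exact ⟨l, k1, k2⟩
    · obtain ⟨l, k1, -, k2⟩ := NE_tr2 he₁ ppa_x.1 e11 n1 h4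
      exact ⟨l, k1, k2⟩
  have ce1 := ppa_ce ce0 hl.inv
  have mv1 := ppa_mv (m := l⁻¹) F.toFr0 mv0
  rw [← l3, show l⁻¹ * (l * x 0 3 * l⁻¹) * l⁻¹⁻¹ = z by group] at mv1
  generalize ι l⁻¹ * v₀ * (ι l⁻¹)⁻¹ = v at ce1 mv1
  have h5 : Commute (v ^ 2) t := by
    have h6 : v ^ 2 * t * (v ^ 2)⁻¹ = t := by
      calc v ^ 2 * t * (v ^ 2)⁻¹ = v * (v * t * v⁻¹) * v⁻¹ := by rw [sq]; group
        _ = v * (t * ι z) * v⁻¹ := by rw [mv1]
        _ = v * t * v⁻¹ * (v * ι z * v⁻¹) := by group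
        _ = t := by
          rw [mv1, ce1 z ppa_x.2.2, mul_inv_cancel_right, mul_assoc, ← map_mul, ppa_sq ppa_x.2.2,
            map_one, mul_one]
    exact mul_inv_eq_iff_eq_mul.1 h6
  obtain ⟨k, j, ⟨i, rfl⟩, hk⟩ := Nat.exists_eq_two_pow_mul_odd (orderOf_pos v).ne'
  refine ⟨v ^ (2 * i + 1), fun e he => (Commute.pow_left (ce1 e he) _), ?_,
    isPGroup_zpowers_of_pow (k := k) (by rw [← pow_mul, mul_comm, ← hk, pow_orderOf_eq_one])⟩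
  rw [pow_succ', pow_mul, mul_assoc v, (h5.pow_left i).eq, ← mv1]
  group

end Fr

end CfsgLib.A8S.N9
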