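import Cfsg.Agent.Lib.A8S.N9Bas
import Cfsg.Agent.Lib.A8S.ModC

/-!
# ZZA: fusion in `Z(T)`, first half (port of Lib/A8S to the weak frame, for `A₉`)
-/

set_option autoImplicit false
set_option linter.unusedSectionVars false
set_option Elab.async false

namespace CfsgLib.A8S.N9

open Subgroup Cfsg CfsgLib.Tech CfsgLib.W2 CfsgLib.Classical

universe u

variable {G : Type u} [Group G] [Finite G] {ι : A8 →* G} {t : G} {K : Subgroup G}

omit [Finite G] in
theorem zz_comm {L : Subgroup G} {c c' l l' : G} (hc : c ∈ normalizer (L : Set G))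
    (hc' : c' ∈ normalizer (L : Set G)) (h : c * c' = c' * c) (hl : l ∈ L) (hl' : l' ∈ L) :
    c * l * (c' * l') * (c * l)⁻¹ * (c' * l')⁻¹ ∈ L := by
  have e : c * c' * c⁻¹ = c' := by rw [h, mul_inv_cancel_right]
  have e2 : c * l * (c' * l') * (c * l)⁻¹ * (c' * l')⁻¹ =
      c * l * c⁻¹ * (c * (c' * (l' * l⁻¹) * c'⁻¹) * c⁻¹) * ((c * c' * c⁻¹) * l'⁻¹ * c'⁻¹) := by
    group
  rw [e2, e]
  exact L.mul_mem (L.mul_mem (conj_mem_of_mem_normalizer hc hl)
    (conj_mem_of_mem_normalizer hc (conj_mem_of_mem_normalizer hc' (L.mul_mem hl' (L.inv_mem hl)))))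
    (conj_mem_of_mem_normalizer hc' (L.inv_mem hl'))

theorem zz_z1 : z ≠ 1 := x_ne 0 3 (by decide)

namespace Fr

variable (F : Fr ι t) {T : Subgroup G} (hT : IsSylowIn 2 T (Cx t)) (hU : sT ι t W8 ≤ T)
include F hT hU

omit F hT in
theorem zz_i {a : A8} (ha : (a : S8) ∈ W8) : ι a ∈ T :=
  hU ((le_sup_right : img ι W8 ≤ sT ι t W8) (i_mem_img ha))

omit F hT in
theorem zz_t : t ∈ T := hU ((le_sup_left : zpowers t ≤ sT ι t W8) (mem_zpowers t))

omit hT hU in
theorem zz_iz : ι z ≠ 1 := fun h => zz_z1 (F.inj (by rw [h, map_one]))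

theorem zz_Cz : T ≤ Cx (ι z) := by
  intro w hw
  obtain ⟨p, hp⟩ := F.a3 hT.pgroup hT.le (zz_i hU (x_W 0 3 (by decide))) hw
  have h1 : p ∈ W8 := ac_W F.inj hT.pgroup (le_trans le_sup_right hU) hw hp
  rw [mem_Cx', hp z]
  congr 1
  apply Subtype.ext
  rw [cA_val, ← h1.1, mul_inv_cancel_right]

theorem cen_T {w : G} (hw : w ∈ T) (h : ∀ v ∈ T, w * v = v * w) :
    w = 1 ∨ w = t ∨ w = ι z ∨ w = t * ι z := by
  have hwt : w * t = t * w := mem_Cx.1 (hT.le hw)
  obtain ⟨p, hp⟩ := F.a3 hT.pgroup hT.le (zz_i hU (x_W 0 3 (by decide))) hw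
  have key : ∀ i j : Fin 4, i < j → (x i j : S8) * p = p * x i j := by
    intro i j hij
    have h1 := hp (x i j)
    rw [h _ (zz_i hU (x_W i j hij)), mul_inv_cancel_right] at h1
    have h2 := congrArg Subtype.val (F.inj h1)
    rw [cA_val] at h2
    exact (eq_mul_inv_iff_mul_eq.1 h2)
  have hq : p ∈ cen [x 0 1, x 0 2, x 1 3, x 2 3] := by
    rw [mem_cen]
    intro a ha
    simp only [List.mem_cons, List.not_mem_nil, or_false] at ha
    rcases ha with rfl | rfl | rfl | rfl <;> exact key _ _ (by decide)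
  have h2 : Two w := isPGroup_zpowers_of_mem hT.pgroup hw
  rcases cen_Q hq with rfl | rfl
  · rcases F.two_even hwt h2 (a := 1) hp with e | e
    · exact .inl (by rw [e, map_one])
    · exact .inr (.inl (by rw [e, map_one, mul_one]))
  · rcases F.two_even hwt h2 (a := z) hp with e | e
    · exact .inr (.inr (.inl e))
    · exact .inr (.inr (.inr e))

theorem zz_dec : ∃ a, a * t = t * a ∧ a ∈ normalizer (ι.range : Set G) ∧ ∀ w ∈ T,
    ∃ c ∈ closure ({a, t} : Set G), ∃ l ∈ ι.range, w = c * l := by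
  have s0 : ∀ a, ∀ w ∈ sT ι t W8, ∃ c ∈ closure ({a, t} : Set G), ∃ l ∈ ι.range, w = c * l := by
    intro a w hw
    obtain ⟨b, -, e | e⟩ := F.toFr0.mem_sT.1 hw
    · exact ⟨1, one_mem _, ι b, ⟨b, rfl⟩, by rw [e, one_mul]⟩
    · exact ⟨t, subset_closure (by simp), ι b, ⟨b, rfl⟩, e⟩
  rcases F.T_cases hT.pgroup hT.le hU with e | ⟨a, ha, h1, h2⟩
  · exact ⟨1, by simp, one_mem _, fun w hw => s0 1 w (e ▸ hw)⟩
  · refine ⟨a, mem_Cx.1 (hT.le ha), h1.norm, fun w hw => ?_⟩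
    rcases h2 w hw with h3 | h3
    · exact s0 a w h3
    · obtain ⟨c, hc, l, hl, e⟩ := s0 a _ h3
      exact ⟨a⁻¹ * c, mul_mem (inv_mem (subset_closure (by simp))) hc, l, hl, by
        rw [mul_assoc, ← e, inv_mul_cancel_left]⟩

theorem zz_der {w w' : G} (hw : w ∈ T) (hw' : w' ∈ T) : w * w' * w⁻¹ * w'⁻¹ ∈ ι.range := by
  obtain ⟨a, h1, h2, h3⟩ := F.zz_dec hT hU
  obtain ⟨c, hc, l, hl, rfl⟩ := h3 w hw
  obtain ⟨c', hc', l', hl', rfl⟩ := h3 w' hw'
  have hn : closure ({a, t} : Set G) ≤ normalizer (ι.range : Set G) := by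
    rw [closure_le]
    rintro _ (rfl | rfl)
    · exact h2
    · exact (ac_one_iff.2 F.tC).norm
  have hcomm : closure ({a, t} : Set G) ≤ centralizer (closure ({a, t} : Set G) : Set G) := by
    rw [closure_le]
    intro b hb
    rw [SetLike.mem_coe, centralizer_closure, mem_centralizer_iff]
    intro d hd
    rcases hb with rfl | rfl <;> rcases hd with rfl | rfl
    · rfl
    · exact h1.symm
    · exact h1
    · rfl
  exact zz_comm (hn hc) (hn hc') (mem_centralizer_iff.1 (hcomm hc') c hc) hl hl'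

omit F hU in
theorem zz_cj {n w : G} (hn : n ∈ normalizer (T : Set G)) (h : T ≤ Cx w) :
    ∀ v ∈ T, n * w * n⁻¹ * v = v * (n * w * n⁻¹) := by
  intro v hv
  have h1 := mem_Cx.1 (h (conj_mem_of_mem_normalizer' hn hv))
  calc n * w * n⁻¹ * v = n * (w * (n⁻¹ * v * n)) * n⁻¹ := by group
    _ = v * (n * w * n⁻¹) := by rw [← h1]; group

/-- `N(T)` fixes `z` -/
theorem norm_z {n : G} (hn : n ∈ normalizer (T : Set G)) : n * ι z * n⁻¹ = ι z := by
  have h01 := zz_i hU (x_W 0 1 (by decide))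
  have h13 := zz_i hU (x_W 1 3 (by decide))
  have hz := zz_i hU (x_W 0 3 (by decide))
  have hL : n * ι z * n⁻¹ ∈ ι.range := by
    have h1 := F.zz_der hT hU (conj_mem_of_mem_normalizer hn h01) (conj_mem_of_mem_normalizer hn h13)
    have e : (z : A8) = x 0 1 * x 1 3 * (x 0 1)⁻¹ * (x 1 3)⁻¹ := by
      rw [inv_eq_of_mul_eq_one_right (x_sq 0 1), inv_eq_of_mul_eq_one_right (x_sq 1 3)]
      exact (x_cm 0 1 3 (by decide) (by decide) (by decide)).symm
    convert h1 using 1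
    rw [e]
    simp only [map_mul, map_inv]
    group
  obtain ⟨b, hb⟩ := hL
  rcases F.cen_T hT hU (conj_mem_of_mem_normalizer hn hz) (zz_cj hT hn (F.zz_Cz hT hU)) with
    e | e | e | e
  · exact absurd (conj_eq_one_iff.1 e) F.zz_iz
  · exact absurd (hb.trans e) (F.toFr0.i_ne_t b)
  · exact e
  · refine absurd ?_ (F.toFr0.i_ne_t (b * z⁻¹))
    rw [map_mul, map_inv, hb, e, mul_inv_cancel_right]

theorem zz_ne {n : G} (hn : n ∈ normalizer (T : Set G)) : n * t * n⁻¹ ≠ ι z := by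
  intro e
  have h1 := F.norm_z hT hU hn
  rw [← e] at h1
  exact F.toFr0.i_ne_t z (e.symm.trans (by simpa using h1))

theorem exists_u (h : ¬ IsSylowIn 2 T ⊤) : ∃ u ∈ normalizer (T : Set G), u * t * u⁻¹ = t * ι z ∧
    ¬ IsConj t (ι z) := by
  obtain ⟨R, hR, h1, -, h2⟩ := exists_lt_pgroup_normalizer hT.pgroup le_top h
  obtain ⟨u, hu, hu'⟩ := SetLike.exists_of_lt h1
  refine ⟨u, h2 hu, ?_, ?_⟩
  · rcases F.cen_T hT hU (conj_mem_of_mem_normalizer (h2 hu) (zz_t hU)) (zz_cj hT (h2 hu) hT.le) with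
      e | e | e | e
    · exact absurd (conj_eq_one_iff.1 e) F.t1
    · have h3 := hT.eq_of_le (Q := R ⊓ Cx t) (hR.to_le inf_le_left) (le_inf h1.le hT.le) inf_le_right
      exact absurd (h3 ▸ (⟨hu, mem_Cx'.2 e⟩ : u ∈ R ⊓ Cx t)) hu'
    · exact absurd e (F.zz_ne hT hU (h2 hu))
    · exact e
  · intro hc
    obtain ⟨g, hg⟩ := isConj_iff.1 hc
    have h3 : IsSylowIn 2 (cj g T) (Cx (ι z)) := by
      have := hT.cj g
      rwa [cj_Cx, hg] at this
    have h4 := h3.card_le hR fun r hr => mem_Cx'.2 (F.norm_z hT hU (h2 hr))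
    rw [card_cj] at h4
    exact h1.ne (eq_of_le_of_card_ge h1.le h4)

theorem syl_of (h : ¬ IsConj t (t * ι z)) : IsSylowIn 2 T ⊤ := by
  by_contra hn
  obtain ⟨u, -, h1, -⟩ := F.exists_u hT hU hn
  exact h (isConj_iff.2 ⟨u, h1⟩)

theorem nz_of_syl (h : IsSylowIn 2 T ⊤) : ¬ IsConj t (ι z) ∧ ¬ IsConj t (t * ι z) := by
  constructor
  · intro hc
    obtain ⟨g, hg⟩ := isConj_iff.1 hc
    obtain ⟨n, -, h1, h2⟩ := exists_normalizer_conj h (mem_top g) hT.le
      (by rw [hg]; exact F.zz_Cz hT hU)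
    exact F.zz_ne hT hU h1 (h2.trans hg)
  · intro hc
    obtain ⟨g, hg⟩ := isConj_iff.1 hc
    obtain ⟨n, -, h1, h2⟩ := exists_normalizer_conj h (mem_top g) hT.le (by
      rw [hg]
      intro w hw
      rw [mem_Cx, ← mul_assoc, mem_Cx.1 (hT.le hw), mul_assoc, mem_Cx.1 (F.zz_Cz hT hU hw),
        mul_assoc])
    rw [hg] at h2
    have h3 := F.norm_z hT hU h1
    have h4 : n ^ 2 ∈ Cx t := by
      rw [mem_Cx']
      calc n ^ 2 * t * (n ^ 2)⁻¹ = n * (n * t * n⁻¹) * n⁻¹ := by rw [pow_two]; group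
        _ = n * (t * ι z) * n⁻¹ := by rw [h2]
        _ = (n * t * n⁻¹) * (n * ι z * n⁻¹) := by group
        _ = t := by rw [h2, h3, mul_assoc, ← map_mul, x_sq, map_one, mul_one]
    obtain ⟨k, m, hm, e⟩ := Nat.exists_eq_two_pow_mul_odd (orderOf_pos n).ne'
    have h5 : IsPGroup 2 (zpowers (n ^ m)) :=
      isPGroup_zpowers_of_pow (k := k) (by rw [← pow_mul, mul_comm, ← e, pow_orderOf_eq_one])
    have h6 := h.le_of_normalizes h5 le_top (zpowers_le.2 (pow_mem h1 m))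
    have h7 : n ∈ Cx t := mem_of_coprime_pow ((Nat.coprime_two_left).2 hm) h4
      (hT.le (h6 (mem_zpowers _)))
    rw [mem_Cx'.1 h7] at h2
    exact F.zz_iz (by simpa using h2.symm)

end Fr

end CfsgLib.A8S.N9
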