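import Cfsg.Agent.Lib.A8S.Main

/-!
# Standard component `A₁₀` without odd elements: the weak frame.
-/

set_option autoImplicit false
set_option linter.unusedSectionVars false

namespace CfsgLib.A8S.N10

open Subgroup Cfsg CfsgLib.Tech CfsgLib.W2 CfsgLib.Classical

noncomputable section

variable {G : Type*} [Group G]

/-- the weak frame -/
structure Fr0 (ι : A8 →* G) (t : G) : Prop where
  inj : Function.Injective ι
  t2 : t * t = 1
  t1 : t ≠ 1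
  tC : CL ι t
  az : ∀ g, g * t = t * g → g * ι z = ι z * g → ∃ p, Ac ι g p
  nty : ¬ IsConj t (t * ι y)
  a2 : ∀ T ≤ Cx t, IsPGroup 2 T → ∃ c, c * t = t * c ∧ ∀ w ∈ T, ∃ p, Ac ι (c * w * c⁻¹) p
  eqt : ∀ c, CL ι c → c * t = t * c → c * c = 1 → c = 1 ∨ c = t

/-- `⟨t⟩` is Sylow in `C(L)` -/
structure Fr (ι : A8 →* G) (t : G) : Prop extends Fr0 ι t where
  two : ∀ c, CL ι c → c * t = t * c → Two c → c = 1 ∨ c = t

/-- an involution of `O₂(N(⟨t⟩ E₁))` moving `t` to `t a` -/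
structure Vx (ι : A8 →* G) (t : G) (a : A8) (v : G) : Prop where
  sq : v * v = 1
  ce : ∀ e : A8, (e : S8) ∈ E1 → v * ι e = ι e * v
  co : CO ι t v
  mv : v * t * v⁻¹ = t * ι a

/-- all `Vx a` are non-empty -/
def Ex (ι : A8 →* G) (t : G) : Prop := ∀ a : A8, (a : S8) ∈ E1 → a ≠ 1 → ∃ v, Vx ι t a v

/-- elementary type -/
def TyE (ι : A8 →* G) (t : G) : Prop :=
  ∀ (a b : A8) (v w : G), (a : S8) ∈ E1 → (b : S8) ∈ E1 → a ≠ 1 → b ≠ 1 → a ≠ b →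
    Vx ι t a v → Vx ι t b w → Vx ι t (a * b) (v * w)

/-- type `4³` -/
def TyC (ι : A8 →* G) (t : G) : Prop :=
  ∀ (a b : A8) (v w : G), (a : S8) ∈ E1 → (b : S8) ∈ E1 → a ≠ 1 → b ≠ 1 → a ≠ b →
    Vx ι t a v → Vx ι t b w → Vx ι t (a * b) (v * w * t)

/-- a hat of the transvection `a`: an involution centralising `C_L(a)` and moving `t` to `t a` -/
structure Kp (ι : A8 →* G) (t : G) (a : A8) (k : G) : Prop where
  sq : k * k = 1
  ce : ∀ c : A8, c * a = a * c → k * ι c = ι c * k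
  mv : k * t * k⁻¹ = t * ι a

/-- hats of all root elements, with coordinate ring `𝔽₂[ω]/(ω² + ω + c)` -/
structure Hats (ι : A8 →* G) (t : G) (k : Fin 4 → Fin 4 → G) (c : ℕ) : Prop where
  kp : ∀ i j, i ≠ j → Kp ι t (x i j) (k i j)
  co : ∀ i j, i ≠ j → CO ι t (k i j)
  eqv : ∀ i j, i ≠ j → k i j = ι (nn i j) * k 0 3 * (ι (nn i j))⁻¹
  com : ∀ i j i' j', i ≠ j → i' ≠ j' → i ≠ j' → j ≠ i' → k i j * k i' j' = k i' j' * k i j
  kx : ∀ i j l, i ≠ j → j ≠ l → i ≠ l → k i j * ι (x j l) * k i j * ι (x j l) = k i l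
  xk : ∀ i j l, i ≠ j → j ≠ l → i ≠ l → ι (x i j) * k j l * ι (x i j) * k j l = k i l
  kk : ∀ i j l, i ≠ j → j ≠ l → i ≠ l → k i j * k j l * k i j * k j l = k i l * ι (x i l) ^ c

/-- the group generated by `L` and the hats -/
def G0 (ι : A8 →* G) (k : Fin 4 → Fin 4 → G) : Subgroup G :=
  ι.range ⊔ closure {g | ∃ i j, i ≠ j ∧ g = k i j}

/-- the field case -/
structure Fld (ι : A8 →* G) (t : G) (φ : Γ →* G) : Prop where
  inj : Function.Injective φ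
  one : ∀ i j, i ≠ j → φ (tv i j 1) = ι (x i j)
  fld : ∀ m, t * φ m * t⁻¹ = φ (σΓ m)

/-- the product case -/
structure Prd (ι : A8 →* G) (t : G) (ι₁ ι₂ : A8 →* G) : Prop where
  inj : Function.Injective ι₁
  dia : ∀ a, ι a = ι₁ a * ι₂ a
  com : ∀ a b, ι₁ a * ι₂ b = ι₂ b * ι₁ a
  swp : ∀ a, t * ι₁ a * t⁻¹ = ι₂ a
  unq : ∀ a n : A8, n * z * n⁻¹ = a → ∀ w, Kp ι t a w → w = ι₁ a ∨ w = ι₂ a

open TG SylT in
/-- the case `HS` -/
structure Hs (ι : A8 →* G) (t : G) (φ : TS →* G) : Prop where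
  ht : φ (o 512) = t
  hs : φ (o 256) = ι (x 1 2)
  hq : φ (o 128) = ι (x 2 3)
  hp : φ (o 64) = ι (x 1 3)
  hw : φ (o 32) = ι (x 0 1)
  hv : φ (o 8) = ι (x 0 2)
  hz : φ (o 2) = ι (x 0 3)
  /-- `b` lies in the normal closure of `L` -/
  hb : ∀ N : Subgroup G, N.Normal → ι.range ≤ N → φ (o 16) ∈ N


end

end CfsgLib.A8S.N10
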