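import Cfsg.Agent.Lib.A8S.NTPP

/-!
# HAT1B: a fixed point of the unipotent radical on the elementary group of order 64 (port of Lib/A8S to the weak frame, for `A₁₀`)
-/

set_option autoImplicit false
set_option linter.unusedSectionVars false
set_option Elab.async false

namespace CfsgLib.A8S.N10

open Subgroup Cfsg CfsgLib.Tech CfsgLib.W2 CfsgLib.Classical

universe u

/-- the operator computation, additively -/
theorem hb_add {M : Type*} [AddCommGroup M] (h2 : ∀ m : M, m + m = 0) (A B C D : M →+ M)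
    (AA : ∀ m, A (A m) = m) (BB : ∀ m, B (B m) = m) (CC : ∀ m, C (C m) = m)
    (DD : ∀ m, D (D m) = m)
    (hC : ∀ m, A (B (A (B m))) = C m) (hC' : ∀ m, B (A (B (A m))) = C m)
    (hA : ∀ m, C (D (C (D m))) = A m) (BC : ∀ m, B (C m) = C (B m))
    {e1 e2 e3 : M} (n2 : e2 ≠ 0) (n3 : e3 ≠ 0)
    (A1 : A e1 = e1 + e2) (A2 : A e2 = e2) (A3 : A e3 = e3)
    (B1 : B e1 = e1) (B2 : B e2 = e2 + e3) (B3 : B e3 = e3)
    (C1 : C e1 = e1 + e3) (C2 : C e2 = e2) (C3 : C e3 = e3)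
    (D3 : D e3 = e3 + e2)
    {E : M → Prop} (hE : ∀ m, E m → ∃ i < 2, ∃ j < 2, ∃ k < 2, m = i • e1 + j • e2 + k • e3)
    {μ l κ : M} (hl : l = A μ + μ) (hκ : κ = B l + l)
    (h1 : E (B μ + μ)) (h3 : E (A κ + κ)) (h4 : E (l + (D κ + κ))) :
    A κ = κ ∧ B κ = κ ∧ C κ = κ := by
  obtain ⟨u, hu⟩ : ∃ u, u = B μ + μ := ⟨_, rfl⟩
  obtain ⟨w, hw⟩ : ∃ w, w = A κ + κ := ⟨_, rfl⟩
  obtain ⟨s, hs⟩ : ∃ s, s = l + (D κ + κ) := ⟨_, rfl⟩
  rw [← hu] at h1
  rw [← hw] at h3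
  rw [← hs] at h4
  have Aμ : A μ = μ + l := by linear_combination (norm := abel) -hl - h2 μ
  have Bμ : B μ = μ + u := by linear_combination (norm := abel) -hu - h2 μ
  have Bl : B l = l + κ := by linear_combination (norm := abel) -hκ - h2 l
  have Aκ : A κ = κ + w := by linear_combination (norm := abel) -hw - h2 κ
  have Dκ : D κ = κ + l + s := by linear_combination (norm := abel) -hs - h2 κ - h2 l
  have Al : A l = l := by rw [hl, map_add, AA, add_comm]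
  have Bκ : B κ = κ := by rw [hκ, map_add, BB, add_comm]
  have Aw : A w = w := by rw [hw, map_add, AA, add_comm]
  have Du : A u + A (B (A u)) = u + B (A u) := by
    obtain ⟨i, -, j, -, k, -, rfl⟩ := hE u h1
    simp only [map_add, map_nsmul, A1, A2, A3, B1, B2, B3, smul_add]
    linear_combination (norm := abel) h2 (i • e2)
  have Bw : B w = w := by
    have h := (hC μ).trans (hC' μ).symm
    simp only [map_add, Aμ, Bμ, Bl, Aκ, Al, Bκ] at h
    linear_combination (norm := abel) -h + Du - h2 κ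
  obtain ⟨k, hk⟩ : ∃ k : ℕ, w = k • e3 := by
    obtain ⟨i, hi, j, hj, k, -, rfl⟩ := hE w h3
    simp only [map_add, map_nsmul, A1, A2, A3, B1, B2, B3, smul_add] at Aw Bw
    have i0 : i • e2 = 0 := by linear_combination (norm := abel) Aw
    have j0 : j • e3 = 0 := by linear_combination (norm := abel) Bw
    interval_cases i
    · interval_cases j
      · exact ⟨k, by simp⟩
      · exact (n3 (by simpa using j0)).elim
    · exact (n2 (by simpa using i0)).elim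
  have Cκ : C κ = κ := by
    rw [← hC, Bκ, Aκ, map_add, Bκ, Bw, map_add, Aκ, Aw, add_assoc, h2, add_zero]
  obtain ⟨r, hr⟩ : ∃ r, r = C (l + s) + (l + s) := ⟨_, rfl⟩
  have Cl : C (l + s) = l + s + r := by linear_combination (norm := abel) -hr - h2 (l + s)
  have Dl : D (l + s) = l + s := by
    have h := DD κ
    rw [Dκ, add_assoc, map_add, Dκ] at h
    linear_combination (norm := abel) h - h2 (l + s) + h2 (D (l + s)) - h2 (D (l + s))
  have hr2 : r = k • e3 + k • e2 := by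
    have h := hA κ
    rw [Dκ, add_assoc, map_add, Cκ, Cl, map_add D, map_add D (l + s), Dl, Dκ, Aκ] at h
    have h' : κ + l + s + (l + s + D r) = κ + D r := by
      linear_combination (norm := abel) h2 (l + s)
    rw [h', map_add, Cκ, add_right_inj] at h
    have h'' := congrArg (fun m => D (C m)) h
    simp only [CC, DD, hk, map_nsmul, C3, D3, smul_add] at h''
    exact h''
  have w0 : w = 0 := by
    obtain ⟨i, -, j, -, k', -, hs'⟩ := hE s h4
    have Cs : C s = s + i • e3 := by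
      rw [hs']
      simp only [map_add, map_nsmul, C1, C2, C3, smul_add]
      abel
    have Cl' : C l = l + r + i • e3 := by
      rw [map_add, Cs] at Cl
      linear_combination (norm := abel) Cl - h2 (i • e3)
    have h := BC l
    rw [Cl', Bl, map_add, map_add, map_add, Bl, Cl', Cκ, hr2] at h
    simp only [map_add, map_nsmul, B2, B3, smul_add] at h
    rw [hk]
    linear_combination (norm := abel) h
  exact ⟨by rw [Aκ, w0, add_zero], Bκ, Cκ⟩

/-- the operator computation in an elementary abelian subgroup -/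
theorem hb_mul {G : Type*} [Group G] {H : Subgroup G} (h2 : El H) {a b c d : G}
    (ha : ∀ g ∈ H, a * g * a⁻¹ ∈ H) (hb : ∀ g ∈ H, b * g * b⁻¹ ∈ H)
    (hc : ∀ g ∈ H, c * g * c⁻¹ ∈ H) (hd : ∀ g ∈ H, d * g * d⁻¹ ∈ H)
    (aa : a * a = 1) (bb : b * b = 1) (cc : c * c = 1) (dd : d * d = 1)
    (hC : a * b * a * b = c) (hC' : b * a * b * a = c) (hA : c * d * c * d = a) (BC : b * c = c * b)
    {e1 e2 e3 : G} (m1 : e1 ∈ H) (m2 : e2 ∈ H) (m3 : e3 ∈ H) (n2 : e2 ≠ 1) (n3 : e3 ≠ 1)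
    (A1 : a * e1 * a⁻¹ = e1 * e2) (A2 : a * e2 * a⁻¹ = e2) (A3 : a * e3 * a⁻¹ = e3)
    (B1 : b * e1 * b⁻¹ = e1) (B2 : b * e2 * b⁻¹ = e2 * e3) (B3 : b * e3 * b⁻¹ = e3)
    (C1 : c * e1 * c⁻¹ = e1 * e3) (C2 : c * e2 * c⁻¹ = e2) (C3 : c * e3 * c⁻¹ = e3)
    (D3 : d * e3 * d⁻¹ = e3 * e2)
    {E : G → Prop} (hE : ∀ m, E m → ∃ i < 2, ∃ j < 2, ∃ k < 2, m = e1 ^ i * e2 ^ j * e3 ^ k)
    {μ l κ : G} (hμ : μ ∈ H) (hl : l = a * μ * a⁻¹ * μ) (hκ : κ = b * l * b⁻¹ * l)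
    (h1 : E (b * μ * b⁻¹ * μ)) (h3 : E (a * κ * a⁻¹ * κ)) (h4 : E (l * (d * κ * d⁻¹ * κ))) :
    a * κ * a⁻¹ = κ ∧ b * κ * b⁻¹ = κ ∧ c * κ * c⁻¹ = κ := by
  have sq : ∀ g ∈ H, g⁻¹ = g := fun g hg => inv_eq_of_mul_eq_one_right (h2 g hg)
  let _ : CommGroup H :=
    { (inferInstance : Group H) with
      mul_comm := fun g h => Subtype.ext (by
        have := sq _ (H.mul_mem g.2 h.2)
        rw [mul_inv_rev, sq _ g.2, sq _ h.2] at this
        exact this.symm) }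
  let cj : ∀ g : G, (∀ h ∈ H, g * h * g⁻¹ ∈ H) → Additive H →+ Additive H := fun g hg =>
    AddMonoidHom.mk' (fun h => Additive.ofMul ⟨g * h.toMul * g⁻¹, hg _ h.toMul.2⟩) fun p q =>
      Subtype.ext (by
        show g * ((p.toMul : G) * q.toMul) * g⁻¹ = g * p.toMul * g⁻¹ * (g * q.toMul * g⁻¹)
        group)
  have hlH : l ∈ H := hl ▸ H.mul_mem (ha _ hμ) hμ
  have hκH : κ ∈ H := hκ ▸ H.mul_mem (hb _ hlH) hlH
  have i2 : ∀ (g : G) (hg), g * g = 1 → ∀ m, cj g hg (cj g hg m) = m := fun g hg h m =>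
    Subtype.ext (by
      show g * (g * (m.toMul : G) * g⁻¹) * g⁻¹ = m.toMul
      calc _ = g * g * (m.toMul : G) * (g * g)⁻¹ := by group
        _ = _ := by rw [h]; group)
  have i4 : ∀ (g h k : G) (hg hh hk), g * h * g * h = k → ∀ m,
      cj g hg (cj h hh (cj g hg (cj h hh m))) = cj k hk m := fun g h k hg hh hk e m =>
    Subtype.ext (by
      show g * (h * (g * (h * (m.toMul : G) * h⁻¹) * g⁻¹) * h⁻¹) * g⁻¹ = k * m.toMul * k⁻¹
      rw [← e]; group)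
  have key := hb_add (M := Additive H) (fun m => Subtype.ext (h2 _ m.toMul.2))
    (cj a ha) (cj b hb) (cj c hc) (cj d hd) (i2 _ _ aa) (i2 _ _ bb) (i2 _ _ cc) (i2 _ _ dd)
    (i4 _ _ _ _ _ _ hC) (i4 _ _ _ _ _ _ hC') (i4 _ _ _ _ _ _ hA)
    (fun m => Subtype.ext (by
      show b * (c * (m.toMul : G) * c⁻¹) * b⁻¹ = c * (b * (m.toMul : G) * b⁻¹) * c⁻¹
      calc _ = b * c * (m.toMul : G) * (b * c)⁻¹ := by group
        _ = _ := by rw [BC]; group))
    (e1 := Additive.ofMul ⟨e1, m1⟩) (e2 := Additive.ofMul ⟨e2, m2⟩) (e3 := Additive.ofMul ⟨e3, m3⟩)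
    (fun h => n2 (congrArg Subtype.val h)) (fun h => n3 (congrArg Subtype.val h))
    (Subtype.ext A1) (Subtype.ext A2) (Subtype.ext A3) (Subtype.ext B1) (Subtype.ext B2)
    (Subtype.ext B3) (Subtype.ext C1) (Subtype.ext C2) (Subtype.ext C3) (Subtype.ext D3)
    (E := fun m => E (m.toMul : G))
    (fun m hm => by
      obtain ⟨i, hi, j, hj, k, hk, e⟩ := hE _ hm
      exact ⟨i, hi, j, hj, k, hk, Subtype.ext e⟩)
    (μ := Additive.ofMul ⟨μ, hμ⟩) (l := Additive.ofMul ⟨l, hlH⟩) (κ := Additive.ofMul ⟨κ, hκH⟩)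
    (Subtype.ext hl) (Subtype.ext hκ) h1 h3 h4
  exact ⟨congrArg Subtype.val key.1, congrArg Subtype.val key.2.1, congrArg Subtype.val key.2.2⟩

variable {G : Type u} [Group G] [Finite G] {ι : A8 →* G} {t : G}

theorem hb_sq {a : A8} (ha : (a : S8) ∈ E1) : a * a = 1 := Subtype.ext (el_E1.1 _ ha)

/-- the elementary group of order 64 -/
def hbE (F : Fr ι t) (hE : TyE ι t) : Subgroup G where
  carrier := {g | (∃ e : A8, (e : S8) ∈ E1 ∧ g = ι e) ∨
    ∃ a : A8, (a : S8) ∈ E1 ∧ a ≠ 1 ∧ Vx ι t a g}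
  one_mem' := .inl ⟨1, E1.one_mem, (map_one ι).symm⟩
  mul_mem' := by
    rintro g h (⟨e, he, rfl⟩ | ⟨a, ha, a1, hg⟩) (⟨f, hf, rfl⟩ | ⟨b, hb, b1, hh⟩)
    · exact .inl ⟨e * f, E1.mul_mem he hf, (map_mul ι _ _).symm⟩
    · exact .inr ⟨b, hb, b1, hh.ce e he ▸ hh.mul_i F.toFr0 he⟩
    · exact .inr ⟨a, ha, a1, hg.mul_i F.toFr0 hf⟩
    · by_cases hab : a = b
      · subst hab
        obtain ⟨e, he, rfl⟩ := F.vx_uniq ha a1 hg hh
        exact .inl ⟨e, he, by rw [← mul_assoc, hg.sq, one_mul]⟩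
      · refine .inr ⟨a * b, E1.mul_mem ha hb, fun h => hab ?_, hE _ _ _ _ ha hb a1 b1 hab hg hh⟩
        rw [← mul_one a, ← hb_sq hb, ← mul_assoc, h, one_mul]
  inv_mem' := by
    rintro g (⟨e, he, rfl⟩ | ⟨a, ha, a1, hg⟩)
    · exact .inl ⟨e⁻¹, E1.inv_mem he, (map_inv ι _).symm⟩
    · exact .inr ⟨a, ha, a1, by rwa [inv_eq_of_mul_eq_one_right hg.sq]⟩

theorem hb_el (F : Fr ι t) (hE : TyE ι t) : El (hbE F hE) := by
  rintro g (⟨e, he, rfl⟩ | ⟨a, -, -, hg⟩)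
  · rw [← map_mul, hb_sq he, map_one]
  · exact hg.sq

theorem hb_cj (F : Fr ι t) (hE : TyE ι t) {m : A8} (hm : NE m) :
    ∀ g ∈ hbE F hE, ι m * g * (ι m)⁻¹ ∈ hbE F hE := by
  rintro g (⟨e, he, rfl⟩ | ⟨a, ha, a1, hg⟩)
  · exact .inl ⟨_, hm e he, by simp⟩
  · exact .inr ⟨_, hm a ha, by simpa using a1, hg.conj F.toFr0 hm⟩

/-- two `Vx a` differ by an element of `E1` -/
theorem hb_diff (F : Fr ι t) {a : A8} (ha : (a : S8) ∈ E1) (a1 : a ≠ 1) {v w : G} (h1 : Vx ι t a v)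
    (h2 : Vx ι t a w) : ∃ i < 2, ∃ j < 2, ∃ k < 2,
      v * w = ι (x 0 1) ^ i * ι (x 0 2) ^ j * ι (x 0 3) ^ k := by
  obtain ⟨e, he, rfl⟩ := F.vx_uniq ha a1 h1 h2
  obtain ⟨i, hi, j, hj, k, hk, h⟩ := E1_cases he
  refine ⟨i, hi, j, hj, k, hk, ?_⟩
  rw [← mul_assoc, h1.sq, one_mul, Subtype.ext h]
  simp only [map_mul, map_pow]

theorem hb_one (F : Fr ι t) (h : Ex ι t) (hE : TyE ι t) :
    ∃ k, Vx ι t z k ∧ ι (x 1 2) * k * (ι (x 1 2))⁻¹ = k ∧ ι (x 2 3) * k * (ι (x 2 3))⁻¹ = k ∧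
      ι (x 1 3) * k * (ι (x 1 3))⁻¹ = k := by
  have m1 : (x 0 1 : S8) ∈ E1 := by decide +kernel
  have m2 : (x 0 2 : S8) ∈ E1 := by decide +kernel
  have m3 : (x 0 3 : S8) ∈ E1 := by decide +kernel
  have n1 : x 0 1 ≠ 1 := x_ne _ _ (by decide)
  have n2 : x 0 2 ≠ 1 := x_ne _ _ (by decide)
  have n3 : x 0 3 ≠ 1 := x_ne _ _ (by decide)
  have na : NE (x 1 2) := NE_x _ _ (by decide) (by decide)
  have nb : NE (x 2 3) := NE_x _ _ (by decide) (by decide)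
  have nc : NE (x 1 3) := NE_x _ _ (by decide) (by decide)
  have nd : NE (x 3 2) := NE_x _ _ (by decide) (by decide)
  -- commutators
  have step : ∀ {m a b : A8} {v : G}, NE m → (a : S8) ∈ E1 → a ≠ 1 → m * a * m⁻¹ ≠ a →
      m * a * m⁻¹ * a = b → Vx ι t a v → Vx ι t b (ι m * v * (ι m)⁻¹ * v) := by
    intro m a b v hm ha a1 hne e hv
    exact e ▸ hE _ _ _ _ (hm a ha) ha (by simpa using a1) a1 hne (hv.conj F.toFr0 hm) hv
  have fix : ∀ {m a : A8} {v : G}, NE m → m * a * m⁻¹ = a → Vx ι t a v →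
      Vx ι t a (ι m * v * (ι m)⁻¹) := by
    intro m a v hm e hv
    have := hv.conj F.toFr0 hm
    rwa [e] at this
  have tr : ∀ {p q r : A8}, p * q * p⁻¹ = r → ι p * ι q * (ι p)⁻¹ = ι r := by
    rintro p q r rfl; simp
  have tr' : ∀ {p q r s : A8}, p * q * p⁻¹ = r * s → ι p * ι q * (ι p)⁻¹ = ι r * ι s := by
    intro p q r s e; rw [tr e, map_mul]
  have sq : ∀ i j, ι (x i j) * ι (x i j) = 1 := fun i j => by rw [← map_mul, x_sq, map_one]
  have cm : ∀ {p q r : A8}, p * q * p * q = r → ι p * ι q * ι p * ι q = ι r := by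
    rintro p q r rfl; simp
  obtain ⟨μ, hμ⟩ := h _ m1 n1
  have hl := step (b := x 0 2) na m1 n1 (by decide +kernel) (by decide +kernel) hμ
  have hκ := step (b := x 0 3) nb m2 n2 (by decide +kernel) (by decide +kernel) hl
  have hl' := step (b := x 0 2) nd m3 n3 (by decide +kernel) (by decide +kernel) hκ
  refine ⟨_, hκ, hb_mul (hb_el F hE) (hb_cj F hE na) (hb_cj F hE nb) (hb_cj F hE nc) (hb_cj F hE nd)
    (sq _ _) (sq _ _) (sq _ _) (sq _ _) (cm (by decide +kernel)) (cm (by decide +kernel))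
    (cm (by decide +kernel)) (by rw [← map_mul, ← map_mul]; exact congrArg ι (by decide +kernel))
    (e1 := ι (x 0 1)) (e2 := ι (x 0 2)) (e3 := ι (x 0 3))
    (.inl ⟨_, m1, rfl⟩) (.inl ⟨_, m2, rfl⟩) (.inl ⟨_, m3, rfl⟩)
    (fun e => n2 (F.inj (e.trans (map_one ι).symm))) (fun e => n3 (F.inj (e.trans (map_one ι).symm)))
    (tr' (by decide +kernel)) (tr (by decide +kernel)) (tr (by decide +kernel))
    (tr (by decide +kernel)) (tr' (by decide +kernel)) (tr (by decide +kernel))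
    (tr' (by decide +kernel)) (tr (by decide +kernel)) (tr (by decide +kernel))
    (tr' (by decide +kernel)) (fun _ h => h) (.inr ⟨_, m1, n1, hμ⟩) rfl rfl
    (hb_diff F m1 n1 (fix nb (by decide +kernel) hμ) hμ)
    (hb_diff F m3 n3 (fix na (by decide +kernel) hκ) hκ) (hb_diff F m2 n2 hl hl')⟩

/-- operator computation in an elementary abelian group `X ≥ ⟨e₁, e₂, e₃⟩`:
`a, b, c, d` act as `x12, x23, x13, x32` -/
theorem Fr.fix_U (F : Fr ι t) (h : Ex ι t) (hE : TyE ι t) {m : A8} (hm : NE m) :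
    ∃ k, Vx ι t (m * z * m⁻¹) k ∧ k * ι (m * x 1 2 * m⁻¹) = ι (m * x 1 2 * m⁻¹) * k ∧
      k * ι (m * x 2 3 * m⁻¹) = ι (m * x 2 3 * m⁻¹) * k ∧
      k * ι (m * x 1 3 * m⁻¹) = ι (m * x 1 3 * m⁻¹) * k := by
  obtain ⟨k, hk, h1, h2, h3⟩ := hb_one F h hE
  have tr : ∀ a : A8, ι a * k * (ι a)⁻¹ = k →
      ι m * k * (ι m)⁻¹ * ι (m * a * m⁻¹) = ι (m * a * m⁻¹) * (ι m * k * (ι m)⁻¹) := by
    intro a e
    simp only [map_mul, map_inv]
    calc _ = ι m * (ι a * k * (ι a)⁻¹) * ι a * (ι m)⁻¹ := by rw [e]; group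
      _ = _ := by group
  exact ⟨_, hk.conj F.toFr0 hm, tr _ h1, tr _ h2, tr _ h3⟩

end CfsgLib.A8S.N10
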