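import Cfsg.Agent.Lib.A8S.OrbA

/-!
# ORB: the fusion pattern if `t` is not conjugate to `t z` (plans/A8S.md)
-/

set_option autoImplicit false
set_option linter.unusedSectionVars false
set_option Elab.async false

namespace CfsgLib.A8S

open Subgroup Cfsg CfsgLib.Tech CfsgLib.W2 CfsgLib.Classical

universe u

variable {G : Type u} [Group G] [Finite G] {ι : A8 →* G} {t : G} {K : Subgroup G}

theorem orb_sq {s : G} (h2 : t * t = 1) (h : IsConj t s) : s * s = 1 := by
  obtain ⟨c, rfl⟩ := isConj_iff.1 h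
  rw [conj_mul, h2, mul_one, mul_inv_cancel]

theorem orb_cj {s : G} (h : IsConj t s) (c : G) : IsConj t (c * s * c⁻¹) := h.trans (isConj_iff.2 ⟨c, rfl⟩)

theorem orb_dec {a : G} (ha : Out ι t a) {s : G} (hs : s ∈ zpowers a ⊔ img ι W8) :
    ∃ b : A8, s = ι b ∨ s = a * ι b := by
  have hn : ∀ g ∈ ι.range, a * g * a ∈ ι.range := fun g hg => by
    have := (mem_normalizer_iff.1 ha.ac.norm g).1 hg
    rwa [inv_eq_of_mul_eq_one_right ha.sq] at this
  have e : ∀ g, a * (a * g) = g := fun g => by rw [← mul_assoc, ha.sq, one_mul]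
  let P : Subgroup G :=
    { carrier := {g | g ∈ ι.range ∨ a * g ∈ ι.range}
      one_mem' := .inl (one_mem _)
      mul_mem' := by
        rintro g k (hg | hg) (hk | hk)
        · exact .inl (mul_mem hg hk)
        · exact .inr (by simpa only [mul_assoc, e] using mul_mem (hn _ hg) hk)
        · exact .inr (by simpa only [mul_assoc] using mul_mem hg hk)
        · exact .inl (by simpa only [mul_assoc, e] using mul_mem (hn _ hg) hk)
      inv_mem' := by
        rintro g (hg | hg)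
        · exact .inl (inv_mem hg)
        · refine .inr ?_
          have := hn _ (inv_mem hg)
          rwa [mul_inv_rev, mul_assoc, inv_mul_cancel_right] at this }
  have : zpowers a ⊔ img ι W8 ≤ P := sup_le (zpowers_le.2 (.inr (by rw [ha.sq]; exact one_mem _)))
    fun _ ⟨b, _, hb⟩ => .inl ⟨b, hb⟩
  rcases this hs with ⟨b, hb⟩ | ⟨b, hb⟩
  exacts [⟨b, .inl hb.symm⟩, ⟨b, .inr (by rw [hb, e])⟩]

namespace Fr

variable (F : Fr ι t) (h : ¬ IsConj t (t * ι z))
include F h

theorem orb_in {b : A8} (hb : b = 1 ∨ b = z ∨ b = y) : ¬ IsConj t (ι b) := by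
  rcases hb with rfl | rfl | rfl
  · rw [map_one, isConj_one_left]; exact F.t1
  exacts [F.nz, (F.ny h).1]

theorem exists_out (g : SLE.Glob K t) : ∃ a, Out ι t a ∧ ¬ IsConj t a ∧ ¬ IsConj t (a * ι ys) := by
  have he : Even (Nat.card K) := by
    have := card_dvd_of_le (F.toFr0.le_K g)
    rw [← Nat.card_congr (MonoidHom.ofInjective F.inj).toEquiv, card_A8] at this
    exact even_iff_two_dvd.2 (dvd_trans (by norm_num) this)
  obtain ⟨s, h1, h2, h3⟩ := g.exists_conj he F.t2 F.t1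
  obtain ⟨l, ⟨b, hb, e | e⟩ | ⟨a, ha, -⟩⟩ := F.toFr0.inv_cls h2 (orb_sq F.t2 h1)
  · exact absurd (e ▸ orb_cj h1 _) (F.orb_in h hb)
  · have h4 := e ▸ orb_cj h1 (ι l)
    rcases hb with rfl | rfl | rfl
    · rw [map_one, mul_one, mul_inv_eq_iff_eq_mul, F.tC l] at e
      exact absurd (mul_left_cancel e) h3
    exacts [absurd h4 h, absurd h4 (F.ny h).2]
  · rcases F.one_cls h ha with k | k
    exacts [⟨a, ha, k⟩, ⟨t * a, F.toFr0.out_t ha, k.1, by rw [mul_assoc]; exact k.2⟩]

/-- no conjugate of `t` lies in `⟨a⟩ U` -/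
theorem no_conj {a : G} (ha : Out ι t a) (h1 : ¬ IsConj t a) (h2 : ¬ IsConj t (a * ι ys)) {s : G}
    (hs : s ∈ zpowers a ⊔ img ι W8) : ¬ IsConj t s := by
  intro k
  have s2 := orb_sq F.t2 k
  obtain ⟨b, rfl | rfl⟩ := orb_dec ha hs
  · have b2 : (b : S8) * b = 1 := congrArg Subtype.val (F.inj (by rw [map_mul, s2, map_one]) : b * b = 1)
    obtain ⟨l, e⟩ := A8S.inv_cls b2
    have m : (l : S8) * b * l⁻¹ ∈ PG.alt 8 := (l * b * l⁻¹).2
    have k' := orb_cj k (ι l)
    rw [← map_inv, ← map_mul, ← map_mul] at k'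
    rcases e with e | e | e | e | e
    · exact F.orb_in h (.inl (Subtype.ext e)) k'
    · exact F.orb_in h (.inr (.inl (Subtype.ext e))) k'
    · exact F.orb_in h (.inr (.inr (Subtype.ext e))) k'
    · exact τ_odd (e ▸ m)
    · exact τ_odd ((mul_mem_cancel_right ys.2).1 (e ▸ m))
  · have c := ha.ac.mul (ac_i b)
    have c2 := c.mul c
    rw [s2] at c2
    obtain ⟨l, e⟩ := A8S.inv_cls (c2.unique F.inj (ac_one_iff.2 fun _ => by rw [one_mul, mul_one]))
    have m : (l : S8) * (τ * b) * l⁻¹ ∉ PG.alt 8 := fun m => τ_odd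
      ((mul_mem_cancel_right b.2).1 ((mul_mem_cancel_left l.2).1 ((mul_mem_cancel_right l⁻¹.2).1 m)))
    have k' := orb_cj k (ι l)
    rcases e with e | e | e | e | e
    · exact m (e ▸ one_mem _)
    · exact m (e ▸ z.2)
    · exact m (e ▸ y.2)
    · rw [F.toFr0.conj_out ha (b' := 1) (e.trans (mul_one _).symm), map_one, mul_one] at k'
      exact h1 k'
    · rw [F.toFr0.conj_out ha e] at k'
      exact h2 k'

end Fr

end CfsgLib.A8S
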