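import Cfsg.Agent.Auto.Nat_ble_eq_def
import Cfsg.Agent.Lib.A8S.Trn
import Cfsg.Agent.Lib.A8S.ZZ

/-!
# ORB (first half): the fusion pattern if `t` is not conjugate to `t z` (plans/A8S.md)
-/

set_option autoImplicit false
set_option linter.unusedSectionVars false
set_option Elab.async false

namespace CfsgLib.A8S

open Subgroup Cfsg CfsgLib.Tech CfsgLib.W2 CfsgLib.Classical

universe u

variable {G : Type u} [Group G] [Finite G] {ι : A8 →* G} {t : G} {K : Subgroup G}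

namespace Orb

/-- the group `2⁵` on `Fin 32` -/
def xr (a b : Fin 32) : Fin 32 := ⟨a.1 ^^^ b.1, Nat.xor_lt_two_pow (n := 5) a.2 b.2⟩

def n1 (P : Fin 32 → Bool) : ℕ := (Finset.univ.filter fun w => P w = true).card
def n2 (P : Fin 32 → Bool) (v : Fin 32) : ℕ :=
  (Finset.univ.filter fun w => (P w && P (xr v w)) = true).card
def n3 (P : Fin 32 → Bool) (v : Fin 32) : ℕ := ∑ w, if P w = true then n2 P (xr v w) else 0

/-- the counting invariants agree -/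
def Mt (P : Fin 32 → Bool) (v : Fin 32) (P' : Fin 32 → Bool) (v' : Fin 32) : Prop :=
  n1 P = n1 P' ∧ n2 P v = n2 P' v' ∧ n3 P v = n3 P' v'

instance (P : Fin 32 → Bool) (v : Fin 32) (P' : Fin 32 → Bool) (v' : Fin 32) :
    Decidable (Mt P v P' v') := inferInstanceAs (Decidable (_ ∧ _ ∧ _))

theorem mt_of (σ : Fin 32 ≃ Fin 32) {P P' : Fin 32 → Bool} (h1 : ∀ i j, σ (xr i j) = xr (σ i) (σ j))
    (h2 : ∀ i, P' (σ i) = P i) (v : Fin 32) : Mt P v P' (σ v) := by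
  have e2 : ∀ v, n2 P v = n2 P' (σ v) := fun v =>
    Finset.card_equiv σ fun i => by
      simp only [Finset.mem_filter, Finset.mem_univ, true_and]
      rw [← h1, h2, h2]
  refine ⟨Finset.card_equiv σ fun i => by
      simp only [Finset.mem_filter, Finset.mem_univ, true_and]
      rw [h2], e2 v, Finset.sum_equiv σ (by simp) fun i _ => ?_⟩
  rw [h2, e2, h1]

/-- an enumeration of an `E₃₂`, with the conjugates of `t` marked -/
structure En (t : G) (X : Subgroup G) (e : Fin 32 → G) (P : Fin 32 → Bool) : Prop where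
  mul : ∀ i j, e (xr i j) = e i * e j
  mem : ∀ g, g ∈ X ↔ ∃ i, e i = g
  card : Nat.card X = 32
  el : El X
  one : e 1 = t
  mrk : ∀ i, P i = true ↔ IsConj t (e i)

theorem En.inj {X : Subgroup G} {e : Fin 32 → G} {P : Fin 32 → Bool} (H : En t X e P) :
    Function.Injective e := by
  let f : Fin 32 → X := fun i => ⟨e i, (H.mem _).2 ⟨i, rfl⟩⟩
  have hs : Function.Surjective f := fun g => ((H.mem g).1 g.2).imp fun i h => Subtype.ext h
  have hb : Function.Bijective f :=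
    (Nat.bijective_iff_surjective_and_card f).2 ⟨hs, by rw [H.card]; simp⟩
  exact fun i j h => hb.1 (Subtype.ext h)

theorem En.mt {X X' : Subgroup G} {e e' : Fin 32 → G} {P P' : Fin 32 → Bool} (H : En t X e P)
    (H' : En t X' e' P') {g : G} (hg : cj g X = X') {v : Fin 32} (hv : g * e v * g⁻¹ = t) :
    Mt P v P' 1 := by
  have h0 : ∀ i, ∃ j, e' j = g * e i * g⁻¹ := fun i => (H'.mem _).1 (by
    rw [← hg, mem_cj]
    simpa [mul_assoc] using (H.mem _).2 ⟨i, rfl⟩)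
  choose s hs using h0
  have hi : Function.Injective s := fun i j h => H.inj (by
    have := hs i
    rw [h, hs j] at this
    simpa using this.symm)
  let σ : Fin 32 ≃ Fin 32 := Equiv.ofBijective s (Finite.injective_iff_bijective.1 hi)
  have h1 : σ v = 1 := H'.inj (by rw [H'.one, ← hv]; exact hs v)
  rw [← h1]
  refine mt_of σ (fun i j => H'.inj ?_) (fun i => ?_) v
  · change e' (s _) = e' (xr (s i) (s j))
    rw [H'.mul, hs, hs, hs, H.mul]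
    group
  · rw [Bool.eq_iff_iff, H.mrk, H'.mrk]
    change IsConj t (e' (s i)) ↔ _
    rw [hs]
    have hc : IsConj (e i) (g * e i * g⁻¹) := isConj_iff.2 ⟨g, rfl⟩
    exact ⟨fun h => h.trans hc.symm, fun h => h.trans hc⟩

/-- `g` or `1` -/
def bp {H : Type*} [Group H] (g : H) (b : Bool) : H := if b = true then g else 1

theorem bp_xor {H : Type*} [Group H] {g : H} (h : g * g = 1) (b c : Bool) :
    bp g (xor b c) = bp g b * bp g c := by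
  cases b <;> cases c <;> simp [bp, h]

theorem bp_mem {X : Subgroup G} {g : G} (h : g ∈ X) (b : Bool) : bp g b ∈ X := by
  cases b
  · exact X.one_mem
  · exact h

def b0 (i : Fin 32) : Bool := i.1 % 2 == 1
def kk (k : List ℕ) (i : Fin 32) : ℕ := k.getD (i.1 / 2) 0
def oo (k : List ℕ) (i : Fin 32) : Bool := Nat.ble 3 (kk k i)
noncomputable def ww (w : List (List ℕ)) (i : Fin 32) : A8 := AG.al (w.getD (i.1 / 2) [])
noncomputable def rp (c : ℕ) : A8 := [1, z, y, 1, ys].getD c 1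
def pt (p : List Bool) (k : List ℕ) (i : Fin 32) : Bool := p.getD (2 * kk k i + i.1 % 2) false
/-- the enumeration -/
noncomputable def en (ι : A8 →* G) (t a : G) (k : List ℕ) (w : List (List ℕ)) (i : Fin 32) : G :=
  bp t (b0 i) * (bp a (oo k i) * ι (ww w i))

/-- the tables are correct -/
def Ok (n : ℕ) (k : List ℕ) (w l : List (List ℕ)) (X : Subgroup S8) : Prop :=
  (∀ i j, oo k (xr i j) = xor (oo k i) (oo k j)) ∧ (∀ i j, ww w (xr i j) = ww w i * ww w j) ∧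
    (∀ i, (ww w i : S8) ∈ X) ∧ (∀ i, kk k i < n) ∧ kk k 1 = 0 ∧ ww w 1 = 1 ∧
    ∀ i, (ww l i : S8) * (bp τ (oo k i) * ww w i) * (ww l i : S8)⁻¹ = bp τ (oo k i) * rp (kk k i)

theorem b0_xr : ∀ i j, b0 (xr i j) = xor (b0 i) (b0 j) := by decide +kernel

def wA : List (List ℕ) := [[0, 1, 2, 3, 4, 5, 6, 7], [2, 3, 0, 1, 6, 7, 4, 5], [1, 0, 3, 2, 5,
    4, 7, 6], [3, 2, 1, 0, 7, 6, 5, 4], [1, 0, 3, 2, 7, 6, 5, 4], [3, 2, 1, 0, 5, 4, 7, 6], [0, 1,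
    2, 3, 6, 7, 4, 5], [2, 3, 0, 1, 4, 5, 6, 7], [3, 2, 1, 0, 6, 7, 4, 5], [1, 0, 3, 2, 4, 5, 6, 7],
    [2, 3, 0, 1, 7, 6, 5, 4], [0, 1, 2, 3, 5, 4, 7, 6], [2, 3, 0, 1, 5, 4, 7, 6], [0, 1, 2, 3, 7, 6,
    5, 4], [3, 2, 1, 0, 4, 5, 6, 7], [1, 0, 3, 2, 6, 7, 4, 5]]
def kA : List ℕ := [0, 1, 1, 1, 1, 1, 2, 2, 1, 2, 1, 2, 1, 2, 2, 1]
def lA : List (List ℕ) := [[0, 1, 2, 3, 4, 5, 6, 7], [0, 2, 1, 3, 4, 6, 5, 7], [0, 1, 2, 3, 4,
    5, 6, 7], [0, 2, 3, 1, 4, 6, 7, 5], [0, 1, 2, 3, 4, 6, 7, 5], [0, 2, 3, 1, 4, 5, 6, 7], [4, 5,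
    6, 7, 0, 3, 1, 2], [0, 2, 1, 3, 4, 5, 7, 6], [0, 2, 3, 1, 4, 7, 5, 6], [0, 1, 2, 3, 4, 5, 6, 7],
    [0, 2, 1, 3, 4, 7, 6, 5], [4, 5, 6, 7, 0, 1, 2, 3], [0, 2, 1, 3, 4, 5, 7, 6], [4, 5, 6, 7, 0, 2,
    3, 1], [0, 2, 3, 1, 4, 5, 6, 7], [0, 1, 2, 3, 4, 7, 5, 6]]
def wF : List (List ℕ) := [[0, 1, 2, 3, 4, 5, 6, 7], [0, 1, 2, 3, 4, 5, 6, 7], [1, 0, 3, 2, 4,
    5, 6, 7], [1, 0, 3, 2, 4, 5, 6, 7], [1, 0, 2, 3, 5, 4, 6, 7], [1, 0, 2, 3, 5, 4, 6, 7], [0, 1,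
    3, 2, 5, 4, 6, 7], [0, 1, 3, 2, 5, 4, 6, 7], [1, 0, 2, 3, 4, 5, 7, 6], [1, 0, 2, 3, 4, 5, 7, 6],
    [0, 1, 3, 2, 4, 5, 7, 6], [0, 1, 3, 2, 4, 5, 7, 6], [0, 1, 2, 3, 5, 4, 7, 6], [0, 1, 2, 3, 5, 4,
    7, 6], [1, 0, 3, 2, 5, 4, 7, 6], [1, 0, 3, 2, 5, 4, 7, 6]]
def kF : List ℕ := [0, 3, 2, 3, 2, 3, 2, 4, 2, 3, 2, 4, 2, 4, 1, 4]
def lF : List (List ℕ) := [[0, 1, 2, 3, 4, 5, 6, 7], [0, 1, 2, 3, 4, 5, 6, 7], [0, 1, 2, 3, 4,
    5, 6, 7], [2, 3, 0, 1, 4, 5, 6, 7], [0, 1, 4, 5, 2, 3, 6, 7], [2, 3, 4, 5, 0, 1, 6, 7], [4, 5,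
    0, 1, 2, 3, 6, 7], [0, 1, 2, 3, 4, 5, 6, 7], [0, 1, 4, 5, 6, 7, 2, 3], [2, 3, 4, 5, 6, 7, 0, 1],
    [4, 5, 0, 1, 6, 7, 2, 3], [0, 1, 2, 3, 6, 7, 4, 5], [4, 5, 6, 7, 0, 1, 2, 3], [0, 1, 6, 7, 2, 3,
    4, 5], [0, 1, 2, 3, 4, 5, 6, 7], [6, 7, 0, 1, 2, 3, 4, 5]]
def wM : List (List ℕ) := [[0, 1, 2, 3, 4, 5, 6, 7], [0, 1, 2, 3, 4, 5, 6, 7], [1, 0, 3, 2, 4,
    5, 6, 7], [1, 0, 3, 2, 4, 5, 6, 7], [0, 1, 2, 3, 5, 4, 7, 6], [0, 1, 2, 3, 5, 4, 7, 6], [1, 0,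
    3, 2, 5, 4, 7, 6], [1, 0, 3, 2, 5, 4, 7, 6], [0, 1, 2, 3, 6, 7, 4, 5], [0, 1, 2, 3, 6, 7, 4, 5],
    [1, 0, 3, 2, 6, 7, 4, 5], [1, 0, 3, 2, 6, 7, 4, 5], [0, 1, 2, 3, 7, 6, 5, 4], [0, 1, 2, 3, 7, 6,
    5, 4], [1, 0, 3, 2, 7, 6, 5, 4], [1, 0, 3, 2, 7, 6, 5, 4]]
def kM : List ℕ := [0, 3, 2, 3, 2, 4, 1, 4, 2, 4, 1, 4, 2, 4, 1, 4]
def lM : List (List ℕ) := [[0, 1, 2, 3, 4, 5, 6, 7], [0, 1, 2, 3, 4, 5, 6, 7], [0, 1, 2, 3, 4,
    5, 6, 7], [2, 3, 0, 1, 4, 5, 6, 7], [4, 5, 6, 7, 0, 1, 2, 3], [0, 1, 6, 7, 2, 3, 4, 5], [0, 1,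
    2, 3, 4, 5, 6, 7], [6, 7, 0, 1, 2, 3, 4, 5], [4, 5, 6, 7, 0, 3, 1, 2], [0, 1, 6, 7, 2, 5, 3, 4],
    [0, 1, 2, 3, 4, 7, 5, 6], [6, 7, 0, 1, 2, 5, 3, 4], [4, 5, 6, 7, 0, 2, 3, 1], [0, 1, 6, 7, 2, 4,
    5, 3], [0, 1, 2, 3, 4, 6, 7, 5], [6, 7, 0, 1, 2, 4, 5, 3]]

theorem okA : Ok 3 kA wA lA E8 := by unfold Ok; decide +kernel
theorem okF : Ok 5 kF wF lF F8 := by unfold Ok; decide +kernel
theorem okM : Ok 5 kM wM lM M8 := by unfold Ok; decide +kernel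

set_option synthInstance.maxSize 2000 in
theorem suA : ∀ c : Bool, ∀ i < 2, ∀ j < 2, ∀ k < 2, ∀ l < 2, ∃ m, b0 m = c ∧ oo kA m = false ∧
    (ww wA m : S8) = (x 0 2 ^ i * x 0 3 ^ j * x 1 2 ^ k * x 1 3 ^ l : A8) := by decide +kernel
set_option synthInstance.maxSize 2000 in
theorem suF : ∀ c d : Bool, ∀ i < 2, ∀ j < 2, ∀ k < 2, ∀ l < 2,
    τ ^ i * (y ^ j * y2 ^ k * y3 ^ l : A8) ∈ PG.alt 8 → ∃ m, b0 m = c ∧ oo kF m = d ∧
    (ww wF m : S8) = τ ^ i * (y ^ j * y2 ^ k * y3 ^ l : A8) := by decide +kernel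
set_option synthInstance.maxSize 2000 in
theorem suM : ∀ c d : Bool, ∀ i < 2, ∀ j < 2, ∀ k < 2, ∀ l < 2,
    τ ^ i * (y ^ j * (y * z) ^ k * y4 ^ l : A8) ∈ PG.alt 8 → ∃ m, b0 m = c ∧ oo kM m = d ∧
    (ww wM m : S8) = τ ^ i * (y ^ j * (y * z) ^ k * y4 ^ l : A8) := by decide +kernel

/-- conjugacy as a `Bool` -/
noncomputable def dc (t s : G) : Bool := @decide (IsConj t s) (_root_.Classical.dec _)

theorem dc_iff {s : G} : dc t s = true ↔ IsConj t s := by simp only [dc, decide_eq_true_iff]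

theorem dc_false {s : G} (h : ¬ IsConj t s) : dc t s = false := by
  rw [← Bool.not_eq_true, dc_iff]; exact h

/-- the pattern -/
def pa (p q : Bool) : List Bool := [false, true, false, false, p, q]
def po (p q a b c d : Bool) : List Bool := [false, true, false, false, p, q, a, b, c, d]

/-- no match with any of the three `E₃₂` at `t` -/
def No (P : Fin 32 → Bool) (v : Fin 32) (p q : Bool) : Prop :=
  P v = true ∧ ¬ Mt P v (pt (pa p q) kA) 1 ∧ ∀ a b c d,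
    ¬ Mt P v (pt (po p q a b c d) kF) 1 ∧ ¬ Mt P v (pt (po p q a b c d) kM) 1

instance (P : Fin 32 → Bool) (v : Fin 32) (p q : Bool) : Decidable (No P v p q) :=
  inferInstanceAs (Decidable (_ ∧ _ ∧ ∀ _ _ _ _, _ ∧ _))

theorem noA : ∀ p q : Bool, (p || q) = true →
    No (pt (pa p q) kA) (if p = true then 12 else 13) p q := by decide +kernel

theorem noF : ∀ a b c d : Bool, ((a || c) && (b || d)) = true →
    No (pt (po false false a b c d) kF) (if a = true then 2 else 14) false false := by decide +kernel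

theorem en_of (F : Fr0 ι t) {n : ℕ} {k : List ℕ} {w l : List (List ℕ)} {Y : Subgroup S8}
    (H : Ok n k w l Y) {X : Subgroup G} (hX : El X) (hc : Nat.card X = 32) {a : G} (ht : t ∈ X)
    (ha : a ∈ X) (hY : img ι Y ≤ X) (ho : ∀ i, oo k i = true → Out ι t a)
    (hs : ∀ g ∈ X, ∃ i, en ι t a k w i = g) {p : List Bool}
    (hp : ∀ c < n, ∀ b : Bool, p.getD (2 * c + b.toNat) false = true ↔
      IsConj t (bp t b * (bp a (Nat.ble 3 c) * ι (rp c)))) :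
    En t X (en ι t a k w) (pt p k) := by
  obtain ⟨h1, h2, h3, h4, h5, h6, h7⟩ := H
  have hw : ∀ i, ι (ww w i) ∈ X := fun i => hY (i_mem_img (h3 i))
  refine ⟨fun i j => ?_, fun g => ⟨hs g, ?_⟩, hc, hX, ?_, fun i => ?_⟩
  · have c1 : Commute (bp a (oo k i) * ι (ww w i)) (bp t (b0 j)) :=
      hX.comm (X.mul_mem (bp_mem ha _) (hw i)) (bp_mem ht _)
    have c2 : Commute (ι (ww w i)) (bp a (oo k j)) := hX.comm (hw i) (bp_mem ha _)
    rw [en, en, en, c1.mul_mul_mul_comm, c2.mul_mul_mul_comm, b0_xr, h1, h2, bp_xor F.t2,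
      bp_xor (hX a ha), map_mul]
  · rintro ⟨i, rfl⟩
    exact X.mul_mem (bp_mem ht _) (X.mul_mem (bp_mem ha _) (hw i))
  · rw [en, oo, h5, h6]
    simp [bp, b0]
  · have e1 : pt p k i = p.getD (2 * kk k i + (b0 i).toNat) false := by
      rw [pt, b0]
      rcases Nat.mod_two_eq_zero_or_one i.1 with e | e <;> rw [e] <;> rfl
    rw [e1, hp _ (h4 i)]
    have e2 : ι (ww l i) * (bp a (oo k i) * ι (ww w i)) * (ι (ww l i))⁻¹ =
        bp a (oo k i) * ι (rp (kk k i)) := by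
      have h8 := h7 i
      cases e : oo k i
      · rw [e] at h8
        simp only [bp, Bool.false_eq_true, if_false, one_mul] at h8 ⊢
        rw [← map_inv, ← map_mul, ← map_mul]
        exact congrArg ι (Subtype.ext h8)
      · rw [e] at h8
        exact F.conj_out (ho i e) h8
    have c1 : Commute (ι (ww l i)) (bp t (b0 i)) := by
      cases b0 i
      · exact Commute.one_right _
      · exact (F.tC _).symm
    have e3 : ι (ww l i) * en ι t a k w i * (ι (ww l i))⁻¹ =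
        bp t (b0 i) * (bp a (oo k i) * ι (rp (kk k i))) := by
      rw [← e2, en, ← mul_assoc, c1.eq]
      simp only [mul_assoc]
    have hc : IsConj (en ι t a k w i) _ := isConj_iff.2 ⟨_, e3⟩
    exact ⟨fun h => h.trans hc.symm, fun h => h.trans hc⟩

theorem pat (F : Fr ι t) (h : ¬ IsConj t (t * ι z)) (a : G) : ∀ c < 5, ∀ b : Bool,
    (po (dc t (ι y)) (dc t (t * ι y)) (dc t a)
      (dc t (t * a)) (dc t (a * ι ys))
      (dc t (t * (a * ι ys)))).getD (2 * c + b.toNat) false = true ↔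
      IsConj t (bp t b * (bp a (Nat.ble 3 c) * ι (rp c))) := by
  intro c hc b
  have h1 := F.nz
  have h2 := F.t1
  interval_cases c <;> cases b <;> simp [po, bp, rp, -isConj_iff, h, h1, h2, Nat.ble, dc_iff, IsConj.refl]

theorem enA (F : Fr ι t) (h : ¬ IsConj t (t * ι z)) : En t (sT ι t E8) (en ι t 1 kA wA)
    (pt (pa (dc t (ι y)) (dc t (t * ι y))) kA) := by
  refine en_of F.toFr0 okA (F.el_sT el_E8.1) (by rw [F.card_sT, card_even.2.2.1])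
    (mem_sup_left (mem_zpowers t)) (one_mem _) le_sup_right
    (fun i hi => absurd (okA.2.2.2.1 i) (not_lt.2 (Nat.le_of_ble_eq_true hi))) (fun g hg => ?_)
    fun c hc b => ?_
  · obtain ⟨b, hb, hg⟩ := F.mem_sT.1 hg
    obtain ⟨i, hi, j, hj, k, hk, l, hl, e⟩ := E8_cases hb
    rcases hg with rfl | rfl
    · obtain ⟨m, h1, h2, h3⟩ := suA false i hi j hj k hk l hl
      exact ⟨m, by rw [en, h1, h2, Subtype.ext (h3.trans e.symm)]; simp [bp]⟩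
    · obtain ⟨m, h1, h2, h3⟩ := suA true i hi j hj k hk l hl
      exact ⟨m, by rw [en, h1, h2, Subtype.ext (h3.trans e.symm)]; simp [bp]⟩
  · rw [← pat F h 1 c (by omega) b]
    interval_cases c <;> cases b <;> rfl

theorem enO (F : Fr ι t) (h : ¬ IsConj t (t * ι z)) {a : G} (ha : Out ι t a) {k : List ℕ}
    {w l : List (List ℕ)} {Y : Subgroup S8} (H : Ok 5 k w l Y) (h1 : El Y) (h2 : τ ∈ Y)
    (h3 : Nat.card (Y.subgroupOf (PG.alt 8)) = 8)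
    (h4 : ∀ b : A8, (b : S8) ∈ Y → ∀ c d, ∃ m, b0 m = c ∧ oo k m = d ∧ (ww w m : S8) = b) :
    En t (sO ι t a Y) (en ι t a k w)
    (pt (po (dc t (ι y)) (dc t (t * ι y)) (dc t a)
      (dc t (t * a)) (dc t (a * ι ys))
      (dc t (t * (a * ι ys)))) k) := by
  refine en_of F.toFr0 H (F.el_sO ha h2 h1) (by rw [F.card_sO ha h2, h3])
    (mem_sup_left (mem_zpowers t)) (mem_sup_right (mem_sup_left (mem_zpowers a)))
    (le_sup_right.trans le_sup_right) (fun _ _ => ha) (fun g hg => ?_) (pat F h a)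
  obtain ⟨b, hb, hg⟩ := (F.mem_sO ha h2).1 hg
  rcases hg with rfl | rfl | rfl | rfl
  · obtain ⟨m, e1, e2, e3⟩ := h4 b hb false false
    exact ⟨m, by rw [en, e1, e2, Subtype.ext e3]; simp [bp]⟩
  · obtain ⟨m, e1, e2, e3⟩ := h4 b hb true false
    exact ⟨m, by rw [en, e1, e2, Subtype.ext e3]; simp [bp]⟩
  · obtain ⟨m, e1, e2, e3⟩ := h4 b hb false true
    exact ⟨m, by rw [en, e1, e2, Subtype.ext e3]; simp [bp]⟩
  · obtain ⟨m, e1, e2, e3⟩ := h4 b hb true true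
    exact ⟨m, by rw [en, e1, e2, Subtype.ext e3]; simp [bp]⟩

theorem suF' (b : A8) (hb : (b : S8) ∈ F8) (c d : Bool) :
    ∃ m, b0 m = c ∧ oo kF m = d ∧ (ww wF m : S8) = b := by
  obtain ⟨i, hi, j, hj, k, hk, l, hl, e⟩ := F8_cases hb
  rw [e]
  exact suF c d i hi j hj k hk l hl (e ▸ b.2)

theorem suM' (b : A8) (hb : (b : S8) ∈ M8) (c d : Bool) :
    ∃ m, b0 m = c ∧ oo kM m = d ∧ (ww wM m : S8) = b := by
  obtain ⟨i, hi, j, hj, k, hk, l, hl, e⟩ := M8_cases hb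
  rw [e]
  exact suM c d i hi j hj k hk l hl (e ▸ b.2)

theorem fin (F : Fr ι t) (h : ¬ IsConj t (t * ι z)) {X : Subgroup G} {e : Fin 32 → G}
    {P : Fin 32 → Bool} (H : En t X e P) {v : Fin 32}
    (hn : No P v (dc t (ι y)) (dc t (t * ι y))) : False := by
  obtain ⟨g, h1, h2 | ⟨a, ha, h2 | h2⟩⟩ :=
    F.trans H.el H.card ((H.mrk v).1 hn.1) ((H.mem _).2 ⟨v, rfl⟩)
  · exact hn.2.1 (H.mt (enA F h) h2 h1)
  · exact (hn.2.2 _ _ _ _).1
      (H.mt (enO F h ha okF el_F8.1 el_F8.2.2.1 card_even.2.2.2.1 suF') h2 h1)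
  · exact (hn.2.2 _ _ _ _).2
      (H.mt (enO F h ha okM el_M8.1 el_M8.2.2.1 card_even.2.2.2.2.1 suM') h2 h1)

end Orb

namespace Fr

variable (F : Fr ι t) (h : ¬ IsConj t (t * ι z))
include F h

theorem ny : ¬ IsConj t (ι y) ∧ ¬ IsConj t (t * ι y) := by
  by_contra hc
  refine Orb.fin F h (Orb.enA F h) (Orb.noA _ _ ?_)
  rw [Bool.or_eq_true, Orb.dc_iff, Orb.dc_iff]
  tauto

/-- at most one of the four outer classes is fused with `t` -/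
theorem one_cls {a : G} (ha : Out ι t a) :
    (¬ IsConj t a ∧ ¬ IsConj t (a * ι ys)) ∨ ¬ IsConj t (t * a) ∧ ¬ IsConj t (t * (a * ι ys)) := by
  by_contra hc
  have H := Orb.enO F h ha Orb.okF el_F8.1 el_F8.2.2.1 card_even.2.2.2.1 Orb.suF'
  refine Orb.fin F h H (v := if Orb.dc t a = true then 2 else 14) ?_
  rw [Orb.dc_false (F.ny h).1, Orb.dc_false (F.ny h).2]
  refine Orb.noF _ _ _ _ ?_
  simp only [Bool.and_eq_true, Bool.or_eq_true, Orb.dc_iff]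
  tauto

end Fr

end CfsgLib.A8S
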