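import Cfsg.Agent.Lib.A8S.Trn
import Cfsg.Agent.Lib.A8S.Hat1
import Cfsg.Agent.Lib.UFP.NU

/-!
# PRU: the product case, unique fixed point (plans/A8S.md)
-/

set_option autoImplicit false
set_option linter.unusedSectionVars false
set_option Elab.async false

namespace CfsgLib.A8S

open Subgroup Cfsg CfsgLib.Tech CfsgLib.W2 CfsgLib.Classical

universe u

variable {G : Type u} [Group G] [Finite G] {ι : A8 →* G} {t : G} {K : Subgroup G}

namespace Prd

variable {ι₁ ι₂ : A8 →* G} (d : Prd ι t ι₁ ι₂) (F : Fr ι t)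
include d F

theorem pru_ti : t⁻¹ = t := inv_eq_of_mul_eq_one_right F.t2

theorem symm : Prd ι t ι₂ ι₁ where
  inj a b e := d.inj (by simpa [← d.swp] using e)
  dia a := by rw [d.dia, d.com]
  com a b := (d.com b a).symm
  swp a := by
    rw [← d.swp, show t * (t * ι₁ a * t⁻¹) * t⁻¹ = t * t * ι₁ a * (t * t)⁻¹ by group, F.t2]
    group
  unq a n e w hw := (d.unq a n e w hw).symm

theorem mem_G0 {g : G} : g ∈ ι₁.range ⊔ ι₂.range ↔ ∃ a b, g = ι₁ a * ι₂ b := by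
  rw [← MonoidHom.noncommCoprod_range ι₁ ι₂ d.com]
  exact ⟨fun ⟨p, e⟩ => ⟨p.1, p.2, e.symm⟩, fun ⟨a, b, e⟩ => ⟨(a, b), e.symm⟩⟩

theorem uniq {a b a' b' : A8} (h : ι₁ a * ι₂ b = ι₁ a' * ι₂ b') : a = a' ∧ b = b' := by
  have e : ι₁ (a'⁻¹ * a) = ι₂ (b' * b⁻¹) := by
    rw [map_mul, map_mul, map_inv, map_inv, inv_mul_eq_iff_eq_mul, ← mul_assoc, ← h, mul_inv_cancel_right]
  have e1 : a' = a := inv_mul_eq_one.1 (CL.eq_one d.inj fun c => by rw [e, d.com])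
  subst e1
  exact ⟨rfl, (d.symm F).inj (mul_left_cancel h)⟩

theorem pru_ne : ι₁.range ≠ ι₂.range := fun e => by
  obtain ⟨b, hb⟩ : ι₁ z ∈ ι₂.range := e ▸ ⟨z, rfl⟩
  exact x_ne 0 3 (by decide) (d.uniq F (a := z) (b := 1) (a' := 1) (b' := b) (by simp [hb])).1

theorem pru_conj (a b c : A8) : ι₁ a * ι₂ b * ι₁ c * (ι₁ a * ι₂ b)⁻¹ = ι₁ (a * c * a⁻¹) := by
  rw [mul_assoc (ι₁ a), ← d.com, map_mul, map_mul, map_inv]
  group

theorem pru_norm : ι₁.range ⊔ ι₂.range ≤ normalizer (ι₁.range : Set G) := fun g hg => by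
  obtain ⟨a, b, rfl⟩ := (d.mem_G0 F).1 hg
  refine mem_normalizer_of_forall ?_
  rintro _ ⟨c, rfl⟩
  exact ⟨_, (d.pru_conj F a b c).symm⟩

theorem pru_card : Nat.card ι₁.range = Nat.card A8 :=
  (Nat.card_congr (MonoidHom.ofInjective d.inj).toEquiv).symm

/-- normal subgroups of `L₁ L₂` of order `|A₈|` -/
theorem pru_nrm {J : Subgroup G} (h1 : J ≤ ι₁.range ⊔ ι₂.range) (h2 : ι₁.range ⊔ ι₂.range ≤ normalizer (J : Set G))
    (h3 : Nat.card J = Nat.card A8) : J = ι₁.range ∨ J = ι₂.range := by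
  have hN : (J.comap ι₁).Normal := ⟨fun c hc a => by
    rw [mem_comap, map_mul, map_mul, map_inv]
    exact conj_mem_of_mem_normalizer (h2 (mem_sup_left ⟨a, rfl⟩)) hc⟩
  rcases simple_A8.eq_bot_or_eq_top_of_normal _ hN with e | e
  · refine .inr (eq_of_le_of_card_ge (fun j hj => ?_) (by rw [h3, (d.symm F).pru_card F]))
    obtain ⟨a, b, rfl⟩ := (d.mem_G0 F).1 (h1 hj)
    have : a = 1 := CL.eq_one d.inj fun c => by
      have h4 : a * c * a⁻¹ * c⁻¹ ∈ J.comap ι₁ := by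
        rw [mem_comap, map_mul, ← d.pru_conj F a b c, map_inv, mul_assoc, mul_assoc, ← mul_assoc (ι₁ c)]
        exact mul_mem hj (conj_mem_of_mem_normalizer (h2 (mem_sup_left ⟨c, rfl⟩)) (inv_mem hj))
      rw [e, mem_bot, mul_inv_eq_one, mul_inv_eq_iff_eq_mul] at h4
      rw [← map_mul, h4, map_mul]
    exact ⟨b, by simp [this]⟩
  · refine .inl (eq_of_le_of_card_ge ?_ (by rw [h3, d.pru_card F])).symm
    rintro _ ⟨a, rfl⟩
    exact mem_comap.1 (e ▸ mem_top a)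

theorem conj_range : cj t ι₁.range = ι₂.range := by
  refine le_antisymm (cj_le_iff.2 ?_) ?_
  · rintro _ ⟨a, rfl⟩
    exact ⟨a, (d.swp a).symm⟩
  · rintro _ ⟨a, rfl⟩
    rw [← d.swp]
    exact conj_mem_cj.2 ⟨a, rfl⟩

theorem pru_t : t ∈ normalizer ((ι₁.range ⊔ ι₂.range : Subgroup G) : Set G) := by
  rw [mem_normalizer_iff_cj, cj_sup, d.conj_range F, (d.symm F).conj_range F, sup_comm]

theorem pru_perm {n : G} (hn : n ∈ normalizer ((ι₁.range ⊔ ι₂.range : Subgroup G) : Set G)) :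
    cj n ι₁.range = ι₁.range ∨ cj n ι₁.range = ι₂.range := by
  rw [mem_normalizer_iff_cj] at hn
  refine d.pru_nrm F (hn ▸ cj_mono n le_sup_left) ?_ (by rw [card_cj, d.pru_card F])
  rw [← cj_normalizer, ← hn]
  exact cj_mono n (d.pru_norm F)

/-- `N(L₁ L₂)` permutes the factors -/
theorem perm {n : G} (hn : n ∈ normalizer ((ι₁.range ⊔ ι₂.range : Subgroup G) : Set G)) :
    (cj n ι₁.range = ι₁.range ∧ cj n ι₂.range = ι₂.range) ∨
      cj n ι₁.range = ι₂.range ∧ cj n ι₂.range = ι₁.range := by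
  rcases d.pru_perm F hn with h1 | h1 <;>
    rcases (d.symm F).pru_perm F (n := n) (by rwa [sup_comm]) with h2 | h2
  · exact .inl ⟨h1, h2⟩
  · exact absurd (cj_injective n (h1.trans h2.symm)) (d.pru_ne F)
  · exact absurd (cj_injective n (h1.trans h2.symm)) (d.pru_ne F)
  · exact .inr ⟨h1, h2⟩

theorem pru_tN : t ∉ normalizer (ι₁.range : Set G) := fun h =>
  d.pru_ne F ((mem_normalizer_iff_cj.1 h).symm.trans (d.conj_range F))

theorem odd_cen : Odd (Nat.card (centralizer ((ι₁.range ⊔ ι₂.range : Subgroup G) : Set G))) := by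
  refine SLE.odd_of_inv F.t2 (by
    rw [mem_normalizer_iff_cj, cj_centralizer, mem_normalizer_iff_cj.1 (d.pru_t F)]) fun c hc c2 ct => ?_
  refine (F.eq_t (fun a => (hc _ ((d.mem_G0 F).2 ⟨a, a, d.dia a⟩)).symm) ct c2).resolve_right ?_
  rintro rfl
  exact d.pru_tN F (centralizer_le_normalizer _ fun y hy => hc y (mem_sup_left (S := ι₁.range) hy))

omit d F in
theorem pru_eight (hi : Function.Injective ι) {s : G} (s2 : s * s = 1) (h : cj s ι.range = ι.range) :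
    ∃ X : Subgroup A8, El X ∧ Nat.card X = 8 ∧ ∀ a ∈ X, s * ι a = ι a * s := by
  obtain ⟨p, hp⟩ := ac_of_norm hi (mem_normalizer_iff_cj.2 h)
  obtain ⟨X, h1, h2, h3⟩ := cen_eight (p := p) (Ac.unique hi (hp.mul hp) (s2 ▸ ac_one_iff.2 fun a => by simp))
  exact ⟨X, h1, h2, fun a ha => mul_inv_eq_iff_eq_mul.1 (by rw [hp a, h3 a ha])⟩

/-- no conjugate of `t` normalises both factors -/
theorem n_fix {s : G} (hs : IsConj t s) (h1 : cj s ι₁.range = ι₁.range)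
    (h2 : cj s ι₂.range = ι₂.range) : False := by
  have s2 : s * s = 1 := by
    obtain ⟨g, rfl⟩ := isConj_iff.1 hs
    rw [show g * t * g⁻¹ * (g * t * g⁻¹) = g * (t * t) * g⁻¹ by group, F.t2]
    group
  obtain ⟨X, a1, a2, a3⟩ := pru_eight d.inj s2 h1
  obtain ⟨Y, b1, b2, b3⟩ := pru_eight (d.symm F).inj s2 h2
  refine F.toFr0.no64 (X := (X.prod Y).map (ι₁.noncommCoprod ι₂ d.com)) ?_ ?_ hs ?_
  · rintro _ ⟨p, hp, rfl⟩
    rw [← map_mul, show p * p = 1 from Prod.ext (a1 _ hp.1) (b1 _ hp.2), map_one]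
  · rw [card_map_of_injective fun p q e => Prod.ext (d.uniq F e).1 (d.uniq F e).2,
      Nat.card_congr (X.prodEquiv Y).toEquiv, Nat.card_prod, a2, b2]
  · rintro _ ⟨p, hp, rfl⟩
    refine mem_Cx.2 ?_
    show ι₁ p.1 * ι₂ p.2 * s = s * (ι₁ p.1 * ι₂ p.2)
    rw [mul_assoc, ← b3 _ hp.2, ← mul_assoc, ← a3 _ hp.1, mul_assoc]

/-- conjugates of `t` swapping the factors are native -/
theorem native {g : G} (h1 : cj (g * t * g⁻¹) ι₁.range = ι₂.range) :
    g ∈ normalizer ((ι₁.range ⊔ ι₂.range : Subgroup G) : Set G) := by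
  have ti := d.pru_ti F
  let j : A8 →* G := (MulAut.conj g⁻¹).toMonoidHom.comp ι₁
  have hj : ∀ a, j a = g⁻¹ * ι₁ a * g := fun a => by simp [j]
  have h2 : ∀ a, ∃ b, t * j a * t = g⁻¹ * ι₂ b * g := fun a => by
    obtain ⟨b, hb⟩ : g * t * g⁻¹ * ι₁ a * (g * t * g⁻¹)⁻¹ ∈ ι₂.range := h1 ▸ conj_mem_cj.2 ⟨a, rfl⟩
    exact ⟨b, by rw [hb, hj]; nth_rewrite 2 [← ti]; group⟩
  have cm : ∀ a b, j a * (t * j b * t) = t * j b * t * j a := fun a b => by
    obtain ⟨c, hc⟩ := h2 b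
    rw [hc, hj, show g⁻¹ * ι₁ a * g * (g⁻¹ * ι₂ c * g) = g⁻¹ * (ι₁ a * ι₂ c) * g by group, d.com]
    group
  let δ : A8 →* G := MonoidHom.mk' (fun a => j a * (t * j a * t)) fun a b => by
    have : t * (j a * j b) * t = t * j a * t * (t * j b * t) := by
      rw [show t * j a * t * (t * j b * t) = t * j a * (t * t) * j b * t by group, F.t2]
      group
    rw [map_mul, this, mul_assoc, ← mul_assoc (j b), cm b a]
    group
  have hδ : ∀ a, δ a = j a * (t * j a * t) := fun _ => rfl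
  have hi : Function.Injective δ := (injective_iff_map_eq_one δ).2 fun a e => by
    obtain ⟨c, hc⟩ := h2 a
    rw [hδ, hc, hj] at e
    refine (d.uniq F (b := c) (a' := 1) (b' := 1) ?_).1
    calc _ = g * (g⁻¹ * ι₁ a * g * (g⁻¹ * ι₂ c * g)) * g⁻¹ := by group
      _ = _ := by simp [e]
  have hr := F.toFr0.range_eq hi (by
    rintro _ ⟨a, rfl⟩
    rw [mem_Cx, hδ, mul_assoc, mul_assoc, F.t2, mul_one, cm,
      show t * (t * j a * t * j a) = t * t * j a * (t * j a) by group, F.t2, one_mul])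
  have key : ∀ a, j a ∈ ι₁.range ⊔ ι₂.range := by
    have top : (((ι₁.range ⊔ ι₂.range).comap j).map δ).comap ι = ⊤ := gen_x fun i k hik => by
      obtain ⟨a, ha⟩ : ι (x i k) ∈ δ.range := hr ▸ ⟨_, rfl⟩
      have a2 : a * a = 1 := hi (by rw [map_mul, ha, ← map_mul, x_sq, map_one, map_one])
      have j2 : j a * j a = 1 := by rw [← map_mul, a2, map_one]
      refine ⟨a, ?_, ha⟩
      have kp : Kp ι t (x i k) (j a) := ⟨j2, fun c hc => ?_, ?_⟩
      · rcases d.unq _ _ (nn_z i k hik) _ kp with e | e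
        · exact mem_comap.2 (e ▸ mem_sup_left ⟨_, rfl⟩)
        · exact mem_comap.2 (e ▸ mem_sup_right ⟨_, rfl⟩)
      · obtain ⟨b, hb⟩ : ι c ∈ δ.range := hr ▸ ⟨_, rfl⟩
        have e : b * a = a * b := hi (by rw [map_mul, map_mul, ha, hb, ← map_mul, hc, map_mul])
        rw [← hb, hδ, ← mul_assoc, ← map_mul, ← e, map_mul, mul_assoc, cm, ← mul_assoc]
      · rw [← ha, hδ, cm, inv_eq_of_mul_eq_one_right j2,
          show t * (t * j a * t * j a) = t * t * (j a * t * j a) by group, F.t2, one_mul]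
    intro a
    obtain ⟨b, hb⟩ : δ a ∈ ι.range := hr ▸ ⟨_, rfl⟩
    obtain ⟨c, hc, e⟩ := mem_comap.1 (top ▸ mem_top b : b ∈ (((ι₁.range ⊔ ι₂.range).comap j).map δ).comap ι)
    exact hi (e.trans hb) ▸ hc
  refine inv_mem_iff.1 (mem_normalizer_of_cj_le ?_)
  have k1 : cj g⁻¹ ι₁.range ≤ ι₁.range ⊔ ι₂.range := cj_le_iff.2 (by
    rintro _ ⟨a, rfl⟩
    rw [inv_inv, ← hj]
    exact key a)
  rw [cj_sup]
  refine sup_le k1 ?_
  rw [← h1, ← cj_mul, show g⁻¹ * (g * t * g⁻¹) = t * g⁻¹ by group, cj_mul, h1,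
    ← mem_normalizer_iff_cj.1 (d.pru_t F)]
  exact cj_mono t k1

theorem uu : UFP.U (normalizer ((ι₁.range ⊔ ι₂.range : Subgroup G) : Set G)) t :=
  ⟨F.t2, d.pru_t F, fun g hg => (d.perm F hg).elim
    (fun h => (d.n_fix F (isConj_iff.2 ⟨g, rfl⟩) h.1 h.2).elim) fun h => d.native F h.1⟩

theorem not_mem (g : SLE.Glob K t) : t ∉ K := by
  obtain ⟨B, _, _, l, -, hl⟩ := SLE.exists_two_hom
    (G1 := normalizer ((ι₁.range ⊔ ι₂.range : Subgroup G) : Set G))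
    (N0 := normalizer ((ι₁.range ⊔ ι₂.range : Subgroup G) : Set G) ⊓ normalizer (ι₁.range : Set G)) inf_le_left
    fun a ha b hb => mem_inf.2 ⟨mul_mem (mul_mem (mul_mem ha hb) (inv_mem ha)) (inv_mem hb), by
      have e : cj (a⁻¹ * b⁻¹) ι₁.range = cj (b⁻¹ * a⁻¹) ι₁.range := by
        rcases d.perm F (inv_mem ha) with ⟨h1, h2⟩ | ⟨h1, h2⟩ <;>
          rcases d.perm F (inv_mem hb) with ⟨h3, h4⟩ | ⟨h3, h4⟩ <;> simp only [cj_mul, h1, h2, h3, h4]
      refine mem_normalizer_iff_cj.2 ?_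
      rw [mul_assoc, cj_mul, e, ← cj_mul, show a * b * (b⁻¹ * a⁻¹) = 1 by group, cj_one]⟩
  refine g.not_mem (UFP.not_mem_commutator F.t2 (d.pru_t F) l (fun h => ?_) fun x hx _ => (d.uu F).uniq x hx)
  obtain ⟨m, ⟨k, rfl⟩, h1⟩ := (hl _).1 h
  rw [pow_succ, pow_mul, pow_two, F.t2, one_pow, one_mul] at h1
  exact d.pru_tN F h1.2

end Prd

end CfsgLib.A8S
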